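import Groth.Agent.Pi1Formal.SmoothLocal
import Groth.Agent.Pi1Purity.Extend
import Groth.Agent.Pi1Purity.DescendPure
import Groth.Agent.Pi1Depth.Basic
import Mathlib

/-!
# Relative purity for smooth morphisms
-/

universe u

set_option autoImplicit false
set_option backward.isDefEq.respectTransparency false
set_option linter.style.haveILetI false

open CategoryTheory Limits AlgebraicGeometry IsLocalRing

namespace Groth.Pi1Formal

open Pi1FEt

/-- Purity and depth at a point of a smooth scheme not generic in its fibre. -/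
theorem isPureDeep_stalk {X S : Scheme.{u}} (f : X ⟶ S) [Smooth f] [IsLocallyNoetherian S] {x y : X}
    (hyx : y ⤳ x) (hne : y ≠ x) (hy : f y = f x)
    (H : (2 : ℕ∞) ≤ LocCoh.depth (S.presheaf.stalk (f x)) (S.presheaf.stalk (f x)) ∨
      (∃ a ∈ maximalIdeal (S.presheaf.stalk (f x)), IsSMulRegular (S.presheaf.stalk (f x)) a) ∧
      ∃ y₀ : X, y₀ ⤳ y ∧ y₀ ≠ y ∧ f y₀ = f x) :
    IsPureDeep (X.presheaf.stalk x) := by
  obtain ⟨_, ⟨V, hV, rfl⟩, hxV, -⟩ :=
    S.isBasis_affineOpens.exists_subset_of_mem_open (Set.mem_univ (f x)) isOpen_univ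
  obtain ⟨_, ⟨W, hW, rfl⟩, hxW, hWV⟩ :=
    X.isBasis_affineOpens.exists_subset_of_mem_open (show x ∈ f ⁻¹ᵁ V from hxV) (f ⁻¹ᵁ V).2
  let φ := f.appLE V W hWV
  haveI : IsNoetherianRing Γ(S, V) := IsLocallyNoetherian.component_noetherian ⟨V, hV⟩
  letI : Algebra Γ(S, V) Γ(X, W) := φ.hom.toAlgebra
  haveI : Algebra.Smooth Γ(S, V) Γ(X, W) := RingHom.smooth_algebraMap.1 (f.smooth_appLE hV hW hWV)
  let pr : ∀ z : X, z ∈ W → Ideal Γ(X, W) := fun z hz => (hW.primeIdealOf ⟨z, hz⟩).asIdeal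
  have hmemW : ∀ z, z ⤳ x → z ∈ W := fun z hz => W.2.stableUnderGeneralization hz hxW
  have hfib : ∀ z (hz : z ∈ W) (hfz : f z = f x), (pr z hz).comap (algebraMap Γ(S, V) Γ(X, W)) =
      (hV.primeIdealOf ⟨f x, hWV hxW⟩).asIdeal := fun z hz hfz => by
    refine (congrArg PrimeSpectrum.asIdeal (IsAffineOpen.comap_primeIdealOf_appLE V hV W hW hWV hz)).trans ?_
    congr 2
    exact Subtype.ext hfz
  have hlt : ∀ a b (ha : a ∈ W) (hb : b ∈ W), a ⤳ b → a ≠ b → pr a ha < pr b hb := by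
    intro a b ha hb hab hne
    let wa := hW.primeIdealOf ⟨a, ha⟩
    let wb := hW.primeIdealOf ⟨b, hb⟩
    have ea : hW.fromSpec wa = a := hW.fromSpec_primeIdealOf ⟨a, ha⟩
    have eb : hW.fromSpec wb = b := hW.fromSpec_primeIdealOf ⟨b, hb⟩
    refine lt_of_le_of_ne ?_ fun he => hne ?_
    · rw [← ea, ← eb, hW.fromSpec.isOpenEmbedding.isInducing.specializes_iff] at hab
      exact (PrimeSpectrum.le_iff_specializes wa wb).2 hab
    · rw [← ea, ← eb, show wa = wb from PrimeSpectrum.ext he]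
  let P := pr x hxW
  letI : Algebra Γ(X, W) (X.presheaf.stalk x) := X.presheaf.algebra_section_stalk ⟨x, hxW⟩
  haveI : IsLocalization.AtPrime (X.presheaf.stalk x) P := hW.isLocalization_stalk ⟨x, hxW⟩
  refine IsPureDeep.of_ringEquiv (IsLocalization.algEquiv P.primeCompl (Localization.AtPrime P)
    (X.presheaf.stalk x)).toRingEquiv ?_
  let p := (hV.primeIdealOf ⟨f x, hWV hxW⟩).asIdeal
  letI : Algebra Γ(S, V) (S.presheaf.stalk (f x)) := S.presheaf.algebra_section_stalk ⟨f x, hWV hxW⟩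
  haveI : IsLocalization.AtPrime (S.presheaf.stalk (f x)) p := hV.isLocalization_stalk ⟨f x, hWV hxW⟩
  let e : S.presheaf.stalk (f x) ≃ₐ[Γ(S, V)] Localization.AtPrime p :=
    IsLocalization.algEquiv p.primeCompl _ _
  refine purityHolds_of_smooth P (pr y (hmemW y hyx)) (hlt y x _ hxW hyx hne)
    ((hfib y _ hy).trans (hfib x hxW rfl).symm) ?_
  rcases H with hd | ⟨⟨a, ha, hreg⟩, y₀, hy₀, hy₀ne, hy₀f⟩
  · exact Or.inl (depth_congr (hfib x hxW rfl).symm (by rw [← Ega4b.depth_eq_of_ringEquiv e.toRingEquiv]; exact hd))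
  · right
    obtain ⟨b, s, rfl⟩ := IsLocalization.exists_mk'_eq p.primeCompl a
    have hb : b ∈ p := (IsLocalization.AtPrime.mk'_mem_maximal_iff (S.presheaf.stalk (f x)) p b s).1 ha
    refine ⟨⟨b, (hfib x hxW rfl).ge hb, regular_congr (hfib x hxW rfl).symm b ?_⟩,
      pr y₀ (hmemW y₀ (hy₀.trans hyx)), inferInstance, hlt y₀ y _ _ hy₀ hy₀ne,
      (hfib y₀ _ hy₀f).trans (hfib x hxW rfl).symm⟩
    rw [isSMulRegular_iff_right_eq_zero_of_smul]
    intro z hz
    rw [isSMulRegular_iff_right_eq_zero_of_smul] at hreg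
    have h1 := congrArg e.symm hz
    rw [smul_eq_mul, map_mul, map_zero, AlgEquiv.commutes, ← IsLocalization.mk'_spec (S.presheaf.stalk (f x)) b s,
      mul_comm (IsLocalization.mk' _ b s), mul_assoc] at h1
    exact e.symm.injective (((hreg _ ((IsLocalization.map_units (S.presheaf.stalk (f x)) s).mul_right_eq_zero.1 h1))).trans
      (map_zero _).symm)

theorem essSurj_of_purity {X : Scheme.{u}} [IsLocallyNoetherian X] (U : X.Opens)
    (hbij : ∀ O : X.Opens, Function.Bijective (U.ι.app O))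
    (h : ∀ x : X, x ∉ U → FEt.PurityHolds (X.presheaf.stalk x)) : (FEt.restrict U.ι).EssSurj := by
  refine Pi1Purity.essSurj_of_extendsOnAffines (𝟙 X) hbij ?_
  intro T i hi hT P a b hP W₀
  haveI := hi
  haveI := hT
  haveI : IsLocallyNoetherian T := isLocallyNoetherian_of_isOpenImmersion i
  haveI : IsNoetherian T := {}
  let φ : P ≅ ((i ≫ 𝟙 X) ⁻¹ᵁ U : T.Opens) :=
    hP.isoIsPullback _ _ (isPullback_morphismRestrict (i ≫ 𝟙 X) U)
  have hφ : φ.hom ≫ ((i ≫ 𝟙 X) ⁻¹ᵁ U).ι = b :=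
    hP.isoIsPullback_hom_snd _ _ (isPullback_morphismRestrict (i ≫ 𝟙 X) U)
  have hess : (FEt.restrict ((i ≫ 𝟙 X) ⁻¹ᵁ U).ι).EssSurj :=
    Pi1Purity.restrict_essSurj_of_purity _ fun x hx =>
      purityHolds_of_ringEquiv (asIso (i.stalkMap x)).commRingCatIsoToRingEquiv (h (i x) hx)
  haveI := hess
  let W₁ := (FEt.restrict φ.inv).obj W₀
  let V := (FEt.restrict ((i ≫ 𝟙 X) ⁻¹ᵁ U).ι).objPreimage W₁
  exact ⟨V, exists_isPullback_of_iso b V W₀ ((restrictCongr hφ.symm).app V ≪≫
    (restrictCompIso φ.hom _).app V ≪≫ (FEt.restrict φ.hom).mapIso ((FEt.restrict _).objObjPreimageIso W₁) ≪≫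
    ((restrictCompIso φ.hom φ.inv).app W₀).symm ≪≫ (restrictCongr φ.hom_inv_id).app W₀ ≪≫
    (restrictIdIso P).app W₀)⟩

/-- Restriction to an open with pure complement of depth two is an equivalence. -/
theorem isEquivalence_of_isPureDeep {X : Scheme.{u}} [IsLocallyNoetherian X] (U : X.Opens)
    (h : ∀ x : X, x ∉ U → IsPureDeep (X.presheaf.stalk x)) : (FEt.restrict U.ι).IsEquivalence := by
  have hbij := Pi1Depth.bijective_app_of_two_le_depth U fun x hx => (h x hx).2
  obtain ⟨hfull, hfaith⟩ := restrict_full_faithful_of_bijective_app U.ι hbij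
  haveI := essSurj_of_purity U hbij fun x hx => (h x hx).1
  exact { }

end Groth.Pi1Formal

namespace Groth.Pi1Formal

open TopologicalSpace in
/-- A dense open of a locally Noetherian scheme contains a generisation of every point. -/
theorem exists_specializes_of_dense {X : Scheme.{u}} [IsLocallyNoetherian X] (U : X.Opens)
    (hU : Dense (U : Set X)) (x : X) : ∃ y ∈ U, y ⤳ x := by
  classical
  obtain ⟨_, ⟨V, hV, rfl⟩, hxV, -⟩ :=
    X.isBasis_affineOpens.exists_subset_of_mem_open (Set.mem_univ x) isOpen_univ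
  haveI : IsAffine (V : Scheme.{u}) := hV
  haveI : IsLocallyNoetherian (V : Scheme.{u}) := inferInstance
  haveI : IsNoetherian (V : Scheme.{u}) := {}
  let x' : (V : Scheme.{u}) := ⟨x, hxV⟩
  let C : Set (V : Scheme.{u}) := irreducibleComponent x'
  let o : Set (V : Scheme.{u}) := (⋃₀ (irreducibleComponents (V : Scheme.{u}) \ {C}))ᶜ
  have ho : IsOpen o := isOpen_compl_iff.2 (by
    rw [Set.sUnion_eq_biUnion]
    exact (NoetherianSpace.finite_irreducibleComponents.sdiff).isClosed_biUnion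
      fun s hs => isClosed_of_mem_irreducibleComponents s hs.1)
  have hC : IsIrreducible C := isIrreducible_irreducibleComponent
  have hoC : o ⊆ C := fun z hz => by
    by_contra hzC
    exact hz ⟨irreducibleComponent z, ⟨irreducibleComponent_mem_irreducibleComponents z, fun he =>
      hzC (he ▸ mem_irreducibleComponent)⟩, mem_irreducibleComponent⟩
  have hne : o.Nonempty := by
    by_contra hemp
    rw [Set.not_nonempty_iff_eq_empty, Set.compl_empty_iff, Set.eq_univ_iff_forall] at hemp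
    have hfin := (NoetherianSpace.finite_irreducibleComponents (α := (V : Scheme.{u}))).sdiff (t := {C})
    obtain ⟨z, hz, hCz⟩ := (isIrreducible_iff_sUnion_isClosed.1 hC) hfin.toFinset
      (fun z hz => isClosed_of_mem_irreducibleComponents z (hfin.mem_toFinset.1 hz).1)
      (fun z _ => by rw [hfin.coe_toFinset]; exact hemp z)
    rw [hfin.mem_toFinset] at hz
    exact hz.2 (le_antisymm ((irreducibleComponent_mem_irreducibleComponents x').2 hz.1.1 hCz) hCz)
  obtain ⟨z, hz⟩ : (o ∩ (Scheme.Opens.ι V).base ⁻¹' (U : Set X)).Nonempty := by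
    obtain ⟨w, hw⟩ := hne
    have h1 : IsOpen ((Scheme.Opens.ι V).base '' o) := (Scheme.Opens.ι V).isOpenEmbedding.isOpenMap _ ho
    obtain ⟨_, ⟨w', hw', rfl⟩, hU'⟩ := hU.inter_open_nonempty _ h1 ⟨_, w, hw, rfl⟩
    exact ⟨w', hw', hU'⟩
  let η := hC.genericPoint
  have hη : closure {η} = C := by
    rw [hC.genericPoint_closure_eq, (isClosed_irreducibleComponent).closure_eq]
  have hηz : η ⤳ z := specializes_iff_mem_closure.2 (hη.ge (hoC hz.1))
  have hηx : η ⤳ x' := specializes_iff_mem_closure.2 (hη.ge mem_irreducibleComponent)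
  exact ⟨(Scheme.Opens.ι V) η, U.2.stableUnderGeneralization (hηz.map (Scheme.Opens.ι V).continuous) hz.2, hηx.map (Scheme.Opens.ι V).continuous⟩

/-- Smooth morphisms over a base of depth two: purity off an open dense in the fibres. -/
theorem isEquivalence_restrict_depth_two {X S : Scheme.{u}} (f : X ⟶ S) [Smooth f] [IsLocallyNoetherian S]
    (U : X.Opens)
    (h3 : ∀ x : X, x ∉ U → (2 : ℕ∞) ≤ LocCoh.depth (S.presheaf.stalk (f x)) (S.presheaf.stalk (f x)))
    (h4 : ∀ s : S, f.base ⁻¹' {s} ⊆ closure ((U : Set X) ∩ f.base ⁻¹' {s})) :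
    (FEt.restrict U.ι).IsEquivalence := by
  haveI : IsLocallyNoetherian X := LocallyOfFiniteType.isLocallyNoetherian f
  refine isEquivalence_of_isPureDeep U fun x hx => ?_
  let ι := f.fiberι (f x)
  haveI : IsLocallyNoetherian (f.fiber (f x)) := by
    haveI : LocallyOfFiniteType (f.fiberToSpecResidueField (f x)) :=
      MorphismProperty.pullback_snd _ _ inferInstance
    exact LocallyOfFiniteType.isLocallyNoetherian (f.fiberToSpecResidueField (f x))
  have hd : Dense ((ι ⁻¹ᵁ U : (f.fiber (f x)).Opens) : Set (f.fiber (f x))) := by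
    intro z
    rw [ι.isEmbedding.isInducing.closure_eq_preimage_closure_image, Set.mem_preimage]
    have hzf : ι z ∈ f.base ⁻¹' {f x} := (f.range_fiberι (f x)).le ⟨z, rfl⟩
    refine closure_mono ?_ (h4 _ hzf)
    rintro w ⟨hwU, hwf⟩
    obtain ⟨w', rfl⟩ := (f.range_fiberι (f x)).ge hwf
    exact ⟨w', hwU, rfl⟩
  obtain ⟨x', hx'⟩ := (f.range_fiberι (f x)).ge (rfl : f x = f x)
  obtain ⟨y, hy, hyx⟩ := exists_specializes_of_dense _ hd x'
  exact isPureDeep_stalk f ((hyx.map ι.continuous).trans (specializes_of_eq hx'))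
    (fun he => hx (he ▸ (show ι y ∈ U from hy)))
    ((f.range_fiberι (f x)).le ⟨y, rfl⟩) (Or.inl (h3 x hx))

end Groth.Pi1Formal
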