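import Groth.Agent.Pi1Formal.Purity
import Groth.Agent.Pi1Purity.Extend
import Mathlib

/-!
# Transport and descent of purity for local rings
-/

universe u

set_option autoImplicit false
set_option backward.isDefEq.respectTransparency false
set_option linter.style.haveILetI false

open CategoryTheory Limits AlgebraicGeometry IsLocalRing

namespace Groth.Pi1Formal

open Pi1FEt

theorem two_le_depth_of_pair {R : Type u} [CommRing R] [IsLocalRing R] {a b : R} (ha : a ∈ maximalIdeal R)
    (hb : b ∈ maximalIdeal R) (h : RingTheory.Sequence.IsWeaklyRegular R [a, b]) :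
    (2 : ℕ∞) ≤ LocCoh.depth R R := by
  unfold LocCoh.depth LocCoh.idealDepth
  split
  · exact le_top
  · refine le_iSup₂_of_le [a, b] ⟨h, ?_⟩ le_rfl
    intro r hr
    rcases List.mem_cons.1 hr with rfl | hr
    · exact ha
    · rcases List.mem_cons.1 hr with rfl | hr
      · exact hb
      · exact absurd hr (List.not_mem_nil)

theorem two_le_depth_of_flat {A B : Type u} [CommRing A] [IsLocalRing A] [IsNoetherianRing A] [CommRing B]
    [IsLocalRing B] [Algebra A B] [IsLocalHom (algebraMap A B)] [Module.Flat A B]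
    (hA : (2 : ℕ∞) ≤ LocCoh.depth A A) : (2 : ℕ∞) ≤ LocCoh.depth B B := by
  obtain ⟨a, b, ha, hb, hw⟩ := PicAux.exists_regular_pair hA
  exact two_le_depth_of_pair (map_nonunit (algebraMap A B) a ha) (map_nonunit (algebraMap A B) b hb)
    (hw.of_flat (S := B))

/-- Essential surjectivity of restriction moves along isomorphisms. -/
theorem essSurj_of_square {X X' U U' : Scheme.{u}} (f : X' ⟶ X) [IsIso f] (g : U' ⟶ U) [IsIso g]
    (i : U ⟶ X) (i' : U' ⟶ X') (h : g ≫ i = i' ≫ f) (hi : (FEt.restrict i).EssSurj) :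
    (FEt.restrict i').EssSurj := by
  haveI := hi
  refine ⟨fun W => ?_⟩
  let W₀ := (FEt.restrict (inv g)).obj W
  let Y := (FEt.restrict i).objPreimage W₀
  refine ⟨(FEt.restrict f).obj Y, ⟨((restrictCompIso i' f).app Y).symm ≪≫ (restrictCongr h.symm).app Y ≪≫
    (restrictCompIso g i).app Y ≪≫ (FEt.restrict g).mapIso ((FEt.restrict i).objObjPreimageIso W₀) ≪≫
    ((restrictCompIso g (inv g)).app W).symm ≪≫ (restrictCongr (IsIso.hom_inv_id g)).app W ≪≫
    (restrictIdIso U').app W⟩⟩

/-- Purity moves along isomorphisms. -/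
theorem purityHolds_of_ringEquiv {A B : Type u} [CommRing A] [IsLocalRing A] [CommRing B] [IsLocalRing B]
    (e : A ≃+* B) (h : FEt.PurityHolds A) : FEt.PurityHolds B := by
  let φ : CommRingCat.of A ⟶ CommRingCat.of B := CommRingCat.ofHom e.toRingHom
  haveI : IsIso φ := e.toCommRingCatIso.isIso_hom
  let f := Spec.map φ
  have hU : f ⁻¹ᵁ FEt.puncturedSpec A = FEt.puncturedSpec B := by
    ext p
    refine not_congr ⟨fun hp => ?_, fun hp => ?_⟩
    · refine PrimeSpectrum.ext ?_
      have h1 : Ideal.comap e.toRingHom (p : PrimeSpectrum B).asIdeal = maximalIdeal A :=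
        congrArg PrimeSpectrum.asIdeal hp
      refine le_antisymm (le_maximalIdeal p.isPrime.ne_top) fun x hx => ?_
      have h2 : e.symm x ∈ maximalIdeal A := fun hu => hx (by simpa using hu.map e)
      rw [← h1] at h2
      have h3 : e (e.symm x) ∈ (p : PrimeSpectrum B).asIdeal := h2
      rwa [e.apply_symm_apply] at h3
    · refine PrimeSpectrum.ext ?_
      have h1 : (p : PrimeSpectrum B).asIdeal = maximalIdeal B := congrArg PrimeSpectrum.asIdeal hp
      show Ideal.comap e.toRingHom (p : PrimeSpectrum B).asIdeal = maximalIdeal A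
      rw [h1]
      ext x
      simp
  let eq : ((FEt.puncturedSpec B : (Spec (CommRingCat.of B)).Opens) : Scheme.{u}) ≅ (f ⁻¹ᵁ FEt.puncturedSpec A) :=
    (Spec (CommRingCat.of B)).isoOfEq hU.symm
  refine essSurj_of_square f (eq.hom ≫ f ∣_ FEt.puncturedSpec A) (FEt.puncturedSpec A).ι
    (FEt.puncturedSpec B).ι ?_ h
  rw [Category.assoc, morphismRestrict_ι, ← Category.assoc]
  congr 1
  exact Scheme.isoOfEq_hom_ι _ _

theorem exists_isPullback_of_iso {P T : Scheme.{u}} (b : P ⟶ T) (V : FEt.Cat T) (W₀ : FEt.Cat P)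
    (φ : (FEt.restrict b).obj V ≅ W₀) : ∃ z : W₀.left ⟶ V.left, IsPullback W₀.hom z b V.hom := by
  let e := (MorphismProperty.Over.forget _ _ _ ⋙ Over.forget _).mapIso φ
  refine ⟨e.inv ≫ pullback.fst V.hom b, ?_⟩
  refine (IsPullback.of_hasPullback V.hom b).flip.of_iso e (Iso.refl _) (Iso.refl _) (Iso.refl _) ?_ ?_ (by simp) (by simp)
  · rw [Iso.refl_hom, Category.comp_id]
    exact (MorphismProperty.Over.w φ.hom).symm
  · simp

/-- Purity descends along faithfully flat maps with pure points over the closed point. -/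
theorem purityHolds_of_flat {B B' : Type u} [CommRing B] [IsNoetherianRing B] [IsLocalRing B]
    [CommRing B'] [IsNoetherianRing B'] [Algebra B B'] [Module.FaithfullyFlat B B']
    (hB : (2 : ℕ∞) ≤ LocCoh.depth B B)
    (h : ∀ (q : Ideal B') [q.IsPrime], q.comap (algebraMap B B') = maximalIdeal B →
      FEt.PurityHolds (Localization.AtPrime q)) :
    FEt.PurityHolds B := by
  let g : Spec (CommRingCat.of B') ⟶ Spec (CommRingCat.of B) := Spec.map (CommRingCat.ofHom (algebraMap B B'))
  haveI : Flat g := (HasRingHomProperty.Spec_iff (P := @Flat)).2 (RingHom.flat_algebraMap_iff.2 inferInstance)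
  haveI : Surjective g := ⟨PrimeSpectrum.comap_surjective_of_faithfullyFlat⟩
  refine Pi1Purity.essSurj_of_extendsOnAffines g (Pi1Depth.bijective_app_puncturedSpec B hB) ?_
  intro T i hi hT P a b hP W₀
  haveI := hi
  haveI := hT
  haveI : IsLocallyNoetherian T := isLocallyNoetherian_of_isOpenImmersion i
  haveI : IsNoetherian T := {}
  let U := FEt.puncturedSpec B
  let φ : P ≅ ((i ≫ g) ⁻¹ᵁ U : T.Opens) := hP.isoIsPullback _ _ (isPullback_morphismRestrict (i ≫ g) U)
  have hφ : φ.hom ≫ ((i ≫ g) ⁻¹ᵁ U).ι = b := hP.isoIsPullback_hom_snd _ _ (isPullback_morphismRestrict (i ≫ g) U)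
  have hess : (FEt.restrict ((i ≫ g) ⁻¹ᵁ U).ι).EssSurj := by
    refine Pi1Purity.restrict_essSurj_of_purity _ fun x hx => ?_
    have hx' : g (i x) = closedPoint B := not_not.1 hx
    have hq : (i x : PrimeSpectrum B').asIdeal.comap (algebraMap B B') = maximalIdeal B :=
      congrArg PrimeSpectrum.asIdeal hx'
    refine purityHolds_of_ringEquiv (asIso (i.stalkMap x)).commRingCatIsoToRingEquiv ?_
    exact purityHolds_of_ringEquiv
      (IsLocalization.algEquiv (i x : PrimeSpectrum B').asIdeal.primeCompl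
        (Localization.AtPrime (i x : PrimeSpectrum B').asIdeal)
        ((Spec.structureSheaf B').presheaf.stalk (i x))).toRingEquiv
      (h _ hq)
  haveI := hess
  let W₁ := (FEt.restrict φ.inv).obj W₀
  let V := (FEt.restrict ((i ≫ g) ⁻¹ᵁ U).ι).objPreimage W₁
  refine ⟨V, exists_isPullback_of_iso b V W₀ ((restrictCongr hφ.symm).app V ≪≫
    (restrictCompIso φ.hom _).app V ≪≫ (FEt.restrict φ.hom).mapIso ((FEt.restrict _).objObjPreimageIso W₁) ≪≫
    ((restrictCompIso φ.hom φ.inv).app W₀).symm ≪≫ (restrictCongr φ.hom_inv_id).app W₀ ≪≫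
    (restrictIdIso P).app W₀)⟩

/-- Purity may be checked on the completion. -/
theorem purityHolds_of_completion {B : Type u} [CommRing B] [IsNoetherianRing B] [IsLocalRing B]
    [IsNoetherianRing (AdicCompletion (maximalIdeal B) B)] (hB : (2 : ℕ∞) ≤ LocCoh.depth B B)
    (h : FEt.PurityHolds (AdicCompletion (maximalIdeal B) B)) : FEt.PurityHolds B := by
  haveI := AdicCompletion.flat_of_isNoetherian (maximalIdeal B)
  haveI : IsLocalHom (algebraMap B (AdicCompletion (maximalIdeal B) B)) :=
    ((IsLocalRing.local_hom_TFAE _).out 0 2).mpr (le_of_eq (AdicCompletion.maximalIdeal_eq_map).symm)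
  haveI : Module.FaithfullyFlat B (AdicCompletion (maximalIdeal B) B) := Module.FaithfullyFlat.of_flat_of_isLocalHom
  refine purityHolds_of_flat (B' := AdicCompletion (maximalIdeal B) B) hB fun q hqp hq => ?_
  have hmax : q = maximalIdeal (AdicCompletion (maximalIdeal B) B) := by
    refine le_antisymm (le_maximalIdeal hqp.ne_top) ?_
    rw [AdicCompletion.maximalIdeal_eq_map]
    exact Ideal.map_le_iff_le_comap.2 hq.ge
  subst hmax
  exact purityHolds_of_ringEquiv (IsLocalization.atUnits (AdicCompletion (maximalIdeal B) B)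
    (maximalIdeal (AdicCompletion (maximalIdeal B) B)).primeCompl
    (fun a ha => IsLocalRing.notMem_maximalIdeal.mp ha)).toRingEquiv h

end Groth.Pi1Formal
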