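import Groth.Agent.Pi1Formal.PowerSeries
import Groth.Agent.HensPair.ProperClopenCor
import Groth.Agent.CohFin.ProjFinite
import Mathlib

/-!
# Clopens on punctured neighbourhoods of the zero section of a power series spectrum
-/

universe u

set_option autoImplicit false
set_option linter.style.haveILetI false
set_option linter.unusedSectionVars false

open MvPowerSeries IsLocalRing TensorProduct AlgebraicGeometry CategoryTheory

namespace Groth.Pi1Formal

section Henselian

variable {R E : Type u} [CommRing R] [CommRing E] [Algebra R E]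

/-- Over a henselian pair, a clopen of the closed fibre of a finite algebra comes from a unique idempotent. -/
theorem exists_idempotent_of_henselian (J : Ideal R) [HenselianRing R J] [Module.Finite R E]
    (S : Set {x : PrimeSpectrum E // J ≤ x.asIdeal.comap (algebraMap R E)}) (hS : IsClopen S) :
    ∃ ε : E, IsIdempotentElem ε ∧ (∀ x, x ∈ S ↔ ε ∉ x.1.asIdeal) ∧
      ∀ ε' : E, IsIdempotentElem ε' → (∀ x, x ∈ S ↔ ε' ∉ x.1.asIdeal) → ε' = ε := by
  let f : Spec (CommRingCat.of E) ⟶ Spec (CommRingCat.of R) := Spec.map (CommRingCat.ofHom (algebraMap R E))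
  haveI : IsFinite f := (IsFinite.SpecMap_iff _).2 (RingHom.finite_algebraMap.2 inferInstance)
  let q : {x : PrimeSpectrum E // J ≤ x.asIdeal.comap (algebraMap R E)} → Spec (CommRingCat.of E) :=
    fun x => x.1
  have hq : Topology.IsEmbedding q := Topology.IsEmbedding.subtypeVal
  have hr : Set.range q = HensPair.overV f J := by
    ext x
    constructor
    · rintro ⟨y, rfl⟩
      exact y.2
    · intro hx
      exact ⟨⟨x, hx⟩, rfl⟩
  obtain ⟨U, ⟨hU, hUS⟩, huniq⟩ := HensPair.clopenBij_of_range CohFin.projFinite J f hq hr S hS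
  obtain ⟨ε, hε, hεU⟩ := PrimeSpectrum.isClopen_iff.1 hU
  refine ⟨ε, hε, fun x => ?_, fun ε' hε' h' => ?_⟩
  · rw [← hUS, hεU]; rfl
  · refine PrimeSpectrum.basicOpen_injOn_isIdempotentElem hε' hε (SetLike.ext' ?_)
    refine (huniq (PrimeSpectrum.basicOpen ε' : Set (PrimeSpectrum E))
      ⟨PrimeSpectrum.isClopen_iff.2 ⟨ε', hε', rfl⟩, ?_⟩).trans hεU
    ext x
    exact (h' x).symm

end Henselian

variable {A : Type u} [CommRing A] [IsLocalRing A] [IsNoetherianRing A] {σ : Type} [Fintype σ]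
  {C : Type u} [CommRing C] [Algebra (MvPowerSeries σ A) C] {ι : Type u} [Finite ι]
  (a : ι → MvPowerSeries σ A)

local notation "B" => MvPowerSeries σ A

/-- The open subset covered by the `a i`. -/
def coverSet : Set (PrimeSpectrum C) := {y | ∃ i, algebraMap B C (a i) ∉ y.asIdeal}

theorem henselian_hu (u : B) :
    HenselianRing (Hu u) ((SGA7.PS.varIdeal σ A).map (algebraMap B (Hu u))) := by
  have h : (SGA7.PS.varIdeal σ A).map (algebraMap B (Hu u)) =
      SGA7.PS.varIdeal σ (Localization.Away (constantCoeff u)) := by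
    rw [SGA7.PS.varIdeal, Ideal.map_span, ← Set.range_comp]
    refine congrArg _ (congrArg _ (funext fun s => ?_))
    rw [Function.comp_apply, algebraMap_hu, map_X]
  rw [h]
  haveI : IsAdicComplete (SGA7.PS.varIdeal σ (Localization.Away (constantCoeff u)))
      (MvPowerSeries σ (Localization.Away (constantCoeff u))) := Calg6.isAdicComplete_varIdeal
  exact IsAdicComplete.henselianRing _ _

/-- The point of `Spec C` under a point of `Spec (T ⊗ C)`. -/
noncomputable def pt (T : Type u) [CommRing T] [Algebra B T] (P : PrimeSpectrum (T ⊗[B] C)) :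
    PrimeSpectrum C :=
  PrimeSpectrum.comap (Algebra.TensorProduct.includeRight : C →ₐ[B] T ⊗[B] C).toRingHom P

theorem mem_pt {T : Type u} [CommRing T] [Algebra B T] (P : PrimeSpectrum (T ⊗[B] C)) (c : C) :
    c ∈ (pt T P).asIdeal ↔ (1 : T) ⊗ₜ c ∈ P.asIdeal :=
  Iff.rfl

theorem continuous_pt (T : Type u) [CommRing T] [Algebra B T] : Continuous (pt T : PrimeSpectrum (T ⊗[B] C) → PrimeSpectrum C) :=
  PrimeSpectrum.continuous_comap _

theorem pt_mapT {T T' : Type u} [CommRing T] [Algebra B T] [CommRing T'] [Algebra B T'] (f : T →ₐ[B] T')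
    (P : PrimeSpectrum (T' ⊗[B] C)) : pt T (PrimeSpectrum.comap (mapT C f).toRingHom P) = pt T' P := by
  ext c
  rw [mem_pt, mem_pt, PrimeSpectrum.comap_asIdeal, Ideal.mem_comap]
  show mapT C f (1 ⊗ₜ c) ∈ _ ↔ _
  rw [mapT_tmul, map_one]

theorem one_tmul_algebraMap (T : Type u) [CommRing T] [Algebra B T] (b : B) :
    (1 : T) ⊗ₜ[B] algebraMap B C b = algebraMap T (T ⊗[B] C) (algebraMap B T b) := by
  rw [← IsScalarTower.algebraMap_apply]
  exact (Algebra.TensorProduct.includeRight : C →ₐ[B] T ⊗[B] C).commutes b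

theorem pt_not_mem {T : Type u} [CommRing T] [Algebra B T] {u : B} (hu : IsUnit (algebraMap B T u))
    (P : PrimeSpectrum (T ⊗[B] C)) : algebraMap B C u ∉ (pt T P).asIdeal := fun h => by
  rw [mem_pt, one_tmul_algebraMap] at h
  exact P.isPrime.ne_top (Ideal.eq_top_of_isUnit_mem _ h (hu.map _))

/-- A prime of `T ⊗ C` over a point at which `T` has a value. -/
theorem exists_prime_over {T : Type u} [CommRing T] [Algebra B T] (y : PrimeSpectrum C)
    (f : T →ₐ[B] y.asIdeal.ResidueField) : ∃ P : PrimeSpectrum (T ⊗[B] C), pt T P = y := by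
  let χ := Algebra.TensorProduct.lift f (IsScalarTower.toAlgHom B C y.asIdeal.ResidueField)
    fun _ _ => Commute.all _ _
  refine ⟨⟨RingHom.ker χ.toRingHom, RingHom.ker_isPrime _⟩, ?_⟩
  ext c
  rw [mem_pt, RingHom.mem_ker]
  show χ (1 ⊗ₜ c) = 0 ↔ _
  rw [Algebra.TensorProduct.lift_tmul, map_one, one_mul]
  exact Ideal.algebraMap_residueField_eq_zero

/-- The value of a localisation at a point where the element is a unit. -/
noncomputable def evalTu (u : B) (y : PrimeSpectrum C) (h : algebraMap B C u ∉ y.asIdeal) :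
    Tu u →ₐ[B] y.asIdeal.ResidueField :=
  { IsLocalization.Away.lift (g := algebraMap B y.asIdeal.ResidueField) u (by
      rw [IsScalarTower.algebraMap_apply B C y.asIdeal.ResidueField, isUnit_iff_ne_zero, ne_eq,
        Ideal.algebraMap_residueField_eq_zero]
      exact h) with
    commutes' := fun x => IsLocalization.Away.lift_eq u _ x }

theorem algebraMap_eq_constantCoeff (y : PrimeSpectrum C)
    (hy : SGA7.PS.varIdeal σ A ≤ y.asIdeal.comap (algebraMap B C)) (x : B) :
    algebraMap B y.asIdeal.ResidueField x =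
      algebraMap B y.asIdeal.ResidueField (MvPowerSeries.C (constantCoeff x)) := by
  rw [← sub_eq_zero, ← map_sub, IsScalarTower.algebraMap_apply B C y.asIdeal.ResidueField,
    Ideal.algebraMap_residueField_eq_zero]
  exact hy ((SGA7.PS.mem_varIdeal_iff _).2 (by rw [map_sub, constantCoeff_C, sub_self]))

theorem isUnit_eval (u : B) (y : PrimeSpectrum C) (h : algebraMap B C u ∉ y.asIdeal)
    (hy : SGA7.PS.varIdeal σ A ≤ y.asIdeal.comap (algebraMap B C)) :
    IsUnit ((algebraMap B y.asIdeal.ResidueField).comp MvPowerSeries.C (constantCoeff u)) := by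
  rw [RingHom.comp_apply, ← algebraMap_eq_constantCoeff y hy,
    IsScalarTower.algebraMap_apply B C y.asIdeal.ResidueField, isUnit_iff_ne_zero, ne_eq,
    Ideal.algebraMap_residueField_eq_zero]
  exact h

/-- The value of a completion at a point of the zero section where the element is a unit. -/
noncomputable def evalHu (u : B) (y : PrimeSpectrum C) (h : algebraMap B C u ∉ y.asIdeal)
    (hy : SGA7.PS.varIdeal σ A ≤ y.asIdeal.comap (algebraMap B C)) :
    Hu u →ₐ[B] y.asIdeal.ResidueField :=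
  { (IsLocalization.Away.lift (constantCoeff u) (isUnit_eval u y h hy) :
      Localization.Away (constantCoeff u) →+* _).comp MvPowerSeries.constantCoeff with
    commutes' := fun x => by
      show (IsLocalization.Away.lift (constantCoeff u) (isUnit_eval u y h hy) :
        Localization.Away (constantCoeff u) →+* _)
          (MvPowerSeries.constantCoeff (algebraMap B (Hu u) x)) = _
      rw [algebraMap_hu, constantCoeff_map, IsLocalization.Away.lift_eq, RingHom.comp_apply,
        ← algebraMap_eq_constantCoeff y hy] }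

theorem exists_frac (u : B) (x : Tu u ⊗[B] C) :
    ∃ (N : ℕ) (c : C), (1 : Tu u) ⊗ₜ[B] c = (u ^ N) • x := by
  haveI : IsLocalizedModule (Submonoid.powers u) (TensorProduct.mk B (Tu u) C 1) :=
    IsLocalization.tensorProduct_isLocalizedModule (Submonoid.powers u) (Tu u)
  obtain ⟨⟨c, ⟨_, N, rfl⟩⟩, h⟩ := IsLocalizedModule.surj (Submonoid.powers u) (TensorProduct.mk B (Tu u) C 1) x
  exact ⟨N, c, h.symm⟩

/-- A set of primes which is clopen on the zero section gives an idempotent over a completion. -/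
theorem exists_idempotent_hu (u : B) (hgood : Good B C (Hu u)) (S₀ : Set (PrimeSpectrum C))
    (hS₀ : IsClopen {P : {P : PrimeSpectrum (Hu u ⊗[B] C) //
      SGA7.PS.varIdeal σ A ≤ (pt (Hu u) P).asIdeal.comap (algebraMap B C)} | pt (Hu u) P.1 ∈ S₀}) :
    ∃ ε : Hu u ⊗[B] C, IsIdempotentElem ε ∧
      (∀ P, SGA7.PS.varIdeal σ A ≤ (pt (Hu u) P).asIdeal.comap (algebraMap B C) →
        (pt (Hu u) P ∈ S₀ ↔ ε ∉ P.asIdeal)) ∧
      ∀ ε' : Hu u ⊗[B] C, IsIdempotentElem ε' →
        (∀ P, SGA7.PS.varIdeal σ A ≤ (pt (Hu u) P).asIdeal.comap (algebraMap B C) →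
          (pt (Hu u) P ∈ S₀ ↔ ε' ∉ P.asIdeal)) → ε' = ε := by
  haveI := hgood.2.1
  haveI := henselian_hu u
  let J := (SGA7.PS.varIdeal σ A).map (algebraMap B (Hu u))
  have hJ : ∀ (P : PrimeSpectrum (Hu u ⊗[B] C)), J ≤ P.asIdeal.comap (algebraMap (Hu u) (Hu u ⊗[B] C)) ↔
      SGA7.PS.varIdeal σ A ≤ (pt (Hu u) P).asIdeal.comap (algebraMap B C) := by
    intro P
    rw [Ideal.map_le_iff_le_comap]
    refine forall₂_congr fun b _ => ?_
    rw [Ideal.mem_comap, Ideal.mem_comap, Ideal.mem_comap, mem_pt, one_tmul_algebraMap]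
  let φ : {P : PrimeSpectrum (Hu u ⊗[B] C) // J ≤ P.asIdeal.comap (algebraMap _ _)} →
      {P : PrimeSpectrum (Hu u ⊗[B] C) //
        SGA7.PS.varIdeal σ A ≤ (pt (Hu u) P).asIdeal.comap (algebraMap B C)} :=
    fun P => ⟨P.1, (hJ P.1).1 P.2⟩
  have hφc : Continuous φ := continuous_subtype_val.subtype_mk _
  obtain ⟨ε, h1, h2, h3⟩ := exists_idempotent_of_henselian J _ (hS₀.preimage hφc)
  exact ⟨ε, h1, fun P hP => h2 ⟨P, (hJ P).2 hP⟩, fun ε' he' h' => h3 ε' he' fun x => h' x.1 ((hJ x.1).1 x.2)⟩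

theorem clopenBij_coverSet
    (hA : (2 : ℕ∞) ≤ LocCoh.depth A A)
    (hcov : ∀ p : Ideal A, p.IsPrime → p ≠ maximalIdeal A → ∃ i, constantCoeff (a i) ∉ p)
    (hT : ∀ i, Good B C (Tu (a i))) :
    HensPair.ClopenBij (Subtype.val :
      {y : ↥(coverSet (C := C) a) // SGA7.PS.varIdeal σ A ≤ y.1.asIdeal.comap (algebraMap B C)} →
        ↥(coverSet (C := C) a)) := by
  classical
  haveI := Fintype.ofFinite ι
  -- generators with relations
  obtain ⟨r, g, hg⟩ : ∃ (r : ℕ) (g : Fin r → C), ∀ i, Gens B C g (Tu (a i)) := by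
    have : ∀ i, ∃ G : Finset C, Submodule.span (Tu (a i)) ((fun c => (1 : Tu (a i)) ⊗ₜ[B] c) '' (G : Set C)) = ⊤ := by
      intro i
      haveI := (hT i).2.1
      obtain ⟨G, hG⟩ := Module.Finite.fg_top (R := Tu (a i)) (M := Tu (a i) ⊗[B] C)
      choose N c hc using fun x : (Tu (a i) ⊗[B] C) => exists_frac (a i) x
      refine ⟨G.image c, eq_top_iff.2 ?_⟩
      rw [← hG, Submodule.span_le]
      intro x hx
      have hu : IsUnit (algebraMap B (Tu (a i)) (a i) ^ N x) :=
        (IsLocalization.Away.algebraMap_isUnit _).pow _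
      have hm : ((1 : Tu (a i)) ⊗ₜ[B] c x : Tu (a i) ⊗[B] C) ∈
          Submodule.span (Tu (a i)) ((fun c => (1 : Tu (a i)) ⊗ₜ[B] c) '' (↑(G.image c) : Set C)) :=
        Submodule.subset_span ⟨c x, Finset.mem_image_of_mem c hx, rfl⟩
      rw [hc x, ← algebraMap_smul (Tu (a i)), map_pow] at hm
      exact (Submodule.smul_mem_iff_of_isUnit _ hu).1 hm
    choose G hG using this
    let GG := Finset.univ.biUnion G
    refine ⟨GG.card, fun j => (GG.equivFin.symm j : C), fun i => eq_top_iff.2 ?_⟩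
    rw [← hG i]
    refine Submodule.span_mono ?_
    rintro _ ⟨c, hc, rfl⟩
    exact ⟨GG.equivFin ⟨c, Finset.mem_biUnion.2 ⟨i, Finset.mem_univ _, hc⟩⟩, by simp⟩
  have hrel : ∀ i (t : Fin r → Tu (a i)), ∑ l, t l • ((1 : Tu (a i)) ⊗ₜ[B] g l) = 0 →
      ∃ (c : Fin r → B) (w : Tu (a i)), IsUnit w ∧ (∀ l, w * t l = algebraMap B _ (c l)) ∧ ∑ l, c l • g l = 0 := by
    intro i t ht
    obtain ⟨⟨_, N, rfl⟩, hb⟩ := IsLocalization.exist_integer_multiples (Submonoid.powers (a i)) Finset.univ t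
    choose c hc using fun l => hb l (Finset.mem_univ l)
    have h0 : (1 : Tu (a i)) ⊗ₜ[B] (∑ l, c l • g l) = 0 := by
      rw [TensorProduct.tmul_sum]
      have h1 : ∀ l, (1 : Tu (a i)) ⊗ₜ[B] (c l • g l) = (a i ^ N) • (t l • ((1 : Tu (a i)) ⊗ₜ[B] g l)) := by
        intro l
        rw [← smul_assoc, ← hc l, algebraMap_smul, TensorProduct.tmul_smul]
      rw [Finset.sum_congr rfl fun l _ => h1 l, ← Finset.smul_sum, ht, smul_zero]
    haveI : IsLocalizedModule (Submonoid.powers (a i)) (TensorProduct.mk B (Tu (a i)) C 1) :=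
      IsLocalization.tensorProduct_isLocalizedModule (Submonoid.powers (a i)) (Tu (a i))
    obtain ⟨⟨_, M, rfl⟩, hM⟩ := (IsLocalizedModule.eq_zero_iff (Submonoid.powers (a i))
      (TensorProduct.mk B (Tu (a i)) C 1)).1 h0
    refine ⟨fun l => a i ^ M * c l, algebraMap B _ (a i ^ (M + N)), ?_, fun l => ?_, ?_⟩
    · rw [map_pow]
      exact (IsLocalization.Away.algebraMap_isUnit _).pow _
    · rw [map_mul, hc l, Algebra.smul_def, ← mul_assoc, ← map_mul, ← pow_add]
    · have hM' : (a i ^ M) • (∑ l, c l • g l) = 0 := hM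
      rw [← hM', Finset.smul_sum]
      exact Finset.sum_congr rfl fun l _ => by rw [mul_smul]
  intro S hS
  let I := SGA7.PS.varIdeal σ A
  -- the clopen as a set of primes
  let S₀ : Set (PrimeSpectrum C) := (fun x => x.1.1) '' S
  have hS₀ : ∀ x : {y : ↥(coverSet (C := C) a) // I ≤ y.1.asIdeal.comap (algebraMap B C)}, x.1.1 ∈ S₀ ↔ x ∈ S := by
    refine fun x => ⟨?_, fun h => ⟨x, h, rfl⟩⟩
    rintro ⟨y, hy, hyx⟩
    rwa [show x = y from Subtype.ext (Subtype.ext hyx.symm)]
  have hclopen : ∀ (u : B), (∀ y : PrimeSpectrum C, algebraMap B C u ∉ y.asIdeal → y ∈ coverSet a) →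
      IsClopen {P : {P : PrimeSpectrum (Hu u ⊗[B] C) //
        I ≤ (pt (Hu u) P).asIdeal.comap (algebraMap B C)} | pt (Hu u) P.1 ∈ S₀} := by
    intro u hu
    let φ : {P : PrimeSpectrum (Hu u ⊗[B] C) // I ≤ (pt (Hu u) P).asIdeal.comap (algebraMap B C)} →
        {y : ↥(coverSet (C := C) a) // I ≤ y.1.asIdeal.comap (algebraMap B C)} :=
      fun P => ⟨⟨pt (Hu u) P.1, hu _ (pt_not_mem (isUnit_hu dvd_rfl) _)⟩, P.2⟩
    have hφc : Continuous φ :=
      (((continuous_pt (Hu u)).comp continuous_subtype_val).subtype_mk _).subtype_mk _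
    convert hS.preimage hφc using 1
    ext P
    exact hS₀ (φ P)
  have hmem : ∀ i (y : PrimeSpectrum C), algebraMap B C (a i) ∉ y.asIdeal → y ∈ coverSet a :=
    fun i y h => ⟨i, h⟩
  have hmem₂ : ∀ i j (y : PrimeSpectrum C), algebraMap B C (a i * a j) ∉ y.asIdeal → y ∈ coverSet a :=
    fun i j y h => ⟨i, fun h' => h (by rw [map_mul]; exact y.asIdeal.mul_mem_right _ h')⟩
  choose ε hεi hεS hεu using fun i =>
    exists_idempotent_hu (a i) ((hT i).map C (psiHom (a i))) S₀ (hclopen _ (hmem i))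
  let s₁ : ∀ i j, Hu (a i) →ₐ[B] Hu (a i * a j) := fun i j => resHat (dvd_mul_right _ _)
  let s₂ : ∀ i j, Hu (a j) →ₐ[B] Hu (a i * a j) := fun i j => resHat (dvd_mul_left _ _)
  have hεc : ∀ i j, mapT C (s₁ i j) (ε i) = mapT C (s₂ i j) (ε j) := by
    intro i j
    obtain ⟨ε₂, -, -, hu⟩ := exists_idempotent_hu (a i * a j)
      (((hT i).map C (psiHom (a i))).map C (s₁ i j)) S₀ (hclopen _ (hmem₂ i j))
    refine (hu _ ((hεi i).map _) fun P hP => ?_).trans (hu _ ((hεi j).map _) fun P hP => ?_).symm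
    · have h := hεS i (PrimeSpectrum.comap (mapT C (s₁ i j)).toRingHom P) (by rw [pt_mapT]; exact hP)
      rwa [pt_mapT] at h
    · have h := hεS j (PrimeSpectrum.comap (mapT C (s₂ i j)).toRingHom P) (by rw [pt_mapT]; exact hP)
      rwa [pt_mapT] at h
  let r₁ : ∀ i j, Tu (a i) →ₐ[B] Tu (a i * a j) := fun i j => resHom (dvd_mul_right _ _)
  let r₂ : ∀ i j, Tu (a j) →ₐ[B] Tu (a i * a j) := fun i j => resHom (dvd_mul_left _ _)
  have hdet : Detects (fun i => Tu (a i)) (fun i j => Tu (a i * a j)) (fun i => Hu (a i)) r₁ r₂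
      (fun i => psiHom (a i)) := detects a hcov hA
  obtain ⟨x, hxi, hxψ, hxc⟩ := exists_family C g (fun i => Tu (a i)) (fun i j => Tu (a i * a j))
    (fun i => Hu (a i)) (fun i j => Hu (a i * a j)) r₁ r₂ (fun i => psiHom (a i))
    (fun i j => psiHom (a i * a j)) s₁ s₂ hT hg hdet (algebraizes a hcov hA)
    (fun i j => algHom_ext_tu _ _) (fun i j => algHom_ext_tu _ _) hrel ε hεi hεc
  -- the idempotents give the clopen
  choose N c hc using fun i => exists_frac (a i) (x i)
  let c' : ι → C := fun i => algebraMap B C (a i ^ N i) - c i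
  have hP : ∀ i (P : PrimeSpectrum (Tu (a i) ⊗[B] C)),
      (c i ∈ (pt _ P).asIdeal ↔ x i ∈ P.asIdeal) ∧ (c' i ∈ (pt _ P).asIdeal ↔ x i ∉ P.asIdeal) := by
    intro i P
    have hu : IsUnit (algebraMap B (Tu (a i) ⊗[B] C) (a i ^ N i)) := by
      rw [IsScalarTower.algebraMap_apply B (Tu (a i)) (Tu (a i) ⊗[B] C), map_pow]
      exact ((IsLocalization.Away.algebraMap_isUnit _).pow _).map _
    have hc' : (1 : Tu (a i)) ⊗ₜ[B] c' i = (a i ^ N i) • (1 - x i) := by
      simp only [c']
      rw [TensorProduct.tmul_sub, hc, smul_sub, Algebra.algebraMap_eq_smul_one,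
        TensorProduct.tmul_smul, ← Algebra.TensorProduct.one_def]
    have hs : ∀ z : Tu (a i) ⊗[B] C, (a i ^ N i) • z =
        algebraMap B (Tu (a i) ⊗[B] C) (a i ^ N i) * z := fun z => Algebra.smul_def _ z
    refine ⟨?_, ?_⟩
    · rw [mem_pt, hc, hs]
      exact ⟨fun h => (P.isPrime.mem_or_mem h).resolve_left fun h' =>
        P.isPrime.ne_top (Ideal.eq_top_of_isUnit_mem _ h' hu), fun h => Ideal.mul_mem_left _ _ h⟩
    · rw [mem_pt, hc', hs]
      constructor
      · intro h hx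
        have h1 := (P.isPrime.mem_or_mem h).resolve_left fun h' =>
          P.isPrime.ne_top (Ideal.eq_top_of_isUnit_mem _ h' hu)
        exact P.isPrime.ne_top ((Ideal.eq_top_iff_one _).2 (by simpa using add_mem h1 hx))
      · intro hx
        refine Ideal.mul_mem_left _ _ ((P.isPrime.mem_or_mem (x := x i) (y := 1 - x i) ?_).resolve_left hx)
        rw [mul_sub, mul_one, (hxi i).eq, sub_self]
        exact zero_mem _
  have hc₂ : ∀ i j (y : PrimeSpectrum C), algebraMap B C (a i) ∉ y.asIdeal →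
      algebraMap B C (a j) ∉ y.asIdeal → c i ∉ y.asIdeal → c j ∉ y.asIdeal := by
    intro i j y hi hj hci hcj
    obtain ⟨P, rfl⟩ := exists_prime_over y (evalTu (a i * a j) y fun h => by
      rw [map_mul] at h
      exact (y.isPrime.mem_or_mem h).elim hi hj)
    have h1 := (hP i (PrimeSpectrum.comap (mapT C (r₁ i j)).toRingHom P)).1
    have h2 := (hP j (PrimeSpectrum.comap (mapT C (r₂ i j)).toRingHom P)).1
    rw [pt_mapT] at h1 h2
    refine hci (h1.2 ?_)
    show mapT C (r₁ i j) (x i) ∈ P.asIdeal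
    rw [hxc i j]
    exact h2.1 hcj
  let U : Set ↥(coverSet (C := C) a) :=
    ⋃ i, {y | algebraMap B C (a i) ∉ y.1.asIdeal} ∩ {y | c i ∉ y.1.asIdeal}
  let U' : Set ↥(coverSet (C := C) a) :=
    ⋃ i, {y | algebraMap B C (a i) ∉ y.1.asIdeal} ∩ {y | c' i ∉ y.1.asIdeal}
  have hopen : ∀ z : C, IsOpen {y : ↥(coverSet (C := C) a) | z ∉ y.1.asIdeal} := fun z =>
    (PrimeSpectrum.basicOpen z).isOpen.preimage continuous_subtype_val
  have hcompl : U' = Uᶜ := by
    ext ⟨y, hy⟩
    simp only [U, U', Set.mem_iUnion, Set.mem_inter_iff, Set.mem_ofPred_eq, Set.mem_compl_iff, not_exists, not_and,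
      not_not]
    constructor
    · rintro ⟨i, hi, hci⟩ j hj
      obtain ⟨P, rfl⟩ := exists_prime_over y (evalTu (a i) y hi)
      by_contra hcj
      have h := hc₂ j i _ hj hi hcj
      exact hci ((hP i P).2.2 fun hx => h ((hP i P).1.2 hx))
    · intro h
      obtain ⟨i, hi⟩ := hy
      obtain ⟨P, rfl⟩ := exists_prime_over y (evalTu (a i) y hi)
      exact ⟨i, hi, fun hc' => (hP i P).2.1 hc' ((hP i P).1.1 (h i hi))⟩
  have hU : IsClopen U := by
    refine ⟨isOpen_compl_iff.1 ?_, isOpen_iUnion fun i => (hopen _).inter (hopen _)⟩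
    rw [← hcompl]
    exact isOpen_iUnion fun i => (hopen _).inter (hopen _)
  refine ⟨U, ⟨hU, ?_⟩, ?_⟩
  · ext x'
    obtain ⟨⟨y, hy⟩, hyI⟩ := x'
    have key : ∀ i, algebraMap B C (a i) ∉ y.asIdeal → (c i ∉ y.asIdeal ↔ y ∈ S₀) := by
      intro i hi
      obtain ⟨P, rfl⟩ := exists_prime_over y (evalHu (a i) y hi hyI)
      rw [hεS i P hyI, ← hxψ i, not_iff_not]
      have h := (hP i (PrimeSpectrum.comap (mapT C (psiHom (a i))).toRingHom P)).1
      rwa [pt_mapT] at h
    rw [Set.mem_preimage, ← hS₀]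
    constructor
    · intro h
      obtain ⟨i, hi, hci⟩ := Set.mem_iUnion.1 h
      exact (key i hi).1 hci
    · intro h
      obtain ⟨i, hi⟩ := hy
      exact Set.mem_iUnion.2 ⟨i, hi, (key i hi).2 h⟩
  · rintro W ⟨hW, hWS⟩
    -- the idempotents of `W`
    let W₀ : Set (PrimeSpectrum C) := Subtype.val '' W
    have hW₀ : ∀ y : ↥(coverSet (C := C) a), y.1 ∈ W₀ ↔ y ∈ W :=
      fun y => Subtype.val_injective.mem_set_image
    have hx' : ∀ u : B, (∀ y : PrimeSpectrum C, algebraMap B C u ∉ y.asIdeal → y ∈ coverSet a) →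
        ∃ e : Tu u ⊗[B] C, IsIdempotentElem e ∧
          ∀ (P : PrimeSpectrum (Tu u ⊗[B] C)), pt (Tu u) P ∈ W₀ ↔ e ∉ P.asIdeal := by
      intro u hu
      let φ : PrimeSpectrum (Tu u ⊗[B] C) → ↥(coverSet (C := C) a) := fun P =>
        ⟨pt (Tu u) P, hu _ (pt_not_mem (IsLocalization.Away.algebraMap_isUnit u) P)⟩
      obtain ⟨e, he, heW⟩ := PrimeSpectrum.isClopen_iff.1
        (hW.preimage (show Continuous φ from (continuous_pt _).subtype_mk _))
      refine ⟨e, he, fun P => ?_⟩
      rw [show pt (Tu u) P = (φ P).1 from rfl, hW₀, ← Set.mem_preimage, heW]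
      rfl
    choose e hei heW using fun i => hx' (a i) (hmem i)
    have hec : ∀ i j, mapT C (r₁ i j) (e i) = mapT C (r₂ i j) (e j) := fun i j => by
      refine PrimeSpectrum.basicOpen_injOn_isIdempotentElem ((hei i).map _) ((hei j).map _) ?_
      ext P
      have h₁ := heW i (PrimeSpectrum.comap (mapT C (r₁ i j)).toRingHom P)
      have h₂ := heW j (PrimeSpectrum.comap (mapT C (r₂ i j)).toRingHom P)
      rw [pt_mapT] at h₁ h₂
      exact h₁.symm.trans h₂
    have hex : ∀ i, e i = x i := family_ext C g (fun i => Tu (a i)) (fun i j => Tu (a i * a j))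
      (fun i => Hu (a i)) r₁ r₂ (fun i => psiHom (a i)) hT hg hdet hec hxc fun i => by
        rw [hxψ i]
        refine hεu i _ ((hei i).map _) fun P hP => ?_
        have h := heW i (PrimeSpectrum.comap (mapT C (psiHom (a i))).toRingHom P)
        rw [pt_mapT] at h
        refine Iff.trans ?_ h
        let y : ↥(coverSet (C := C) a) := ⟨pt _ P, hmem i _ (pt_not_mem (isUnit_hu dvd_rfl) P)⟩
        rw [show pt _ P = y.1 from rfl, hW₀, hS₀ ⟨y, hP⟩, ← hWS]
        rfl
    ext y'
    obtain ⟨y, hy⟩ := y'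
    rw [← hW₀]
    have key : ∀ i, algebraMap B C (a i) ∉ y.asIdeal → (y ∈ W₀ ↔ c i ∉ y.asIdeal) := by
      intro i hi
      obtain ⟨P, rfl⟩ := exists_prime_over y (evalTu (a i) y hi)
      rw [heW i P, hex i, not_iff_not]
      exact (hP i P).1.symm
    constructor
    · intro h
      obtain ⟨i, hi⟩ := hy
      exact Set.mem_iUnion.2 ⟨i, hi, (key i hi).1 h⟩
    · intro h
      obtain ⟨i, hi, hci⟩ := Set.mem_iUnion.1 h
      exact (key i hi).2 hci

end Groth.Pi1Formal
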