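import Groth.Agent.Pi1Formal.FibreCodim
import Groth.Agent.FibreDim.Smooth
import Mathlib

/-!
# Fibrewise codimension two through fibre dimensions
-/

universe u

set_option autoImplicit false
set_option backward.isDefEq.respectTransparency false
set_option linter.style.haveILetI false

open CategoryTheory CategoryTheory.Limits AlgebraicGeometry TopologicalSpace

namespace Groth.Pi1Formal

open Topology in
/-- Closed embeddings preserve heights for specialisation. -/
theorem height_apply_of_isClosedEmbedding {A B : Scheme.{u}} (e : A → B) (he : IsClosedEmbedding e) (a : A) :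
    letI := specializationOrder (X := A)
    letI := specializationOrder (X := B)
    Order.height (e a) = Order.height a := by
  letI := specializationOrder (X := A)
  letI := specializationOrder (X := B)
  have hlt : ∀ {x y : A}, x < y ↔ e x < e y := fun {x y} => by
    rw [lt_iff_le_not_ge, lt_iff_le_not_ge]
    exact and_congr he.isInducing.specializes_iff.symm (not_congr he.isInducing.specializes_iff.symm)
  refine le_antisymm (Order.height_le fun p hp => ?_)
    (Order.height_le_height_apply_of_strictMono e (fun _ _ h => hlt.1 h) a)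
  have hmem : ∀ i, p i ∈ Set.range e := fun i => by
    have hle : p i ≤ e a := hp ▸ p.monotone (Fin.le_last i)
    exact (show e a ⤳ p i from hle).mem_closed he.isClosed_range ⟨a, rfl⟩
  choose q hq using hmem
  let p' : LTSeries A := LTSeries.mk p.length q fun i j hij => hlt.2 (by rw [hq, hq]; exact p.strictMono hij)
  have hlast : p'.last = a := he.injective ((hq _).trans hp)
  exact hlast ▸ Order.length_le_height_last (p := p')

variable {X S : Scheme.{u}} (f : X ⟶ S)

/-- The local dimension of a fibre is height plus coheight. -/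
theorem localDim_fiber_eq [LocallyOfFiniteType f] (s : S) (w : f.fiber s) :
    letI := specializationOrder (X := f.fiber s)
    FlatMor.localDim (f.fiber s) w =
      (Order.height w : ℕ∞) + ringKrullDim ((f.fiber s).presheaf.stalk w) := by
  letI : (f.fiber s).Over (Spec (CommRingCat.of (S.residueField s))) := ⟨f.fiberToSpecResidueField s⟩
  haveI : LocallyOfFiniteType (f.fiber s ↘ Spec (CommRingCat.of (S.residueField s))) :=
    inferInstanceAs (LocallyOfFiniteType (pullback.snd f (S.fromSpecResidueField s)))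
  exact Groth.VarietyBC.localDim_eq_height_add (S.residueField s) w

variable {Z : Scheme.{u}} (ι : Z ⟶ X) [IsClosedImmersion ι]

/-- The map of fibres induced by a closed immersion. -/
noncomputable def fibMap (s : S) : (ι ≫ f).fiber s ⟶ f.fiber s :=
  pullback.lift (pullback.fst _ _ ≫ ι) (pullback.snd _ _) (by rw [Category.assoc]; exact pullback.condition)

theorem fibMap_fiberι (s : S) : fibMap f ι s ≫ f.fiberι s = (ι ≫ f).fiberι s ≫ ι := pullback.lift_fst _ _ _

instance isClosedImmersion_fibMap (s : S) : IsClosedImmersion (fibMap f ι s) := by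
  refine MorphismProperty.of_isPullback (P := @IsClosedImmersion)
    (f' := (ι ≫ f).fiberι s) (g' := fibMap f ι s) (g := ι) (f := f.fiberι s) ?_ inferInstance
  refine IsPullback.of_bot ?_ (fibMap_fiberι f ι s).symm (IsPullback.of_hasPullback f (S.fromSpecResidueField s))
  rw [show fibMap f ι s ≫ pullback.snd f (S.fromSpecResidueField s) = pullback.snd _ _ from pullback.lift_snd _ _ _]
  exact IsPullback.of_hasPullback (ι ≫ f) (S.fromSpecResidueField s)

/-- Small fibres of a closed subscheme give codimension two. -/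
theorem fibCodimTwo_of_fibreDimAt [LocallyOfFiniteType f] (z : Z) (d : ℕ)
    (hX : FlatMor.fibreDimAt f (ι z) = ((d + 2 : ℕ) : WithBot ℕ∞))
    (hZ : FlatMor.fibreDimAt (ι ≫ f) z ≤ (d : WithBot ℕ∞)) : FibCodimTwo f (ι z) := by
  let s := f (ι z)
  let w : f.fiber s := f.asFiber (ι z)
  obtain ⟨a, ha⟩ : z ∈ Set.range ((ι ≫ f).fiberι s) := by
    rw [Scheme.Hom.range_fiberι]
    exact Scheme.Hom.comp_apply ι f z
  have hae : fibMap f ι s a = w := (f.fiberι s).isEmbedding.injective (by
    rw [← Scheme.Hom.comp_apply, fibMap_fiberι, Scheme.Hom.comp_apply, ha, f.fiberι_asFiber])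
  letI := specializationOrder (X := f.fiber s)
  letI := specializationOrder (X := (ι ≫ f).fiber s)
  have hh : Order.height w = Order.height a :=
    hae ▸ height_apply_of_isClosedEmbedding _ (fibMap f ι s).isClosedEmbedding a
  have h1 : FlatMor.localDim ((ι ≫ f).fiber s) a ≤ (d : WithBot ℕ∞) := by
    rw [← Groth.FibreDim.fibreDimAt_fiberι (ι ≫ f) s a]
    exact (congrArg (FlatMor.fibreDimAt (ι ≫ f)) ha).le.trans hZ
  have h2 : FlatMor.localDim (f.fiber s) w = ((d + 2 : ℕ) : WithBot ℕ∞) := hX
  rw [localDim_fiber_eq (ι ≫ f) s a, ringKrullDim_stalk_eq_coheight, ← WithBot.coe_add, ← WithBot.coe_natCast,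
    WithBot.coe_le_coe, ← hh] at h1
  rw [localDim_fiber_eq f s w, ringKrullDim_stalk_eq_coheight, ← WithBot.coe_add, ← WithBot.coe_natCast,
    WithBot.coe_inj] at h2
  show (2 : WithBot ℕ∞) ≤ ringKrullDim ((f.fiber s).presheaf.stalk w)
  rw [ringKrullDim_stalk_eq_coheight]
  refine WithBot.coe_le_coe.2 ?_
  obtain ⟨m, hm⟩ := WithTop.ne_top_iff_exists.1 (ne_top_of_le_ne_top (ENat.natCast_ne_top d) (le_self_add.trans h1))
  generalize Order.coheight w = c at h2 ⊢
  rw [← hm] at h1 h2
  induction c using ENat.recTopCoe with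
  | top => exact le_top
  | coe c =>
    have h3 : m ≤ d := Nat.cast_le.1 (le_self_add.trans h1)
    have h4 : m + c = d + 2 := Nat.cast_inj.1 (show ((m + c : ℕ) : ℕ∞) = ((d + 2 : ℕ) : ℕ∞) by rw [Nat.cast_add]; exact h2)
    exact Nat.cast_le.2 (by omega : 2 ≤ c)

/-- Codimension two at every point of a closed subscheme bounds its fibres. -/
theorem dim_fiber_le_of_fibCodimTwo [LocallyOfFiniteType f] (d : ℕ)
    (hX : ∀ x, FlatMor.fibreDimAt f x = ((d + 2 : ℕ) : WithBot ℕ∞)) (hcod : ∀ z, FibCodimTwo f (ι z)) (s : S) :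
    topologicalKrullDim ↥((ι ≫ f).fiber s) ≤ (d : WithBot ℕ∞) := by
  letI := specializationOrder (X := f.fiber s)
  letI := specializationOrder (X := (ι ≫ f).fiber s)
  rw [topologicalKrullDim, Order.krullDim_eq_of_orderIso irreducibleSetEquivPoints, Order.krullDim_eq_iSup_height]
  refine iSup_le fun a => ?_
  rw [← height_apply_of_isClosedEmbedding _ (fibMap f ι s).isClosedEmbedding a, ← WithBot.coe_natCast,
    WithBot.coe_le_coe]
  suffices key : ∀ (s : S) (w : f.fiber s) (z : Z), f.fiberι s w = ι z → f (ι z) = s →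
      (letI := specializationOrder (X := f.fiber s); Order.height w ≤ (d : ℕ∞)) by
    refine key s _ ((ι ≫ f).fiberι s a) ?_ ?_
    · rw [← Scheme.Hom.comp_apply, fibMap_fiberι, Scheme.Hom.comp_apply]
    · rw [← Scheme.Hom.comp_apply ι f]
      exact Groth.FibreDim.apply_fiberι (ι ≫ f) s a
  rintro s w z hwz rfl
  letI := specializationOrder (X := f.fiber (f (ι z)))
  obtain rfl : w = f.asFiber (ι z) := (f.fiberι _).isEmbedding.injective (by rw [hwz, f.fiberι_asFiber])
  have h2 : FlatMor.localDim (f.fiber (f (ι z))) (f.asFiber (ι z)) = ((d + 2 : ℕ) : WithBot ℕ∞) := hX (ι z)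
  have h3 := hcod z
  rw [FibCodimTwo, ringKrullDim_stalk_eq_coheight] at h3
  have h3' : (2 : ℕ∞) ≤ Order.coheight (f.asFiber (ι z)) := WithBot.coe_le_coe.1 h3
  rw [localDim_fiber_eq f _ _, ringKrullDim_stalk_eq_coheight, ← WithBot.coe_add, ← WithBot.coe_natCast,
    WithBot.coe_inj, Nat.cast_add] at h2
  have h4 : Order.height (f.asFiber (ι z)) + 2 ≤ (d : ℕ∞) + 2 :=
    (add_le_add le_rfl h3').trans h2.le
  exact (WithTop.add_le_add_iff_right (by simp)).1 h4

/-- In fibre dimension at most one there are no points of fibre codimension two. -/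
theorem not_fibCodimTwo [LocallyOfFiniteType f] {x : X} {n : ℕ} (hn : n < 2)
    (hX : FlatMor.fibreDimAt f x = (n : WithBot ℕ∞)) : ¬ FibCodimTwo f x := by
  intro h
  letI := specializationOrder (X := f.fiber (f x))
  have h2 : FlatMor.localDim (f.fiber (f x)) (f.asFiber x) = (n : WithBot ℕ∞) := hX
  rw [FibCodimTwo, ringKrullDim_stalk_eq_coheight] at h
  rw [localDim_fiber_eq f _ _, ringKrullDim_stalk_eq_coheight, ← WithBot.coe_add, ← WithBot.coe_natCast,
    WithBot.coe_inj] at h2
  have h1 : (2 : ℕ∞) ≤ n := (WithBot.coe_le_coe.1 h).trans (le_add_self.trans h2.le)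
  have : 2 ≤ n := by exact_mod_cast h1
  omega

end Groth.Pi1Formal
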