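import Groth.Agent.Pi1Formal.StageLimit
import Groth.Agent.Pi1Formal.CodimDim
import Groth.Agent.Limits.PointwiseDescent
import Groth.Agent.SpectralTopology.AlgSystem
import Groth.Agent.S9216
import Mathlib

/-!
# Fibrewise codimension two purity over an arbitrary affine base
-/

universe u

set_option autoImplicit false
set_option backward.isDefEq.respectTransparency false
set_option linter.style.haveILetI false

open CategoryTheory CategoryTheory.Limits AlgebraicGeometry TopologicalSpace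
open scoped TensorProduct

namespace Groth.Pi1Formal

/-- An element of a base change comes from a finitely generated stage. -/
theorem exists_finset_range {R₀ R C₀ : Type u} [CommRing R₀] [CommRing R] [CommRing C₀] [Algebra R₀ R]
    [Algebra R₀ C₀] (x : R ⊗[R₀] C₀) : ∃ T : Finset R, ∀ s : Subalgebra R₀ R, (T : Set R) ⊆ s →
      x ∈ (Algebra.TensorProduct.map s.val (AlgHom.id R₀ C₀)).range := by
  classical
  induction x with
  | zero => exact ⟨∅, fun s _ => zero_mem _⟩
  | tmul r c =>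
    refine ⟨{r}, fun s hs => ?_⟩
    exact ⟨(⟨r, hs (by simp)⟩ : s) ⊗ₜ[R₀] c, by simp⟩
  | add x y hx hy =>
    obtain ⟨T, hT⟩ := hx
    obtain ⟨T', hT'⟩ := hy
    exact ⟨T ∪ T', fun s hs => add_mem (hT s ((Finset.coe_subset.2 Finset.subset_union_left).trans hs))
      (hT' s ((Finset.coe_subset.2 Finset.subset_union_right).trans hs))⟩

/-- The fibre dimension is bounded by the dimension of the fibre. -/
theorem fibreDimAt_le_dim {X S : Scheme.{u}} (f : X ⟶ S) (x : X) :
    FlatMor.fibreDimAt f x ≤ topologicalKrullDim ↥(f.fiber (f x)) :=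
  iInf_le_of_le ⟨⊤, trivial⟩ (Topology.IsInducing.subtypeVal.topologicalKrullDim_le)

set_option maxHeartbeats 2000000 in
set_option synthInstance.maxHeartbeats 400000 in
/-- Purity for the complement of a finitely presented closed subset of fibrewise codimension two. -/
theorem bijective_appTop_and_essSurj_of_fg (R C : Type u) [CommRing R] [CommRing C] [Algebra R C] (d : ℕ)
    [Algebra.IsStandardSmoothOfRelativeDimension (d + 2) R C] (J : Ideal C) (hJ : J.FG)
    (U : (Spec (CommRingCat.of C)).Opens) (hU : ∀ x : PrimeSpectrum C, x ∈ U ↔ x ∉ PrimeSpectrum.zeroLocus (J : Set C))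
    (hcod : ∀ x : Spec (CommRingCat.of C), x ∉ U →
      FibCodimTwo (Spec.map (CommRingCat.ofHom (algebraMap R C))) x) :
    Function.Bijective U.ι.appTop ∧ (FEt.restrict U.ι).EssSurj := by
  classical
  obtain ⟨G, hG⟩ := hJ
  obtain ⟨R₀, C₀, _, _, hR₀, hC₀, ⟨e⟩⟩ :=
    Algebra.IsStandardSmoothOfRelativeDimension.exists_subalgebra_fg ℤ R C (d + 2)
  haveI := hC₀
  choose T hT using fun g : C => exists_finset_range (e g)
  let R₁ : Subalgebra R₀ R := Algebra.adjoin R₀ ((G.biUnion T : Finset R) : Set R)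
  let s₁ : SpectralTopology.AlgSub (CommRingCat.of R₀) (CommRingCat.of R) :=
    ⟨R₁, Subalgebra.fg_adjoin_finset _⟩
  choose lift hlift using fun g : G => hT g.1 R₁
    ((Finset.coe_subset.2 (Finset.subset_biUnion_of_mem T g.2)).trans Algebra.subset_adjoin)
  let R₀c := CommRingCat.of R₀
  let Rc := CommRingCat.of R
  haveI : Algebra.FiniteType ℤ R₀ := (Subalgebra.fg_iff_finiteType R₀).1 hR₀
  haveI : IsNoetherianRing R₀c := Algebra.FiniteType.isNoetherianRing ℤ R₀
  let D := SpectralTopology.algSchemes R₀c Rc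
  let c := SpectralTopology.algCone R₀c Rc
  have hc : IsLimit c := SpectralTopology.isLimitAlgCone R₀c Rc
  haveI : IsDirected (SpectralTopology.AlgSub R₀c Rc) (· ≤ ·) :=
    ⟨fun s t => ⟨⟨s.1 ⊔ t.1, s.2.sup t.2⟩, le_sup_left (a := s.1), le_sup_right (a := s.1)⟩⟩
  haveI : Nonempty (SpectralTopology.AlgSub R₀c Rc) := ⟨⟨⊥, Subalgebra.fg_bot⟩⟩
  haveI : IsFiltered (SpectralTopology.AlgSub R₀c Rc) := isFiltered_of_directed_le_nonempty _
  haveI : IsCofiltered (SpectralTopology.AlgSub R₀c Rc)ᵒᵖ := inferInstance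
  haveI : ∀ i, AlgebraicGeometry.IsNoetherian (D.obj i) := fun i =>
    SpectralTopology.isNoetherian_algSchemes R₀c Rc i
  haveI : ∀ (i j : (SpectralTopology.AlgSub R₀c Rc)ᵒᵖ) (f : i ⟶ j), IsAffineHom (D.map f) :=
    fun i j f => SpectralTopology.isAffineHom_algSchemes R₀c Rc i j f
  -- the model
  let i₁ : (SpectralTopology.AlgSub R₀c Rc)ᵒᵖ := Opposite.op s₁
  let C₁ := R₁ ⊗[R₀] C₀
  letI instR₁ : CommRing R₁ := inferInstance
  letI instC₁ : CommRing C₁ := inferInstance
  let f₁ : Spec (CommRingCat.of C₁) ⟶ D.obj i₁ := Spec.map (CommRingCat.ofHom (algebraMap R₁ C₁))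
  haveI : SmoothOfRelativeDimension (d + 2) f₁ := by
    refine (HasRingHomProperty.Spec_iff (P := @SmoothOfRelativeDimension (d + 2))).2 ?_
    refine RingHom.locally_of RingHom.isStandardSmoothOfRelativeDimension_respectsIso _ ?_
    show RingHom.IsStandardSmoothOfRelativeDimension (d + 2) (algebraMap R₁ C₁)
    rw [RingHom.isStandardSmoothOfRelativeDimension_algebraMap]
    infer_instance
  haveI : Smooth f₁ := SmoothOfRelativeDimension.smooth (d + 2) f₁
  let φ : C₁ →+* C := e.symm.toRingEquiv.toRingHom.comp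
    (Algebra.TensorProduct.map R₁.val (AlgHom.id R₀ C₀)).toRingHom
  let q : Spec (CommRingCat.of C) ⟶ Spec (CommRingCat.of C₁) := Spec.map (CommRingCat.ofHom φ)
  let f : Spec (CommRingCat.of C) ⟶ c.pt := Spec.map (CommRingCat.ofHom (algebraMap R C))
  have hφR : φ.comp (algebraMap R₁ C₁) = (algebraMap R C).comp R₁.val.toRingHom := by
    refine RingHom.ext fun r => ?_
    show e.symm (Algebra.TensorProduct.map R₁.val (AlgHom.id R₀ C₀) (r ⊗ₜ[R₀] (1 : C₀))) = algebraMap R C (r : R)
    rw [Algebra.TensorProduct.map_tmul, map_one]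
    exact e.symm.commutes (r : R)
  have hq : IsPullback q f f₁ (c.π.app i₁) := by
    let q₀ : Spec (CommRingCat.of C₁) ⟶ Spec (CommRingCat.of C₀) :=
      Spec.map (CommRingCat.ofHom (Algebra.TensorProduct.includeRight : C₀ →ₐ[R₀] R₁ ⊗[R₀] C₀).toRingHom)
    let q' : Spec (CommRingCat.of C) ⟶ Spec (CommRingCat.of C₀) := Spec.map (CommRingCat.ofHom
      (e.symm.toRingEquiv.toRingHom.comp (Algebra.TensorProduct.includeRight : C₀ →ₐ[R₀] R ⊗[R₀] C₀).toRingHom))
    have hR : IsPullback q' f (Spec.map (CommRingCat.ofHom (algebraMap R₀ C₀)))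
        (Spec.map (CommRingCat.ofHom (algebraMap R₀ R))) := by
      have h1 := ((CommRingCat.isPushout_tensorProduct R₀ R C₀).flip.of_iso (Iso.refl _) (Iso.refl _) (Iso.refl _)
        e.symm.toRingEquiv.toCommRingCatIso (f' := CommRingCat.ofHom (algebraMap R₀ C₀))
        (g' := CommRingCat.ofHom (algebraMap R₀ R))
        (inl' := CommRingCat.ofHom (e.symm.toRingEquiv.toRingHom.comp
          (Algebra.TensorProduct.includeRight : C₀ →ₐ[R₀] R ⊗[R₀] C₀).toRingHom))
        (inr' := CommRingCat.ofHom (algebraMap R C)) (by simp) (by simp) (by ext; rfl)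
        (by ext r; exact e.symm.commutes r))
      exact isPullback_SpecMap_of_isPushout _ _ _ _ h1
    have h₁ : IsPullback q₀ f₁ (Spec.map (CommRingCat.ofHom (algebraMap R₀ C₀)))
        (Spec.map (CommRingCat.ofHom (algebraMap R₀ R₁))) :=
      isPullback_SpecMap_of_isPushout _ _ _ _ (CommRingCat.isPushout_tensorProduct R₀ R₁ C₀).flip
    have hqq : q ≫ q₀ = q' := by
      show Spec.map _ ≫ Spec.map _ = Spec.map _
      rw [← Spec.map_comp, ← CommRingCat.ofHom_comp]
      refine congrArg (fun g => Spec.map (CommRingCat.ofHom g)) (RingHom.ext fun x => ?_)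
      show e.symm (Algebra.TensorProduct.map R₁.val (AlgHom.id R₀ C₀) ((1 : R₁) ⊗ₜ[R₀] x)) = _
      rw [Algebra.TensorProduct.map_tmul, map_one]
      rfl
    have hRR : c.π.app i₁ ≫ Spec.map (CommRingCat.ofHom (algebraMap R₀ R₁)) =
        Spec.map (CommRingCat.ofHom (algebraMap R₀ R)) := (Spec.map_comp _ _).symm
    refine IsPullback.of_right (t := h₁) ?_ ?_
    · rw [hqq, hRR]
      exact hR
    · show Spec.map _ ≫ Spec.map _ = Spec.map _ ≫ Spec.map _
      rw [← Spec.map_comp, ← Spec.map_comp, ← CommRingCat.ofHom_comp, hφR]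
      rfl
  -- the closed subset of the model
  let J₁ : Ideal C₁ := Ideal.span (Set.range lift)
  let ι₁ : Spec (CommRingCat.of (C₁ ⧸ J₁)) ⟶ Spec (CommRingCat.of C₁) :=
    Spec.map (CommRingCat.ofHom (Ideal.Quotient.mk J₁))
  haveI : IsClosedImmersion ι₁ := IsClosedImmersion.spec_of_surjective _ Ideal.Quotient.mk_surjective
  have hι₁ : Set.range ι₁ = PrimeSpectrum.zeroLocus (J₁ : Set C₁) := by
    have := range_comap_of_surjective _ (Ideal.Quotient.mk J₁) Ideal.Quotient.mk_surjective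
    rw [Ideal.mk_ker] at this
    exact this
  let U₁ : (Spec (CommRingCat.of C₁)).Opens := ⟨(Set.range ι₁)ᶜ, ι₁.isClosedEmbedding.isClosed_range.isOpen_compl⟩
  have hUq : ∀ x, x ∈ U ↔ q x ∈ U₁ := fun x => by
    show x ∈ U ↔ q x ∈ (Set.range ι₁)ᶜ
    rw [hU x, hι₁]
    refine not_congr ?_
    show (J : Set C) ⊆ _ ↔ (J₁ : Set C₁) ⊆ _
    rw [SetLike.coe_subset_coe, SetLike.coe_subset_coe, ← hG, Ideal.span_le, Ideal.span_le]
    constructor
    · rintro h _ ⟨g, rfl⟩
      show φ (lift g) ∈ (x : PrimeSpectrum C).asIdeal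
      rw [show φ (lift g) = g.1 from (congrArg e.symm (hlift g)).trans (e.symm_apply_apply _)]
      exact h g.2
    · intro h g hg
      have h1 : φ (lift ⟨g, hg⟩) ∈ (x : PrimeSpectrum C).asIdeal := h ⟨⟨g, hg⟩, rfl⟩
      rwa [show φ (lift ⟨g, hg⟩) = g from (congrArg e.symm (hlift ⟨g, hg⟩)).trans (e.symm_apply_apply _)] at h1
  -- descend the bound on the fibre dimension
  let f₀ := ι₁ ≫ f₁
  have hdimX : ∀ x, FlatMor.fibreDimAt f x = ((d + 2 : ℕ) : WithBot ℕ∞) := by
    haveI : SmoothOfRelativeDimension (d + 2) f :=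
      (smoothOfRelativeDimension_isStableUnderBaseChange (d + 2)).of_isPullback hq inferInstance
    exact fun x => Groth.FibreDim.fibreDimAt_eq_of_smoothOfRelativeDimension (d + 2) f x
  let ι'' := pullback.snd ι₁ q
  haveI : IsClosedImmersion ι'' := MorphismProperty.pullback_snd _ _ inferInstance
  haveI : Smooth f := MorphismProperty.of_isPullback hq inferInstance
  have hd : ∀ x, FlatMor.fibreDimAt (ι'' ≫ f) x ≤ (d : WithBot ℕ∞) := fun x =>
    (fibreDimAt_le_dim _ x).trans (dim_fiber_le_of_fibCodimTwo f ι'' d hdimX (fun z => hcod _ fun hzU =>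
      (hUq _).1 hzU ⟨pullback.fst ι₁ q z, by
        rw [← Scheme.Hom.comp_apply, pullback.condition, Scheme.Hom.comp_apply]⟩) _)
  have hY : IsPullback (c.π.app i₁) (𝟙 c.pt) (𝟙 (D.obj i₁)) (c.π.app i₁)  := IsPullback.id_vert _
  have hX : IsPullback (pullback.fst ι₁ q) (ι'' ≫ f) f₀ (c.π.app i₁) :=
    (IsPullback.of_hasPullback ι₁ q).paste_vert hq
  obtain ⟨j, hj⟩ := Groth.Limits.exists_range_fst_subset hc hY hX
    ⟨_, Groth.FibreDim.isOpen_fibreDimAt_le f₀ d⟩ fun x => by
      show FlatMor.fibreDimAt f₀ _ ≤ d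
      rw [← Groth.FibreDim.fibreDimAt_baseChange f₀ (c.π.app i₁) (ι'' ≫ f) _ hX]
      exact hd x
  -- the stages over `j`
  let fj := pullback.fst (D.map j.hom) f₁
  let qj := pullback.snd (D.map j.hom) f₁
  haveI : Smooth fj := MorphismProperty.pullback_fst _ _ inferInstance
  haveI : IsAffineHom f₁ := inferInstanceAs (IsAffineHom (Spec.map _))
  haveI : QuasiCompact fj := MorphismProperty.pullback_fst _ _ inferInstance
  have hstage := bijective_appTop_and_essSurj_of_stages hc fj (qj ⁻¹ᵁ U₁) fun k z hz => by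
    let a := pullback.fst (D.map k.hom) fj
    let b := pullback.snd (D.map k.hom) fj
    have hka : IsPullback (b ≫ qj) a f₁ (D.map k.hom ≫ D.map j.hom) :=
      (IsPullback.of_hasPullback (D.map k.hom) fj).flip.paste_horiz
        (IsPullback.of_hasPullback (D.map j.hom) f₁).flip
    have hz' : (b ≫ qj) z ∈ Set.range ι₁ := not_not.1 hz
    let ιk := pullback.snd ι₁ (b ≫ qj)
    haveI : IsClosedImmersion ιk := MorphismProperty.pullback_snd _ _ inferInstance
    obtain ⟨w, hw⟩ := hz'
    obtain ⟨y, -, hy⟩ := Scheme.Pullback.exists_preimage_pullback w z hw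
    haveI : SmoothOfRelativeDimension (d + 2) a :=
      (smoothOfRelativeDimension_isStableUnderBaseChange (d + 2)).of_isPullback hka inferInstance
    haveI : Smooth a := MorphismProperty.of_isPullback hka inferInstance
    rw [← hy]
    refine fibCodimTwo_of_fibreDimAt a ιk y d
      (Groth.FibreDim.fibreDimAt_eq_of_smoothOfRelativeDimension (d + 2) a _) ?_
    have hk : IsPullback (pullback.fst ι₁ (b ≫ qj)) (ιk ≫ a) f₀ (D.map k.hom ≫ D.map j.hom) :=
      (IsPullback.of_hasPullback ι₁ (b ≫ qj)).paste_vert hka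
    rw [Groth.FibreDim.fibreDimAt_baseChange f₀ _ (ιk ≫ a) _ hk]
    let m : pullback ι₁ (b ≫ qj) ⟶ pullback f₀ (pullback.snd (D.map j.hom) (𝟙 (D.obj i₁))) :=
      pullback.lift (pullback.fst ι₁ (b ≫ qj))
        (pullback.lift (ιk ≫ a ≫ D.map k.hom) (ιk ≫ a ≫ D.map k.hom ≫ D.map j.hom) (by simp))
        (by rw [pullback.lift_snd, hk.w, Category.assoc])
    have h1 := hj (m y)
    rw [← Scheme.Hom.comp_apply, pullback.lift_fst] at h1
    exact h1
  have hπ : c.π.app j.left ≫ D.map j.hom = c.π.app i₁ := c.w j.hom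
  have hP : IsPullback (pullback.snd (c.π.app j.left) fj ≫ qj) (pullback.fst (c.π.app j.left) fj) f₁
      (c.π.app i₁) := by
    rw [← hπ]
    exact (IsPullback.of_hasPullback (c.π.app j.left) fj).flip.paste_horiz
      (IsPullback.of_hasPullback (D.map j.hom) f₁).flip
  let eX := hP.isoIsPullback _ _ hq
  have heX : eX.hom ≫ q = pullback.snd (c.π.app j.left) fj ≫ qj := hP.isoIsPullback_hom_fst _ _ hq
  let U'' := pullback.snd (c.π.app j.left) fj ⁻¹ᵁ (qj ⁻¹ᵁ U₁)
  refine bijective_appTop_and_essSurj_of_range (U''.ι ≫ eX.hom) U ?_ ?_ ?_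
  · ext x
    constructor
    · rintro ⟨p, rfl⟩
      refine (hUq _).2 ?_
      rw [Scheme.Hom.comp_apply, ← Scheme.Hom.comp_apply eX.hom q, heX]
      exact p.2
    · intro hx
      have h1 : eX.inv x ∈ U'' := by
        show (pullback.snd (c.π.app j.left) fj ≫ qj) (eX.inv x) ∈ U₁
        rw [← heX, Scheme.Hom.comp_apply, ← Scheme.Hom.comp_apply eX.inv eX.hom, Iso.inv_hom_id]
        exact (hUq x).1 hx
      exact ⟨⟨eX.inv x, h1⟩, by
        show eX.hom (eX.inv x) = x
        rw [← Scheme.Hom.comp_apply, Iso.inv_hom_id]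
        rfl⟩
  · rw [Scheme.Hom.comp_appTop]
    exact hstage.1.comp (ConcreteCategory.bijective_of_isIso eX.hom.appTop)
  · exact essSurj_of_square eX.inv (𝟙 _) U''.ι (U''.ι ≫ eX.hom) (by simp) hstage.2

end Groth.Pi1Formal
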