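import Groth.Agent.Pi1FEt.PushBij
import Groth.Prelude.Def_FEt
import Mathlib.AlgebraicGeometry.RelativeGluing

/-!
# Gluing extensions of finite étale covers when restriction is fully faithful over every open
-/

universe u

set_option autoImplicit false
set_option backward.isDefEq.respectTransparency false
set_option backward.defeqAttrib.useBackward true
set_option linter.style.haveILetI false

open CategoryTheory CategoryTheory.Limits AlgebraicGeometry TopologicalSpace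

namespace Groth.Pi1Formal.GlueFF

variable {X Y : Scheme.{u}}

/-- Restriction along `f` is fully faithful over every open of the target. -/
class LocFF (f : X ⟶ Y) : Prop where
  full : ∀ V : Y.Opens, (FEt.restrict (f ∣_ V)).Full
  faithful : ∀ V : Y.Opens, (FEt.restrict (f ∣_ V)).Faithful

instance (f : X ⟶ Y) [LocFF f] (V : Y.Opens) : (FEt.restrict (f ∣_ V)).Full := LocFF.full V
instance (f : X ⟶ Y) [LocFF f] (V : Y.Opens) : (FEt.restrict (f ∣_ V)).Faithful := LocFF.faithful V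

/-- Maps out of a cover into a finite etale scheme extend uniquely. -/
theorem existsUnique_extend {f : X ⟶ Y} [LocFF f] {V : Y.Opens} (P : FEt.Cat (V : Scheme.{u}))
    {P' : Scheme.{u}} (m : P' ⟶ P.left) {p' : P' ⟶ (f ⁻¹ᵁ V : Scheme.{u})}
    (hP : IsPullback m p' P.hom (f ∣_ V)) {Z S : Scheme.{u}} (π : Z ⟶ S) (hπ : FEt.prop π)
    (t : (V : Scheme.{u}) ⟶ S) (a : P' ⟶ Z) (ha : a ≫ π = m ≫ P.hom ≫ t) :
    ∃! φ : P.left ⟶ Z, φ ≫ π = P.hom ≫ t ∧ m ≫ φ = a := by
  let Q : FEt.Cat (V : Scheme.{u}) :=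
    MorphismProperty.Over.mk ⊤ (pullback.snd π t) (MorphismProperty.pullback_snd _ _ hπ)
  let F := FEt.restrict (f ∣_ V)
  let e := hP.isoPullback
  have hl : (e.inv ≫ a) ≫ π = (pullback.fst P.hom (f ∣_ V) ≫ P.hom) ≫ t := by
    rw [Category.assoc, Category.assoc, ha, hP.isoPullback_inv_fst_assoc]
  have hkey : pullback.lift (e.inv ≫ a) (pullback.fst P.hom (f ∣_ V) ≫ P.hom) hl ≫ pullback.snd π t =
      pullback.snd P.hom (f ∣_ V) ≫ f ∣_ V := by
    rw [pullback.lift_snd]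
    exact pullback.condition
  let θ : F.obj P ⟶ F.obj Q := MorphismProperty.Over.homMk
    (pullback.lift (pullback.lift (e.inv ≫ a) (pullback.fst P.hom (f ∣_ V) ≫ P.hom) hl)
      (pullback.snd P.hom (f ∣_ V)) hkey) (pullback.lift_snd _ _ _)
  have hfst : ∀ ψ : P ⟶ Q, (F.map ψ).left ≫ pullback.fst Q.hom (f ∣_ V) =
      pullback.fst P.hom (f ∣_ V) ≫ ψ.left := fun ψ => by
    simp [F, FEt.restrict]
  obtain ⟨ψ, hψ⟩ := F.map_surjective θ
  have hψw : ψ.left ≫ pullback.snd π t = P.hom := MorphismProperty.Over.w ψ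
  refine ⟨ψ.left ≫ pullback.fst π t, ⟨?_, ?_⟩, ?_⟩
  · rw [Category.assoc, pullback.condition, reassoc_of% hψw]
  · have h1 : e.inv ≫ m ≫ ψ.left = pullback.lift (e.inv ≫ a) (pullback.fst P.hom (f ∣_ V) ≫ P.hom) hl := by
      rw [hP.isoPullback_inv_fst_assoc]
      exact ((hfst ψ).symm.trans (congrArg (fun r : F.obj P ⟶ F.obj Q => r.left ≫ pullback.fst Q.hom (f ∣_ V)) hψ)).trans
        (pullback.lift_fst _ _ _)
    have h2 := congrArg (fun r => r ≫ pullback.fst π t) h1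
    simp only [Category.assoc, pullback.lift_fst] at h2
    exact (cancel_epi e.inv).1 h2
  · rintro φ ⟨h1, h2⟩
    let ψ₂ : P ⟶ Q := MorphismProperty.Over.homMk (pullback.lift φ P.hom h1) (pullback.lift_snd _ _ _)
    have heq : ψ₂ = ψ := by
      refine F.map_injective (hψ.symm ▸ MorphismProperty.Over.Hom.ext ?_)
      apply pullback.hom_ext
      · rw [hfst ψ₂]
        refine Eq.trans ?_ (pullback.lift_fst _ _ hkey).symm
        apply pullback.hom_ext
        · show (pullback.fst P.hom (f ∣_ V) ≫ pullback.lift φ P.hom h1) ≫ pullback.fst π t = _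
          rw [Category.assoc, pullback.lift_fst, pullback.lift_fst, ← h2, hP.isoPullback_inv_fst_assoc]
        · show (pullback.fst P.hom (f ∣_ V) ≫ pullback.lift φ P.hom h1) ≫ pullback.snd π t = _
          rw [Category.assoc, pullback.lift_snd, pullback.lift_snd]
      · exact (MorphismProperty.Over.w (F.map ψ₂)).trans (MorphismProperty.Over.w θ).symm
    rw [← heq]
    exact (pullback.lift_fst _ _ _).symm

variable {𝔅 : Set Y.Opens}

/-- The open cover by the members of a basis. -/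
@[simps I₀ X f]
noncomputable def basisCover (h𝔅 : Opens.IsBasis 𝔅) : Y.OpenCover where
  I₀ := 𝔅
  X U := U.1
  f U := U.1.ι
  mem₀ := by
    rw [Scheme.presieve₀_mem_precoverage_iff]
    refine ⟨fun x ↦ ?_, inferInstance⟩
    use ⟨(Opens.isBasis_iff_nbhd.mp h𝔅 (Opens.mem_top x)).choose,
      (Opens.isBasis_iff_nbhd.mp h𝔅 (Opens.mem_top x)).choose_spec.1⟩
    simpa using (Opens.isBasis_iff_nbhd.mp h𝔅 (Opens.mem_top x)).choose_spec.2.1

instance (h𝔅 : Opens.IsBasis 𝔅) : Preorder (basisCover h𝔅).I₀ := inferInstanceAs <| Preorder 𝔅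

set_option backward.isDefEq.respectTransparency.types false in
set_option backward.defeqAttrib.useBackward true in
noncomputable instance (h𝔅 : Opens.IsBasis 𝔅) : Scheme.Cover.LocallyDirected (basisCover h𝔅) :=
  .ofIsBasisOpensRange (by intros; simp) <| by
    convert! h𝔅
    simp

section

variable (f : X ⟶ Y) (B : FEt.Cat X)

/-- A descended cover over an open. -/
structure Piece (V : Y.Opens) where
  obj : Scheme.{u}
  hom : obj ⟶ (V : Scheme.{u})
  map : (B.hom ⁻¹ᵁ (f ⁻¹ᵁ V) : Scheme.{u}) ⟶ obj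
  prop : FEt.prop hom
  isPullback : IsPullback map (B.hom ∣_ (f ⁻¹ᵁ V)) hom (f ∣_ V)

variable {f B}
variable {V W K : Y.Opens} (P : Piece f B V) (Q : Piece f B W)

instance : Etale P.hom := P.prop.2
instance : IsFinite P.hom := P.prop.1

theorem le_preimage (h : V ≤ W) : B.hom ⁻¹ᵁ (f ⁻¹ᵁ V) ≤ B.hom ⁻¹ᵁ (f ⁻¹ᵁ W) := fun _ hx => h hx

theorem map_comp (P : Piece f B V) :
    P.map ≫ P.hom ≫ V.ι = (B.hom ⁻¹ᵁ (f ⁻¹ᵁ V)).ι ≫ B.hom ≫ f := by
  rw [← Category.assoc, P.isPullback.w, Category.assoc, morphismRestrict_ι, morphismRestrict_ι_assoc]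

theorem existsUnique_trans [LocFF f] (h : V ≤ W) :
    ∃! φ : P.obj ⟶ Q.obj, φ ≫ Q.hom = P.hom ≫ Y.homOfLE h ∧
      P.map ≫ φ = B.left.homOfLE (le_preimage h) ≫ Q.map :=
  existsUnique_extend (MorphismProperty.Over.mk ⊤ P.hom P.prop) P.map P.isPullback Q.hom Q.prop
    (Y.homOfLE h) (B.left.homOfLE (le_preimage h) ≫ Q.map) (by
    change (B.left.homOfLE (le_preimage h) ≫ Q.map) ≫ Q.hom = P.map ≫ P.hom ≫ Y.homOfLE h
    rw [← cancel_mono W.ι]
    simp only [Category.assoc, map_comp, Scheme.homOfLE_ι, Scheme.homOfLE_ι_assoc])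

variable [LocFF f]

noncomputable def trans (h : V ≤ W) : P.obj ⟶ Q.obj := (existsUnique_trans P Q h).exists.choose

@[reassoc]
theorem trans_hom (h : V ≤ W) : trans P Q h ≫ Q.hom = P.hom ≫ Y.homOfLE h :=
  (existsUnique_trans P Q h).exists.choose_spec.1

@[reassoc]
theorem map_trans (h : V ≤ W) : P.map ≫ trans P Q h = B.left.homOfLE (le_preimage h) ≫ Q.map :=
  (existsUnique_trans P Q h).exists.choose_spec.2

theorem trans_unique (h : V ≤ W) {φ : P.obj ⟶ Q.obj} (h₁ : φ ≫ Q.hom = P.hom ≫ Y.homOfLE h)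
    (h₂ : P.map ≫ φ = B.left.homOfLE (le_preimage h) ≫ Q.map) : φ = trans P Q h :=
  (existsUnique_trans P Q h).unique ⟨h₁, h₂⟩ ⟨trans_hom P Q h, map_trans P Q h⟩

theorem trans_self : trans P P le_rfl = 𝟙 P.obj :=
  (trans_unique P P le_rfl (by simp) (by simp)).symm

theorem trans_trans (R : Piece f B K) (h : V ≤ W) (h' : W ≤ K) :
    trans P Q h ≫ trans Q R h' = trans P R (h.trans h') :=
  trans_unique P R (h.trans h') (by simp [trans_hom, trans_hom_assoc])
    (by rw [map_trans_assoc, map_trans, Scheme.homOfLE_homOfLE_assoc])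

theorem isPullback_trans (h : V ≤ W) : IsPullback P.hom (trans P Q h) (Y.homOfLE h) Q.hom := by
  let j := Y.homOfLE h
  let PV : FEt.Cat (V : Scheme.{u}) := MorphismProperty.Over.mk ⊤ P.hom P.prop
  let QV : FEt.Cat (V : Scheme.{u}) :=
    MorphismProperty.Over.mk ⊤ (pullback.snd Q.hom j) (MorphismProperty.pullback_snd _ _ Q.prop)
  let ψ : PV ⟶ QV := MorphismProperty.Over.homMk
    (pullback.lift (trans P Q h) P.hom (trans_hom P Q h)) (pullback.lift_snd _ _ _)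
  let F := FEt.restrict (f ∣_ V)
  have h2 : f ∣_ V ≫ j = X.homOfLE (show f ⁻¹ᵁ V ≤ f ⁻¹ᵁ W from fun x hx => h hx) ≫ f ∣_ W := by
    rw [← cancel_mono W.ι]
    simp only [Category.assoc, j, Scheme.homOfLE_ι, morphismRestrict_ι, Scheme.homOfLE_ι_assoc]
  have h1 : IsPullback (B.left.homOfLE (le_preimage h)) (B.hom ∣_ (f ⁻¹ᵁ V)) (B.hom ∣_ (f ⁻¹ᵁ W))
      (X.homOfLE (show f ⁻¹ᵁ V ≤ f ⁻¹ᵁ W from fun x hx => h hx)) := by
    refine IsPullback.of_right ?_ ?_ (isPullback_morphismRestrict B.hom (f ⁻¹ᵁ W)).flip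
    · convert (isPullback_morphismRestrict B.hom (f ⁻¹ᵁ V)).flip using 1
      · exact Scheme.homOfLE_ι _ _
      · exact Scheme.homOfLE_ι _ _
    · rw [← cancel_mono (f ⁻¹ᵁ W).ι]
      simp [morphismRestrict_ι]
  have hQ' : IsPullback (B.left.homOfLE (le_preimage h) ≫ Q.map) (B.hom ∣_ (f ⁻¹ᵁ V)) Q.hom (f ∣_ V ≫ j) := by
    rw [h2]
    exact h1.paste_horiz Q.isPullback
  have hpb : IsPullback (pullback.fst QV.hom (f ∣_ V) ≫ pullback.fst Q.hom j) (pullback.snd QV.hom (f ∣_ V))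
      Q.hom (f ∣_ V ≫ j) :=
    (IsPullback.of_hasPullback QV.hom (f ∣_ V)).paste_horiz (IsPullback.of_hasPullback Q.hom j)
  have hiso : IsIso (F.map ψ).left := by
    have e : (F.map ψ).left = P.isPullback.isoPullback.inv ≫ hQ'.isoPullback.hom ≫ hpb.isoPullback.inv := by
      rw [← Category.assoc, Iso.eq_comp_inv, Iso.eq_inv_comp]
      apply pullback.hom_ext
      · simp only [Category.assoc, hpb.isoPullback_hom_fst, hQ'.isoPullback_hom_fst]
        have h3 : (F.map ψ).left ≫ pullback.fst QV.hom (f ∣_ V) = pullback.fst PV.hom (f ∣_ V) ≫ ψ.left := by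
          simp [F, FEt.restrict]
        rw [reassoc_of% h3]
        show _ ≫ pullback.fst P.hom (f ∣_ V) ≫ pullback.lift (trans P Q h) P.hom _ ≫ pullback.fst Q.hom j = _
        rw [pullback.lift_fst, P.isPullback.isoPullback_hom_fst_assoc]
        exact map_trans P Q h
      · simp only [Category.assoc, hpb.isoPullback_hom_snd, hQ'.isoPullback_hom_snd]
        have h3 : (F.map ψ).left ≫ pullback.snd QV.hom (f ∣_ V) = pullback.snd PV.hom (f ∣_ V) :=
          MorphismProperty.Over.w (F.map ψ)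
        rw [h3]
        exact P.isPullback.isoPullback_hom_snd
    rw [e]
    infer_instance
  haveI : IsIso (F.map ψ) := by
    haveI := hiso
    let i := MorphismProperty.Over.isoMk (asIso (F.map ψ).left) (MorphismProperty.Over.w (F.map ψ))
    rw [show F.map ψ = i.hom from MorphismProperty.Over.Hom.ext rfl]
    infer_instance
  haveI : IsIso ψ := isIso_of_reflects_iso ψ F
  haveI : IsIso ψ.left := ((MorphismProperty.Over.forget _ _ _ ⋙ Over.forget _).mapIso (asIso ψ)).isIso_hom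
  exact IsPullback.of_iso_pullback ⟨(trans_hom P Q h).symm⟩ (asIso ψ.left ≪≫ pullbackSymmetry Q.hom j)
    (by simp [ψ, j]) (by simp [ψ, j])

/-- The gluing datum of a family of pieces. -/
noncomputable def gluingData {h𝔅 : Opens.IsBasis 𝔅} (P : ∀ V : (basisCover h𝔅).I₀, Piece f B V.1) :
    Scheme.Cover.RelativeGluingData (basisCover h𝔅) where
  functor :=
    { obj := fun V => (P V).obj
      map := fun {V W} h => trans (P V) (P W) (leOfHom h)
      map_id := fun V => trans_self (P V)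
      map_comp := fun {U V W} h h' => (trans_trans (P U) (P V) (P W) (leOfHom h) (leOfHom h')).symm }
  natTrans :=
    { app := fun V => (P V).hom
      naturality := fun {V W} h => trans_hom (P V) (P W) (leOfHom h) }
  equifibered := fun {V W} h => (isPullback_trans (P V) (P W) (leOfHom h)).flip

end

variable (f : X ⟶ Y) [LocFF f]

/-- With full faithfulness over every open, essential surjectivity is local on the base. -/
theorem restrict_essSurj_of_basis (h𝔅 : Opens.IsBasis 𝔅)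
    (hloc : ∀ V : Y.Opens, V ∈ 𝔅 → ∀ B' : FEt.Cat (f ⁻¹ᵁ V : Scheme.{u}),
      ∃ (A : FEt.Cat (V : Scheme.{u})) (β : B'.left ⟶ A.left), IsPullback β B'.hom A.hom (f ∣_ V)) :
    (FEt.restrict f).EssSurj := by
  refine ⟨fun B => ?_⟩
  have : IsFinite B.hom := B.prop.1
  have : Etale B.hom := B.prop.2
  have hp : ∀ V : (basisCover h𝔅).I₀, Nonempty (Piece f B V.1) := fun V => by
    have hprop : FEt.prop (B.hom ∣_ (f ⁻¹ᵁ V.1)) :=
      MorphismProperty.of_isPullback (isPullback_morphismRestrict B.hom _).flip B.prop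
    obtain ⟨A, β, hβ⟩ := hloc V.1 V.2 (MorphismProperty.Over.mk ⊤ (B.hom ∣_ (f ⁻¹ᵁ V.1)) hprop)
    exact ⟨⟨A.left, A.hom, β, A.prop, hβ⟩⟩
  let P := fun V => (hp V).some
  let d := gluingData P
  have hA : ∀ V : (basisCover h𝔅).I₀,
      IsPullback ((P V).hom) (colimit.ι d.functor V) (Scheme.Opens.ι V.1) d.toBase := fun V =>
    d.isPullback_natTrans_ι_toBase V
  have hprop : FEt.prop d.toBase := by
    have hloc : ∀ (Q : MorphismProperty Scheme.{u}) [IsZariskiLocalAtTarget Q] [Q.RespectsIso],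
        (∀ V, Q (P V).hom) → Q d.toBase := fun Q _ _ hQ => by
      refine (IsZariskiLocalAtTarget.iff_of_openCover (P := Q) (basisCover h𝔅)).2 fun V => ?_
      exact (Q.cancel_left_of_respectsIso (hA V).flip.isoPullback.hom _).1 (by
        erw [(hA V).flip.isoPullback_hom_snd]; exact hQ V)
    exact ⟨hloc @IsFinite fun V => (P V).prop.1, hloc @Etale fun V => (P V).prop.2⟩
  let A : FEt.Cat Y := MorphismProperty.Over.mk ⊤ d.toBase hprop
  -- the comparison map
  let 𝒱 : B.left.OpenCover := B.left.openCoverOfIsOpenCover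
    (fun V : (basisCover h𝔅).I₀ => B.hom ⁻¹ᵁ (f ⁻¹ᵁ V.1)) (eq_top_iff.2 fun b _ => by
      obtain ⟨_, ⟨V, hV, rfl⟩, hbV, -⟩ :=
        h𝔅.exists_subset_of_mem_open (Set.mem_univ (f (B.hom b))) isOpen_univ
      exact Opens.mem_iSup.2 ⟨⟨V, hV⟩, hbV⟩)
  let g : ∀ V : (basisCover h𝔅).I₀, (B.hom ⁻¹ᵁ (f ⁻¹ᵁ V.1) : Scheme.{u}) ⟶ d.glued :=
    fun V => (P V).map ≫ colimit.ι d.functor V
  have hg : ∀ (V W : (basisCover h𝔅).I₀) (h : V.1 ≤ W.1), B.left.homOfLE (le_preimage h) ≫ g W = g V := by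
    intro V W h
    simp only [g]
    rw [← map_trans_assoc (P V) (P W) h]
    exact congrArg ((P V).map ≫ ·) (colimit.w d.functor (homOfLE h))
  obtain ⟨β, hβ⟩ : ∃ β : B.left ⟶ d.glued, ∀ V, (B.hom ⁻¹ᵁ (f ⁻¹ᵁ V.1)).ι ≫ β = g V := by
    refine ⟨𝒱.glueMorphisms g fun V W => ?_, fun V => 𝒱.ι_glueMorphisms g _ V⟩
    let pfst := pullback.fst (𝒱.f V) (𝒱.f W)
    let psnd := pullback.snd (𝒱.f V) (𝒱.f W)
    let c := pfst ≫ (B.hom ⁻¹ᵁ (f ⁻¹ᵁ V.1)).ι ≫ B.hom ≫ f
    refine Scheme.Cover.hom_ext ((pullback (𝒱.f V) (𝒱.f W)).openCoverOfIsOpenCover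
      (fun K : {K : (basisCover h𝔅).I₀ // K.1 ≤ V.1 ∧ K.1 ≤ W.1} => c ⁻¹ᵁ K.1.1) ?_) _ _ ?_
    · refine eq_top_iff.2 fun z _ => ?_
      have h1 : c z ∈ V.1 := (pfst z).2
      have h2 : c z ∈ W.1 := by
        have : c = psnd ≫ (B.hom ⁻¹ᵁ (f ⁻¹ᵁ W.1)).ι ≫ B.hom ≫ f := by
          simp only [c, pfst, psnd]; exact pullback.condition_assoc _
        rw [this]
        exact (psnd z).2
      obtain ⟨_, ⟨K, hK, rfl⟩, hzK, hKle⟩ :=
        h𝔅.exists_subset_of_mem_open (show c z ∈ V.1 ⊓ W.1 from ⟨h1, h2⟩) (V.1 ⊓ W.1).2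
      exact Opens.mem_iSup.2 ⟨⟨⟨K, hK⟩, fun y hy => (hKle hy).1, fun y hy => (hKle hy).2⟩, hzK⟩
    · rintro ⟨K, hKV, hKW⟩
      let ι' := (c ⁻¹ᵁ K.1).ι
      have hr : Set.range (ι' ≫ pfst ≫ (B.hom ⁻¹ᵁ (f ⁻¹ᵁ V.1)).ι).base ⊆
          Set.range (B.hom ⁻¹ᵁ (f ⁻¹ᵁ K.1)).ι.base := by
        rintro _ ⟨z, rfl⟩
        rw [Scheme.Opens.range_ι]
        exact z.2
      let l := IsOpenImmersion.lift (B.hom ⁻¹ᵁ (f ⁻¹ᵁ K.1)).ι _ hr
      have hl : l ≫ (B.hom ⁻¹ᵁ (f ⁻¹ᵁ K.1)).ι = ι' ≫ pfst ≫ (B.hom ⁻¹ᵁ (f ⁻¹ᵁ V.1)).ι :=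
        IsOpenImmersion.lift_fac _ _ _
      have eV : ι' ≫ pfst = l ≫ B.left.homOfLE (le_preimage hKV) := by
        rw [← cancel_mono (B.hom ⁻¹ᵁ (f ⁻¹ᵁ V.1)).ι, Category.assoc, Category.assoc]
        exact hl.symm.trans (congrArg (l ≫ ·) (Scheme.homOfLE_ι B.left (le_preimage hKV)).symm)
      have eW : ι' ≫ psnd = l ≫ B.left.homOfLE (le_preimage hKW) := by
        rw [← cancel_mono (B.hom ⁻¹ᵁ (f ⁻¹ᵁ W.1)).ι]
        rw [Category.assoc, Category.assoc]
        exact ((congrArg (ι' ≫ ·) (pullback.condition (f := 𝒱.f V) (g := 𝒱.f W)).symm).trans hl.symm).trans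
          (congrArg (l ≫ ·) (Scheme.homOfLE_ι B.left (le_preimage hKW)).symm)
      change ι' ≫ pfst ≫ g V = ι' ≫ psnd ≫ g W
      rw [reassoc_of% eV, reassoc_of% eW, hg K V hKV, hg K W hKW]
  have hβw : β ≫ d.toBase = B.hom ≫ f := by
    refine 𝒱.hom_ext _ _ fun V => ?_
    change (B.hom ⁻¹ᵁ (f ⁻¹ᵁ V.1)).ι ≫ β ≫ d.toBase = (B.hom ⁻¹ᵁ (f ⁻¹ᵁ V.1)).ι ≫ B.hom ≫ f
    rw [reassoc_of% (hβ V)]
    simp only [g, Category.assoc]
    rw [← map_comp (P V)]
    congr 1
    exact (hA V).w.symm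
  let q : B.left ⟶ pullback d.toBase f := pullback.lift β B.hom hβw
  have : IsIso q := by
    rw [← MorphismProperty.isomorphisms.iff,
      IsZariskiLocalAtTarget.iff_of_iSup_eq_top (P := MorphismProperty.isomorphisms Scheme)
        (fun V : (basisCover h𝔅).I₀ => pullback.snd d.toBase f ⁻¹ᵁ (f ⁻¹ᵁ V.1))
        (eq_top_iff.2 fun z _ => by
          obtain ⟨_, ⟨V, hV, rfl⟩, hbV, -⟩ := h𝔅.exists_subset_of_mem_open
            (Set.mem_univ (f (pullback.snd d.toBase f z))) isOpen_univ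
          exact Opens.mem_iSup.2 ⟨⟨V, hV⟩, hbV⟩)]
    intro V
    rw [MorphismProperty.isomorphisms.iff]
    let O := pullback.snd d.toBase f ⁻¹ᵁ (f ⁻¹ᵁ V.1)
    have hO : IsPullback (O.ι ≫ pullback.fst d.toBase f) (pullback.snd d.toBase f ∣_ (f ⁻¹ᵁ V.1))
        d.toBase ((f ⁻¹ᵁ V.1).ι ≫ f) :=
      (isPullback_morphismRestrict (pullback.snd d.toBase f) (f ⁻¹ᵁ V.1)).flip.paste_horiz
        (IsPullback.of_hasPullback d.toBase f)
    have hpre : q ⁻¹ᵁ O = B.hom ⁻¹ᵁ (f ⁻¹ᵁ V.1) := by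
      rw [← Scheme.Hom.comp_preimage, pullback.lift_snd]
    have hB : IsPullback ((q ⁻¹ᵁ O).ι ≫ β) ((B.left.isoOfEq hpre).hom ≫ B.hom ∣_ (f ⁻¹ᵁ V.1))
        d.toBase ((f ⁻¹ᵁ V.1).ι ≫ f) := by
      refine (((P V).isPullback.paste_horiz (hA V).flip)).of_iso (B.left.isoOfEq hpre).symm
        (Iso.refl _) (Iso.refl _) (Iso.refl _) ?_ ?_ ?_ ?_
      · have h1 : (B.left.isoOfEq hpre).inv ≫ (q ⁻¹ᵁ O).ι = (B.hom ⁻¹ᵁ (f ⁻¹ᵁ V.1)).ι :=
          Scheme.isoOfEq_inv_ι _ _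
        simp only [Iso.symm_hom, Iso.refl_hom, Category.comp_id]
        rw [← Category.assoc, h1, hβ V]
      · simp
      · simp
      · simp [morphismRestrict_ι]
    have e : q ∣_ O = hB.isoPullback.hom ≫ hO.isoPullback.inv := by
      rw [Iso.eq_comp_inv]
      apply pullback.hom_ext
      · rw [Category.assoc, hO.isoPullback_hom_fst, hB.isoPullback_hom_fst, morphismRestrict_ι_assoc,
          pullback.lift_fst]
      · rw [Category.assoc, hO.isoPullback_hom_snd, hB.isoPullback_hom_snd, ← cancel_mono (f ⁻¹ᵁ V.1).ι]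
        simp only [Category.assoc, morphismRestrict_ι, Scheme.isoOfEq_hom_ι_assoc]
        rw [← Category.assoc (q ∣_ O), morphismRestrict_ι, Category.assoc, pullback.lift_snd]
    rw [e]
    infer_instance
  exact ⟨A, ⟨MorphismProperty.Over.isoMk (asIso q).symm (by
    rw [Iso.symm_hom, asIso_inv, IsIso.inv_comp_eq]; exact (pullback.lift_snd _ _ _).symm)⟩⟩

end Groth.Pi1Formal.GlueFF
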