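import Groth.Agent.Pi1Formal.CodimAffine
import Groth.Agent.Pi1Formal.GlueFF
import Groth.Agent.SpectralTopology.Constructible
import Groth.Agent.Pi1Inv.Thickening
import Mathlib

/-!
# Purity in fibrewise codimension two over an arbitrary base
-/

universe u

set_option autoImplicit false
set_option backward.isDefEq.respectTransparency false
set_option linter.style.haveILetI false

open CategoryTheory CategoryTheory.Limits AlgebraicGeometry TopologicalSpace

namespace Groth.Pi1Formal

open Pi1FEt Topology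

/-- Inducing maps with range stable under generalisation preserve coheights. -/
theorem coheight_apply {A B : Scheme.{u}} (e : A → B) (he : IsInducing e) (hinj : Function.Injective e)
    (hrange : ∀ a b, b ⤳ e a → b ∈ Set.range e) (a : A) :
    letI := specializationOrder (X := A)
    letI := specializationOrder (X := B)
    Order.coheight (e a) = Order.coheight a := by
  letI := specializationOrder (X := A)
  letI := specializationOrder (X := B)
  have hlt : ∀ {x y : A}, x < y ↔ e x < e y := fun {x y} => by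
    rw [lt_iff_le_not_ge, lt_iff_le_not_ge]
    exact and_congr he.specializes_iff.symm (not_congr he.specializes_iff.symm)
  refine le_antisymm (Order.coheight_le fun p hp => ?_)
    (Order.coheight_le_coheight_apply_of_strictMono e (fun _ _ h => hlt.1 h) a)
  have hmem : ∀ i, p i ∈ Set.range e := fun i => hrange a _ (by
    have hle : e a ≤ p i := hp ▸ p.monotone (Fin.zero_le i)
    exact hle)
  choose q hq using hmem
  let p' : LTSeries A := LTSeries.mk p.length q fun i j hij => hlt.2 (by rw [hq, hq]; exact p.strictMono hij)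
  have hhead : p'.head = a := hinj ((hq _).trans hp)
  exact hhead ▸ Order.length_le_coheight_head (p := p')

/-- Fibre codimension is local. -/
theorem fibCodimTwo_of_isOpenImmersion {Z X T S : Scheme.{u}} (g : Z ⟶ X) [IsOpenImmersion g] (f : X ⟶ S)
    (f' : Z ⟶ T) (h : T ⟶ S) [IsOpenImmersion h] (w : f' ≫ h = g ≫ f) (z : Z) (hz : FibCodimTwo f (g z)) :
    FibCodimTwo f' z := by
  have hw : ∀ y : Z, f (g y) = h (f' y) := fun y => by
    rw [← Scheme.Hom.comp_apply, ← Scheme.Hom.comp_apply, w]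
  let A := f'.fiber (f' z)
  let B := f.fiber (f (g z))
  have hA : ∀ a : A, f (g (f'.fiberι _ a)) = f (g z) := fun a => by
    rw [hw, hw, Groth.FibreDim.apply_fiberι]
  let e : A → B := fun a => (f.fiberHomeo (f (g z))).symm ⟨g (f'.fiberι _ a), hA a⟩
  have he : ∀ a, f.fiberι _ (e a) = g (f'.fiberι _ a) := fun a => f.fiberι_fiberHomeo_symm _ _
  have hind : IsInducing e := by
    have h1 : IsInducing (fun a => f.fiberι (f (g z)) (e a)) := by
      have h2 : (fun a => f.fiberι (f (g z)) (e a)) = g ∘ f'.fiberι (f' z) := funext he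
      rw [h2]
      exact g.isOpenEmbedding.isInducing.comp (f'.fiberι _).isEmbedding.isInducing
    exact IsInducing.of_comp (((f.fiberHomeo _).symm.continuous).comp
      ((g.continuous.comp (f'.fiberι _).continuous).subtype_mk _)) (f.fiberι _).continuous h1
  have hinj : Function.Injective e := fun a b hab => (f'.fiberι _).isEmbedding.injective
    (g.isOpenEmbedding.injective ((he a).symm.trans ((congrArg _ hab).trans (he b))))
  have hrange : ∀ a b, b ⤳ e a → b ∈ Set.range e := fun a b hb => by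
    have h1 : f.fiberι _ b ⤳ g (f'.fiberι _ a) := he a ▸ hb.map (f.fiberι _).continuous
    obtain ⟨y, hy⟩ := g.isOpenEmbedding.isOpen_range.stableUnderGeneralization h1 ⟨_, rfl⟩
    obtain ⟨a', ha'⟩ : y ∈ Set.range (f'.fiberι (f' z)) := by
      rw [Scheme.Hom.range_fiberι]
      refine h.isOpenEmbedding.injective ?_
      rw [← hw, hy, Groth.FibreDim.apply_fiberι, hw]
    exact ⟨a', (f.fiberι _).isEmbedding.injective (by rw [he, ha', hy])⟩
  have hez : e (f'.asFiber z) = f.asFiber (g z) := (f.fiberι _).isEmbedding.injective (by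
    rw [he, f'.fiberι_asFiber, f.fiberι_asFiber])
  letI := specializationOrder (X := A)
  letI := specializationOrder (X := B)
  have h5 := coheight_apply e hind hinj hrange (f'.asFiber z)
  rw [hez] at h5
  rw [FibCodimTwo, ringKrullDim_stalk_eq_coheight] at hz ⊢
  rw [← h5]
  exact hz

/-- Bijectivity on sections may be checked on a basis. -/
theorem bijective_app_of_basis {X Y : Scheme.{u}} (f : X ⟶ Y) {𝔅 : Set Y.Opens} (h𝔅 : Opens.IsBasis 𝔅)
    (h : ∀ U ∈ 𝔅, Function.Bijective (f.app U)) :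
    ∀ U : Y.Opens, Function.Bijective (f.app U) := by
  have hnat : ∀ {U W : Y.Opens} (hW : W ≤ U) (s : Γ(Y, U)),
      f.app W (res' hW s) = res' ((Opens.map f.base).map (homOfLE hW)).le (f.app U s) := fun {U W} hW s =>
    congrArg (fun φ => φ.hom s) (f.naturality (homOfLE hW).op)
  have hcov : ∀ U : Y.Opens, U ≤ ⨆ W : {W : Y.Opens // W ∈ 𝔅 ∧ W ≤ U}, W.1 := fun U x hx => by
    obtain ⟨_, ⟨W, hW, rfl⟩, hxW, hWU⟩ := h𝔅.exists_subset_of_mem_open hx U.2
    exact Opens.mem_iSup.2 ⟨⟨W, hW, hWU⟩, hxW⟩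
  have hinj : ∀ U : Y.Opens, Function.Injective (f.app U) := fun U s t hst => by
    refine TopCat.Sheaf.eq_of_locally_eq' Y.sheaf _ U (fun W => homOfLE W.2.2) (hcov U) s t fun W => ?_
    change res' W.2.2 s = res' W.2.2 t
    apply (h W.1 W.2.1).1
    rw [hnat, hnat, hst]
  intro U
  refine ⟨hinj U, fun t => ?_⟩
  choose s hs using fun W : {W : Y.Opens // W ∈ 𝔅 ∧ W ≤ U} =>
    (h W.1 W.2.1).2 (res' ((Opens.map f.base).map (homOfLE W.2.2)).le t)
  obtain ⟨r, hr, -⟩ := Y.sheaf.existsUnique_gluing' (fun W : {W : Y.Opens // W ∈ 𝔅 ∧ W ≤ U} => W.1) U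
    (fun W => homOfLE W.2.2) (hcov U) s
    fun W W' => by
      change res' (inf_le_left : W.1 ⊓ W'.1 ≤ W.1) (s W) = res' (inf_le_right : W.1 ⊓ W'.1 ≤ W'.1) (s W')
      apply hinj
      rw [hnat, hnat, hs, hs, res'_res', res'_res']
  replace hr : ∀ W, res' W.2.2 r = s W := hr
  refine ⟨r, TopCat.Sheaf.eq_of_locally_eq' X.sheaf (fun W : {W : Y.Opens // W ∈ 𝔅 ∧ W ≤ U} => f ⁻¹ᵁ W.1)
    _ (fun W => (Opens.map f.base).map (homOfLE W.2.2)) ?_ _ _ fun W => ?_⟩
  · intro x hx
    obtain ⟨W, hW⟩ := Opens.mem_iSup.1 (hcov U hx)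
    exact Opens.mem_iSup.2 ⟨W, hW⟩
  · change res' _ (f.app U r) = res' _ t
    rw [← hnat W.2.2 r, hr, hs]

/-- Over an affine scheme, sections on a quasi-compact open which agree globally agree everywhere. -/
theorem bijective_app_of_appTop {C : Type u} [CommRing C] (U : (Spec (CommRingCat.of C)).Opens)
    (hU : IsCompact (U : Set (Spec (CommRingCat.of C)))) (h : Function.Bijective U.ι.appTop) :
    ∀ O, Function.Bijective (U.ι.app O) := by
  let X := Spec (CommRingCat.of C)
  haveI : CompactSpace (U : Scheme.{u}) := isCompact_iff_compactSpace.1 hU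
  haveI : QuasiSeparatedSpace (U : Scheme.{u}) := quasiSeparatedSpace_of_quasiSeparated U.ι
  refine bijective_app_of_basis U.ι (𝔅 := Set.range fun a : Γ(X, ⊤) => X.basicOpen a)
    (isBasis_basicOpen X) ?_
  rintro _ ⟨a, rfl⟩
  let b := U.ι.appTop a
  have hpre : U.ι ⁻¹ᵁ X.basicOpen a = (U : Scheme.{u}).basicOpen b := Scheme.preimage_basicOpen U.ι a
  haveI := isLocalization_basicOpen_of_qcqs (U := (⊤ : X.Opens)) isCompact_univ isQuasiSeparated_univ a
  haveI := isLocalization_basicOpen_of_qcqs (U := (⊤ : (U : Scheme.{u}).Opens)) isCompact_univ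
    isQuasiSeparated_univ b
  let ε : Γ((U : Scheme.{u}), (U : Scheme.{u}).basicOpen b) → Γ((U : Scheme.{u}), U.ι ⁻¹ᵁ X.basicOpen a) :=
    fun t => res' hpre.le t
  have hε : Function.Bijective ε := by
    refine ⟨fun s t hst => ?_, fun t => ⟨res' hpre.ge t, ?_⟩⟩
    · have := congrArg (res' hpre.ge) hst
      rwa [res'_res', res'_res', res'_self, res'_self] at this
    · show res' hpre.le (res' hpre.ge t) = t
      rw [res'_res', res'_self]
  have hnat : ∀ s : Γ(X, ⊤), U.ι.app (X.basicOpen a) (res' le_top s) = res' le_top (U.ι.appTop s) := fun s =>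
    congrArg (fun φ => φ.hom s) (U.ι.naturality (homOfLE (le_top : X.basicOpen a ≤ ⊤)).op)
  have hcomm : ∀ s, U.ι.app (X.basicOpen a) (algebraMap Γ(X, ⊤) Γ(X, X.basicOpen a) s) =
      ε (algebraMap Γ((U : Scheme.{u}), ⊤) Γ((U : Scheme.{u}), (U : Scheme.{u}).basicOpen b) (U.ι.appTop s)) :=
    fun s => by
      show U.ι.app _ (res' le_top s) = res' hpre.le (res' le_top (U.ι.appTop s))
      rw [hnat, res'_res']
  have hεmul : ∀ s t, ε (s * t) = ε s * ε t := fun s t => map_mul _ s t
  constructor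
  · rw [injective_iff_map_eq_zero]
    intro z hz
    obtain ⟨s, ⟨_, n, rfl⟩, rfl⟩ := IsLocalization.exists_mk'_eq (Submonoid.powers a) z
    have h1 : U.ι.app (X.basicOpen a) (algebraMap Γ(X, ⊤) Γ(X, X.basicOpen a) s) = 0 := by
      rw [← IsLocalization.mk'_spec Γ(X, X.basicOpen a) s (⟨a ^ n, ⟨n, rfl⟩⟩ : Submonoid.powers a), map_mul, hz, zero_mul]
    rw [hcomm] at h1
    have h2 := hε.1 (h1.trans (map_zero ((U : Scheme.{u}).presheaf.map (homOfLE hpre.le).op).hom).symm)
    obtain ⟨⟨_, m, rfl⟩, hm⟩ := (IsLocalization.map_eq_zero_iff (Submonoid.powers b) _ _).1 h2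
    rw [IsLocalization.mk'_eq_zero_iff]
    refine ⟨⟨a ^ m, m, rfl⟩, h.1 ?_⟩
    rw [map_mul, map_pow, map_zero]
    exact hm
  · intro t
    obtain ⟨t, rfl⟩ := hε.2 t
    obtain ⟨s, ⟨_, n, rfl⟩, rfl⟩ := IsLocalization.exists_mk'_eq (Submonoid.powers b) t
    obtain ⟨s, rfl⟩ := h.2 s
    refine ⟨IsLocalization.mk' _ s (⟨a ^ n, ⟨n, rfl⟩⟩ : Submonoid.powers a), ?_⟩
    have hu : IsUnit (ε (algebraMap _ Γ((U : Scheme.{u}), (U : Scheme.{u}).basicOpen b) (b ^ n))) :=
      (IsLocalization.map_units _ (⟨b ^ n, n, rfl⟩ : Submonoid.powers b)).map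
        ((U : Scheme.{u}).presheaf.map (homOfLE hpre.le).op).hom
    apply hu.mul_left_injective
    show _ * _ = _ * _
    rw [← hεmul, IsLocalization.mk'_spec, show b ^ n = U.ι.appTop (a ^ n) from (map_pow _ _ _).symm,
      ← hcomm, ← map_mul, IsLocalization.mk'_spec, hcomm]

/-- The three conclusions on an affine chart. -/
theorem bijective_appTop_and_essSurj (R C : Type u) [CommRing R] [CommRing C] [Algebra R C] (n : ℕ)
    [Algebra.IsStandardSmoothOfRelativeDimension n R C] (U : (Spec (CommRingCat.of C)).Opens)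
    (hcod : ∀ x : Spec (CommRingCat.of C), x ∉ U →
      FibCodimTwo (Spec.map (CommRingCat.ofHom (algebraMap R C))) x) :
    Function.Bijective U.ι.appTop ∧ (FEt.restrict U.ι).EssSurj := by
  let f := Spec.map (CommRingCat.ofHom (algebraMap R C))
  haveI : SmoothOfRelativeDimension n f := by
    refine (HasRingHomProperty.Spec_iff (P := @SmoothOfRelativeDimension n)).2 ?_
    refine RingHom.locally_of RingHom.isStandardSmoothOfRelativeDimension_respectsIso _ ?_
    rw [CommRingCat.hom_ofHom, RingHom.isStandardSmoothOfRelativeDimension_algebraMap]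
    infer_instance
  haveI : Smooth f := SmoothOfRelativeDimension.smooth n f
  have hdim : ∀ x, FlatMor.fibreDimAt f x = (n : WithBot ℕ∞) :=
    fun x => Groth.FibreDim.fibreDimAt_eq_of_smoothOfRelativeDimension n f x
  rcases Nat.lt_or_ge n 2 with hn | hn
  · have hU : U = ⊤ := top_le_iff.1 fun x _ => by
      by_contra hx
      exact not_fibCodimTwo f hn (hdim x) (hcod x hx)
    subst hU
    haveI : IsIso (⊤ : (Spec (CommRingCat.of C)).Opens).ι :=
      (Spec (CommRingCat.of C)).topIso.isIso_hom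
    refine ⟨ConcreteCategory.bijective_of_isIso _, ⟨fun W => ?_⟩⟩
    exact ⟨(FEt.restrict (inv (⊤ : (Spec (CommRingCat.of C)).Opens).ι)).obj W,
      ⟨((restrictCompIso _ _).app W).symm ≪≫ (restrictCongr (IsIso.hom_inv_id _)).app W ≪≫ (restrictIdIso _).app W⟩⟩
  · obtain ⟨d, rfl⟩ : ∃ d, n = d + 2 := ⟨n - 2, by omega⟩
    let I : Ideal C := PrimeSpectrum.vanishingIdeal
      (((U : Set (Spec (CommRingCat.of C)))ᶜ : Set (Spec (CommRingCat.of C))) : Set (PrimeSpectrum C))
    let ι := Spec.map (CommRingCat.ofHom (Ideal.Quotient.mk I))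
    haveI : IsClosedImmersion ι := IsClosedImmersion.spec_of_surjective _ Ideal.Quotient.mk_surjective
    have hι : ∀ z, ι z ∉ U := fun z => by
      have h1 : ι z ∈ Set.range ι := ⟨z, rfl⟩
      have h2 := range_comap_of_surjective _ (Ideal.Quotient.mk I) Ideal.Quotient.mk_surjective
      rw [Ideal.mk_ker, PrimeSpectrum.zeroLocus_vanishingIdeal_eq_closure,
        (U.isOpen.isClosed_compl).closure_eq] at h2
      exact h2.le ⟨z, rfl⟩
    obtain ⟨Z', ι', k, hι'cl, hι'fp, hk, hZ'⟩ := Groth.Agent.S9216.result f d ι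
      (dim_fiber_le_of_fibCodimTwo f ι d hdim fun z => hcod _ (hι z))
    haveI := hι'cl
    haveI := hι'fp
    let U'' : (Spec (CommRingCat.of C)).Opens := ⟨(Set.range ι')ᶜ, ι'.isClosedEmbedding.isClosed_range.isOpen_compl⟩
    have hle : U'' ≤ U := fun x hx => by
      by_contra hxU
      refine hx ?_
      obtain ⟨y, hy⟩ : x ∈ Set.range ι := by
        have h2 := range_comap_of_surjective _ (Ideal.Quotient.mk I) Ideal.Quotient.mk_surjective
        rw [Ideal.mk_ker, PrimeSpectrum.zeroLocus_vanishingIdeal_eq_closure,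
          (U.isOpen.isClosed_compl).closure_eq] at h2
        exact h2.ge hxU
      exact ⟨k y, by rw [← Scheme.Hom.comp_apply, hk, hy]⟩
    have hcomp : IsCompact (U'' : Set (Spec (CommRingCat.of C))) := by
      have h1 : Topology.IsConstructible (Set.range ι') := by
        rw [← Set.image_univ]
        exact ι'.isConstructible_image Topology.IsConstructible.univ
      exact (Groth.SpectralTopology.isRetrocompact_of_isConstructible h1.compl).isCompact
    obtain ⟨J, hJ, hJU⟩ := PrimeSpectrum.isCompact_isOpen_iff_ideal.1 ⟨hcomp, U''.isOpen⟩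
    obtain ⟨hb, hess⟩ := bijective_appTop_and_essSurj_of_fg R C d J hJ U''
      (fun x => by
        show x ∈ ((U'' : Set (Spec (CommRingCat.of C))) : Set (PrimeSpectrum C)) ↔ _
        rw [← hJU]
        rfl)
      (fun x hx => by
        obtain ⟨z, rfl⟩ : x ∈ Set.range ι' := not_not.1 hx
        exact fibCodimTwo_of_fibreDimAt f ι' z d (hdim _) ((fibreDimAt_le_dim _ z).trans (hZ' _)))
    have hbij := bijective_app_of_appTop U'' hcomp hb
    let j := (Spec (CommRingCat.of C)).homOfLE hle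
    have hj : j ≫ U.ι = U''.ι := Scheme.homOfLE_ι _ hle
    have hjbij : ∀ O, Function.Bijective (j.app O) := fun O => by
      obtain ⟨O', rfl⟩ : ∃ O', U.ι ⁻¹ᵁ O' = O := ⟨U.ι ''ᵁ O, U.ι.preimage_image_eq O⟩
      have hl : O' ⊓ U ≤ U := inf_le_right
      have e1 : U.ι ⁻¹ᵁ O' = U.ι ⁻¹ᵁ (O' ⊓ U) := by
        ext x
        exact ⟨fun hx => ⟨hx, x.2⟩, fun hx => hx.1⟩
      rw [e1]
      haveI : IsIso (U.ι.app (O' ⊓ U)) := U.ι.isIso_app _ (hl.trans (Scheme.Opens.opensRange_ι U).ge)
      have h2 : U''.ι.app (O' ⊓ U) = U.ι.app (O' ⊓ U) ≫ j.app (U.ι ⁻¹ᵁ (O' ⊓ U)) ≫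
          (U'' : Scheme.{u}).presheaf.map (eqToHom
            (congrArg (fun r : (U'' : Scheme.{u}) ⟶ Spec (CommRingCat.of C) => r ⁻¹ᵁ (O' ⊓ U)) hj.symm)).op := by
        rw [← Category.assoc, ← Scheme.Hom.comp_app]
        exact Scheme.Hom.congr_app hj.symm _
      have h3 := hbij (O' ⊓ U)
      rw [h2] at h3
      have h4 := (ConcreteCategory.isIso_iff_bijective _).2 h3
      rw [← Category.assoc] at h4
      have h5 : IsIso (U.ι.app (O' ⊓ U) ≫ j.app (U.ι ⁻¹ᵁ (O' ⊓ U))) :=
        IsIso.of_isIso_comp_right _ ((U'' : Scheme.{u}).presheaf.map (eqToHom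
          (congrArg (fun r : (U'' : Scheme.{u}) ⟶ Spec (CommRingCat.of C) => r ⁻¹ᵁ (O' ⊓ U)) hj.symm)).op)
      exact (ConcreteCategory.isIso_iff_bijective _).1 (IsIso.of_isIso_comp_left (U.ι.app (O' ⊓ U)) _)
    obtain ⟨hfull, hfaith⟩ := restrict_full_faithful_of_bijective_app j hjbij
    refine ⟨?_, ⟨fun W => ?_⟩⟩
    · have h1 : Function.Bijective (U.ι.appTop ≫ j.appTop) := by
        rw [← Scheme.Hom.comp_appTop, hj]; exact hb
      exact (Function.Bijective.of_comp_iff' (hjbij ⊤) _).1 h1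
    · haveI := hess
      let Y := (FEt.restrict U''.ι).objPreimage ((FEt.restrict j).obj W)
      exact ⟨Y, ⟨(FEt.restrict j).preimageIso (((restrictCompIso j U.ι).app Y).symm ≪≫
        (restrictCongr hj).app Y ≪≫ (FEt.restrict U''.ι).objObjPreimageIso ((FEt.restrict j).obj W))⟩⟩

/-- Affine charts of standard smoothness. -/
def chartBasis {X S : Scheme.{u}} (f : X ⟶ S) : Set X.Opens :=
  {W | ∃ (n : ℕ) (V : S.Opens) (_ : IsAffineOpen V) (_ : IsAffineOpen W) (e : W ≤ f ⁻¹ᵁ V),
    (f.appLE V W e).hom.IsStandardSmoothOfRelativeDimension n}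

theorem isBasis_chartBasis {X S : Scheme.{u}} (f : X ⟶ S) [Smooth f] : Opens.IsBasis (chartBasis f) := by
  rw [Opens.isBasis_iff_nbhd]
  intro O x hx
  obtain ⟨V, hV, W, hW, hxW, e, hs⟩ := Smooth.exists_isStandardSmooth (f := f) x
  obtain ⟨n, hn⟩ : ∃ n, (f.appLE V W e).hom.IsStandardSmoothOfRelativeDimension n := by
    algebraize [(f.appLE V W e).hom]
    obtain ⟨ι, σ, hσ, hι, ⟨P⟩⟩ := (RingHom.IsStandardSmooth.toAlgebra hs).out
    exact ⟨P.dimension, ⟨ι, σ, hσ, hι, P, rfl⟩⟩
  obtain ⟨a, ha, hxa⟩ := hW.exists_basicOpen_le ⟨x, hx⟩ hxW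
  refine ⟨X.basicOpen a, ⟨n, V, hV, hW.basicOpen a, (X.basicOpen_le a).trans e, ?_⟩, hxa, ha⟩
  haveI := hW.isLocalization_basicOpen a
  have h2 := (RingHom.isStandardSmoothOfRelativeDimension_stableUnderCompositionWithLocalizationAway n).right
    Γ(X, X.basicOpen a) a (f.appLE V W e).hom hn
  rw [show f.appLE V (X.basicOpen a) ((X.basicOpen_le a).trans e) =
    f.appLE V W e ≫ X.presheaf.map (homOfLE (X.basicOpen_le a)).op from (f.appLE_map _ _).symm]
  exact h2

/-- Relative purity in codimension two. -/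
theorem isEquivalence_of_fibCodimTwo {X S : Scheme.{u}} (f : X ⟶ S) [Smooth f] (U : X.Opens)
    (h : ∀ x : X, x ∉ U → FibCodimTwo f x) : (FEt.restrict U.ι).IsEquivalence := by
  have h𝔅 := isBasis_chartBasis f
  have key : ∀ W ∈ chartBasis f,
      Function.Bijective (U.ι.app W) ∧ (FEt.restrict (U.ι ∣_ W)).EssSurj := by
    rintro W ⟨n, V, hV, hW, e, hs⟩
    let R := Γ(S, V)
    let C := Γ(X, W)
    letI : Algebra R C := (f.appLE V W e).hom.toAlgebra
    haveI : Algebra.IsStandardSmoothOfRelativeDimension n R C :=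
      RingHom.isStandardSmoothOfRelativeDimension_algebraMap n |>.1 hs
    let g := hW.fromSpec
    have hw : Spec.map (CommRingCat.ofHom (algebraMap R C)) ≫ hV.fromSpec = g ≫ f :=
      IsAffineOpen.SpecMap_appLE_fromSpec f hV hW e
    obtain ⟨hb, hess⟩ := bijective_appTop_and_essSurj R C n (g ⁻¹ᵁ U) fun x hx =>
      fibCodimTwo_of_isOpenImmersion g f _ hV.fromSpec hw x (h _ hx)
    let u := U.ι ∣_ W
    let v := (g ⁻¹ᵁ U).ι ≫ hW.isoSpec.inv
    have hv : v ≫ W.ι = (g ⁻¹ᵁ U).ι ≫ g := by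
      rw [Category.assoc]
      rfl
    have hrange : Set.range v = Set.range u := by
      ext x
      constructor
      · rintro ⟨p, rfl⟩
        have h1 : W.ι (v p) ∈ U := by
          rw [← Scheme.Hom.comp_apply, hv]
          exact p.2
        refine ⟨⟨⟨W.ι (v p), h1⟩, (v p).2⟩, W.ι.isOpenEmbedding.injective ?_⟩
        rw [← Scheme.Hom.comp_apply, morphismRestrict_ι]
        rfl
      · rintro ⟨p, rfl⟩
        have h1 : hW.isoSpec.hom (u p) ∈ g ⁻¹ᵁ U := by
          show (hW.isoSpec.hom ≫ g) (u p) ∈ U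
          rw [show hW.isoSpec.hom ≫ g = W.ι from hW.isoSpec_hom_fromSpec, ← Scheme.Hom.comp_apply,
            morphismRestrict_ι, Scheme.Hom.comp_apply]
          exact (_ : (U : Scheme.{u})).2
        exact ⟨⟨_, h1⟩, by
          show hW.isoSpec.inv (hW.isoSpec.hom (u p)) = _
          rw [← Scheme.Hom.comp_apply, Iso.hom_inv_id]
          rfl⟩
    haveI : IsOpenImmersion u := inferInstance
    let θ := IsOpenImmersion.isoOfRangeEq u v hrange.symm
    have hθ : θ.hom ≫ v = u := IsOpenImmersion.isoOfRangeEq_hom_fac _ _ _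
    have hvbij : Function.Bijective v.appTop := by
      rw [Scheme.Hom.comp_appTop]
      exact hb.comp (ConcreteCategory.bijective_of_isIso hW.isoSpec.inv.appTop)
    refine ⟨?_, ?_⟩
    · have hu : Function.Bijective u.appTop := by
        rw [← hθ, Scheme.Hom.comp_appTop]
        exact (ConcreteCategory.bijective_of_isIso θ.hom.appTop).comp hvbij
      rw [morphismRestrict_appTop] at hu
      have h2 := (ConcreteCategory.isIso_iff_bijective _).2 hu
      haveI : IsIso (U.ι.app (W.ι ''ᵁ ⊤)) := IsIso.of_isIso_comp_right _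
        ((U : Scheme.{u}).presheaf.map (eqToHom (image_morphismRestrict_preimage U.ι W ⊤)).op)
      rw [← W.ι_image_top]
      exact ConcreteCategory.bijective_of_isIso _
    · exact essSurj_of_square hW.isoSpec.hom θ.hom (g ⁻¹ᵁ U).ι u
        (by rw [← hθ]; simp [v]) hess
  have hbij := bijective_app_of_basis U.ι h𝔅 fun W hW => (key W hW).1
  obtain ⟨hfull, hfaith⟩ := restrict_full_faithful_of_bijective_app U.ι hbij
  haveI : GlueFF.LocFF U.ι := by
    have hVbij : ∀ V : X.Opens, ∀ O, Function.Bijective ((U.ι ∣_ V).app O) := fun V O => by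
      rw [morphismRestrict_app]
      exact (ConcreteCategory.bijective_of_isIso ((U : Scheme.{u}).presheaf.map
        (eqToHom (image_morphismRestrict_preimage U.ι V O)).op)).comp (hbij _)
    exact ⟨fun V => (restrict_full_faithful_of_bijective_app _ (hVbij V)).1,
      fun V => (restrict_full_faithful_of_bijective_app _ (hVbij V)).2⟩
  haveI : (FEt.restrict U.ι).EssSurj := GlueFF.restrict_essSurj_of_basis U.ι h𝔅 fun W hW B => by
    haveI := (key W hW).2
    exact Pi1Inv.lifts_of_essSurj (U.ι ∣_ W) B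
  exact { }

end Groth.Pi1Formal
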