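import Groth.Agent.Pi1Formal.SmoothPurity
import Groth.Agent.Calg4.PowerSeriesAdicSmooth
import Mathlib

/-!
# Purity at a non-generic point of an etale algebra over a line over a base of depth two
-/

universe u

set_option autoImplicit false
set_option backward.isDefEq.respectTransparency false
set_option linter.style.haveILetI false

open IsLocalRing Polynomial

namespace Groth.Pi1Formal

variable {S : Type u} [CommRing S]

theorem finite_of_simple {k K : Type u} [Field k] [Field K] (φ : k →+* K) (t : K) {g : k[X]} (hg : g ≠ 0)
    (hgt : g.eval₂ φ t = 0) (hgen : ∀ x : K, ∃ a b : k[X], x = a.eval₂ φ t / b.eval₂ φ t) : φ.Finite := by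
  letI : Algebra k K := φ.toAlgebra
  have hg' : Polynomial.aeval t g = 0 := hgt
  haveI := IntermediateField.adjoin.finiteDimensional (isAlgebraic_iff_isIntegral.1 ⟨g, hg, hg'⟩ : IsIntegral k t)
  have htop : IntermediateField.adjoin k {t} = ⊤ := by
    rw [eq_top_iff]
    intro x _
    obtain ⟨a, b, rfl⟩ := hgen x
    exact div_mem (IntermediateField.algebra_adjoin_le_adjoin _ _ (Polynomial.aeval_mem_adjoin_singleton k t))
      (IntermediateField.algebra_adjoin_le_adjoin _ _ (Polynomial.aeval_mem_adjoin_singleton k t))
  exact Module.Finite.equiv ((IntermediateField.equivOfEq htop).trans IntermediateField.topEquiv).toLinearEquiv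

/-- The residue field of a prime of a line at which some nontrivial polynomial vanishes is finite
over the residue field below. -/
theorem finite_residueField_map_C (Q : Ideal S[X]) [Q.IsPrime] (p : Ideal S) [p.IsPrime]
    (hp : p = Q.comap (C : S →+* S[X])) {f : S[X]} (hf : f ∈ Q) {j : ℕ} (hj : f.coeff j ∉ p) :
    (Ideal.ResidueField.map p Q C hp).Finite := by
  let φ := Ideal.ResidueField.map p Q C hp
  let t := algebraMap S[X] Q.ResidueField X
  have heval : ∀ g : S[X], algebraMap S[X] Q.ResidueField g =
      (g.map (algebraMap S p.ResidueField)).eval₂ φ t := by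
    intro g
    rw [Polynomial.eval₂_map]
    have : algebraMap S[X] Q.ResidueField = Polynomial.eval₂RingHom (φ.comp (algebraMap S p.ResidueField)) t := by
      refine Polynomial.ringHom_ext (fun a => ?_) ?_
      · simp only [Polynomial.coe_eval₂RingHom, Polynomial.eval₂_C, RingHom.comp_apply]
        exact (Ideal.ResidueField.map_algebraMap p Q C hp a).symm
      · simp [t]
    exact RingHom.congr_fun this g
  refine finite_of_simple φ t (g := f.map (algebraMap S p.ResidueField)) (fun h => hj ?_) ?_ fun x => ?_
  · have h1 := congrArg (fun q => Polynomial.coeff q j) h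
    simp only [Polynomial.coeff_map, Polynomial.coeff_zero] at h1
    exact Ideal.algebraMap_residueField_eq_zero.1 h1
  · rw [← heval]
    exact Ideal.algebraMap_residueField_eq_zero.2 hf
  · obtain ⟨a, b, hb, rfl⟩ := IsFractionRing.div_surjective (S[X] ⧸ Q) x
    obtain ⟨a, rfl⟩ := Ideal.Quotient.mk_surjective a
    obtain ⟨b, rfl⟩ := Ideal.Quotient.mk_surjective b
    refine ⟨a.map (algebraMap S p.ResidueField), b.map (algebraMap S p.ResidueField), ?_⟩
    rw [← heval, ← heval]
    rfl

/-- Purity together with depth at least two. -/
def IsPureDeep (A : Type u) [CommRing A] [IsLocalRing A] : Prop :=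
  FEt.PurityHolds A ∧ (2 : ℕ∞) ≤ LocCoh.depth A A

theorem IsPureDeep.of_ringEquiv {A B : Type u} [CommRing A] [IsLocalRing A] [CommRing B] [IsLocalRing B]
    (e : A ≃+* B) (h : IsPureDeep A) : IsPureDeep B :=
  ⟨purityHolds_of_ringEquiv e h.1, by rw [← Ega4b.depth_eq_of_ringEquiv e]; exact h.2⟩

/-- Purity at a point of an etale algebra over a line which is not generic in its fibre. -/
theorem purityHolds_of_etale_polynomial [IsNoetherianRing S] {C' : Type u} [CommRing C'] [Algebra S C']
    [Algebra S[X] C'] [IsScalarTower S S[X] C'] [Algebra.Etale S[X] C'] (P : Ideal C') [P.IsPrime]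
    (hdepth : (2 : ℕ∞) ≤ LocCoh.depth (Localization.AtPrime (P.comap (algebraMap S C')))
      (Localization.AtPrime (P.comap (algebraMap S C'))))
    {f : S[X]} (hf : algebraMap S[X] C' f ∈ P) {j : ℕ} (hj : algebraMap S C' (f.coeff j) ∉ P) :
    IsPureDeep (Localization.AtPrime P) := by
  let p := P.comap (algebraMap S C')
  let Q := P.comap (algebraMap S[X] C')
  have hpQ : p = Q.comap (C : S →+* S[X]) := by
    rw [Ideal.comap_comap]
    exact congrArg (fun φ => Ideal.comap φ P) (IsScalarTower.algebraMap_eq S S[X] C')
  haveI : P.LiesOver p := ⟨rfl⟩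
  haveI : P.LiesOver Q := ⟨rfl⟩
  let A := Localization.AtPrime p
  let L := Localization.AtPrime P
  let AQ := Localization.AtPrime Q
  letI : Algebra A L := Localization.AtPrime.algebraOfLiesOver p P
  letI : Algebra AQ L := Localization.AtPrime.algebraOfLiesOver Q P
  haveI : IsNoetherianRing A := IsLocalization.isNoetherianRing p.primeCompl A inferInstance
  haveI : IsNoetherianRing C' := Algebra.FiniteType.isNoetherianRing S[X] C'
  haveI : IsNoetherianRing L := IsLocalization.isNoetherianRing P.primeCompl L inferInstance
  haveI : IsLocalHom (algebraMap A L) := Localization.isLocalHom_localRingHom p P _ Ideal.LiesOver.over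
  haveI : IsLocalHom (algebraMap AQ L) := Localization.isLocalHom_localRingHom Q P _ Ideal.LiesOver.over
  haveI : IsScalarTower S A L := IsScalarTower.of_algebraMap_eq fun x => by
    show algebraMap S L x = Localization.localRingHom p P (algebraMap S C') _ (algebraMap S A x)
    rw [Localization.localRingHom_to_map, ← IsScalarTower.algebraMap_apply]
  haveI : IsScalarTower S[X] AQ L := IsScalarTower.of_algebraMap_eq fun x => by
    show algebraMap S[X] L x = Localization.localRingHom Q P (algebraMap S[X] C') _ (algebraMap S[X] AQ x)
    rw [Localization.localRingHom_to_map, ← IsScalarTower.algebraMap_apply]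
  haveI : Module.Flat S C' := Module.Flat.trans S S[X] C'
  haveI : Module.Flat A L := inferInstance
  haveI : Module.Flat AQ L := inferInstance
  haveI : Module.FaithfullyFlat AQ L := Module.FaithfullyFlat.of_flat_of_isLocalHom
  -- formal smoothness
  haveI : Algebra.FormallySmooth S C' := Algebra.FormallySmooth.comp S S[X] C'
  haveI : Algebra.FormallySmooth C' L := Algebra.FormallySmooth.of_isLocalization P.primeCompl
  haveI : Algebra.FormallySmooth S L := Algebra.FormallySmooth.comp S C' L
  haveI : Algebra.FormallySmooth A L := Algebra.FormallySmooth.localization_base (R := S) p.primeCompl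
  refine ⟨?_, two_le_depth_of_flat (A := A) hdepth⟩
  refine purityHolds_of_finiteResidue hdepth L (Calg4.isAdicFormallySmooth_of_formallySmooth A L _) ?_ ?_
  · -- finite residue extension
    haveI : Algebra.EssFiniteType S[X] L := Algebra.EssFiniteType.comp S[X] C' L
    haveI : Algebra.EssFiniteType AQ L := Algebra.EssFiniteType.of_comp S[X] AQ L
    haveI : Algebra.FormallyUnramified C' L := Algebra.FormallyUnramified.of_isLocalization P.primeCompl
    haveI : Algebra.FormallyUnramified S[X] L := Algebra.FormallyUnramified.comp S[X] C' L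
    haveI : Algebra.FormallyUnramified AQ L := Algebra.FormallyUnramified.of_restrictScalars S[X] AQ L
    have h1 : (Ideal.ResidueField.map Q P (algebraMap S[X] C') rfl).Finite :=
      RingHom.finite_algebraMap.2 (inferInstance : Module.Finite (ResidueField AQ) (ResidueField L))
    have h2 := finite_residueField_map_C Q p hpQ (f := f) hf hj
    have h3 : Ideal.ResidueField.map p P (algebraMap S C') rfl =
        (Ideal.ResidueField.map Q P (algebraMap S[X] C') rfl).comp (Ideal.ResidueField.map p Q C hpQ) := by
      refine IsFractionRing.ringHom_ext (A := S ⧸ p) fun x => ?_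
      obtain ⟨x, rfl⟩ := Ideal.Quotient.mk_surjective x
      rw [Ideal.algebraMap_quotient_residueField_mk, RingHom.comp_apply, Ideal.ResidueField.map_algebraMap,
        Ideal.ResidueField.map_algebraMap, Ideal.ResidueField.map_algebraMap,
        IsScalarTower.algebraMap_apply S S[X] C']
      rfl
    show (Ideal.ResidueField.map p P (algebraMap S C') rfl).Finite
    rw [h3]
    exact h1.comp h2
  · -- not generic in the fibre
    intro hmax
    have hfL : algebraMap S[X] L f ∈ (p.map (C : S →+* S[X])).map (algebraMap S[X] L) := by
      have h1 : algebraMap S[X] L f ∈ maximalIdeal L := by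
        rw [IsScalarTower.algebraMap_apply S[X] C' L, IsLocalization.AtPrime.to_map_mem_maximal_iff L P]
        exact hf
      rw [hmax, ← Localization.AtPrime.map_eq_maximalIdeal, Ideal.map_map, ← IsScalarTower.algebraMap_eq] at h1
      rw [Ideal.map_map, show (algebraMap S[X] L).comp C = algebraMap S L from
        (IsScalarTower.algebraMap_eq S S[X] L).symm]
      exact h1
    have hfQ : algebraMap S[X] AQ f ∈ (p.map (C : S →+* S[X])).map (algebraMap S[X] AQ) := by
      rw [← Ideal.comap_map_eq_self_of_faithfullyFlat (B := L) ((p.map (C : S →+* S[X])).map (algebraMap S[X] AQ)),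
        Ideal.mem_comap, Ideal.map_map, ← IsScalarTower.algebraMap_eq, ← IsScalarTower.algebraMap_apply]
      exact hfL
    rw [IsLocalization.algebraMap_mem_map_algebraMap_iff Q.primeCompl] at hfQ
    obtain ⟨u, hu, huf⟩ := hfQ
    haveI : (p.map (C : S →+* S[X])).IsPrime := Ideal.isPrime_map_C_of_isPrime
    rcases (Ideal.IsPrime.mem_or_mem ‹_› huf) with h | h
    · refine hu ?_
      exact Ideal.map_le_iff_le_comap.2 hpQ.le h
    · exact hj (Ideal.mem_map_C_iff.1 h j)

end Groth.Pi1Formal
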