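import Groth.Agent.EtaleAlgebra.TraceEtale
import Mathlib

/-!
# Algebraisation of idempotents of finite etale algebras by means of the trace form

`C` is a `B`-algebra, finite free etale over each member of a family of `B`-algebras `T i`, each
mapping to a "completion" `Bh i`. If compatible families in the `T i` are detected by the
completions and compatible families in the completions come from `B`, then compatible idempotents
over the completions come from compatible idempotents over the `T i`.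
-/

universe u

set_option autoImplicit false
set_option linter.unusedSectionVars false

open scoped TensorProduct

namespace Groth.Pi1Formal

variable {B : Type u} [CommRing B] (C : Type u) [CommRing C] [Algebra B C]

variable (B) in
/-- `C` becomes finite free etale over `T`. -/
def Good (T : Type u) [CommRing T] [Algebra B T] : Prop :=
  Module.Free T (T ⊗[B] C) ∧ Module.Finite T (T ⊗[B] C) ∧ Algebra.Etale T (T ⊗[B] C)

variable {T T' T'' : Type u} [CommRing T] [Algebra B T] [CommRing T'] [Algebra B T']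
  [CommRing T''] [Algebra B T'']

/-- Functoriality of the base change in the coefficients. -/
noncomputable def mapT (f : T →ₐ[B] T') : T ⊗[B] C →ₐ[B] T' ⊗[B] C :=
  Algebra.TensorProduct.map f (AlgHom.id B C)

@[simp]
theorem mapT_tmul (f : T →ₐ[B] T') (t : T) (c : C) : mapT C f (t ⊗ₜ c) = f t ⊗ₜ c :=
  Algebra.TensorProduct.map_tmul _ _ _ _

theorem mapT_comp (f : T →ₐ[B] T') (h : T' →ₐ[B] T'') (x : T ⊗[B] C) :
    mapT C h (mapT C f x) = mapT C (h.comp f) x := by
  induction x with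
  | zero => simp
  | tmul t c => simp
  | add x y hx hy => rw [map_add, map_add, map_add, hx, hy]

theorem mapT_smul (f : T →ₐ[B] T') (t : T) (x : T ⊗[B] C) : mapT C f (t • x) = f t • mapT C f x := by
  induction x with
  | zero => simp
  | tmul t' c => simp [TensorProduct.smul_tmul']
  | add x y hx hy => rw [smul_add, map_add, map_add, smul_add, hx, hy]

theorem baseChange_aux (f : T →ₐ[B] T') :
    letI := f.toRingHom.toAlgebra
    ∃ (_ : IsScalarTower B T T') (e : T' ⊗[T] (T ⊗[B] C) ≃ₐ[T'] T' ⊗[B] C),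
      ∀ x, e (1 ⊗ₜ x) = mapT C f x := by
  letI := f.toRingHom.toAlgebra
  haveI : IsScalarTower B T T' := IsScalarTower.of_algebraMap_eq fun b => (f.commutes b).symm
  refine ⟨inferInstance, Algebra.TensorProduct.cancelBaseChange B T T' T' C, fun x => ?_⟩
  induction x with
  | zero => simp
  | tmul t c =>
    rw [Algebra.TensorProduct.cancelBaseChange_tmul, mapT_tmul, Algebra.smul_def, mul_one]
    rfl
  | add x y hx hy => rw [TensorProduct.tmul_add, map_add, map_add, hx, hy]

theorem Good.map (f : T →ₐ[B] T') (h : Good B C T) : Good B C T' := by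
  obtain ⟨_, _, _⟩ := h
  letI := f.toRingHom.toAlgebra
  obtain ⟨_, e, -⟩ := baseChange_aux C f
  exact ⟨Module.Free.of_equiv e.toLinearEquiv, Module.Finite.equiv e.toLinearEquiv,
    Algebra.Etale.of_equiv e⟩

theorem trace_mapT (f : T →ₐ[B] T') (h : Good B C T) (x : T ⊗[B] C) :
    Algebra.trace T' (T' ⊗[B] C) (mapT C f x) = f (Algebra.trace T (T ⊗[B] C) x) := by
  obtain ⟨_, _, _⟩ := h
  letI := f.toRingHom.toAlgebra
  obtain ⟨_, e, he⟩ := baseChange_aux C f
  rw [← he, Algebra.trace_eq_of_algEquiv e, Algebra.trace_apply, Algebra.trace_apply]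
  have hl : Algebra.lmul T' (T' ⊗[T] (T ⊗[B] C)) (1 ⊗ₜ x) =
      LinearMap.baseChange T' (Algebra.lmul T (T ⊗[B] C) x) := by
    ext y
    simp
  rw [hl, LinearMap.trace_baseChange]
  rfl

variable {r : ℕ} (g : Fin r → C)

variable (B) in
/-- The images of the `g j` generate over `T`. -/
def Gens (T : Type u) [CommRing T] [Algebra B T] : Prop :=
  Submodule.span T (Set.range fun j => ((1 : T) ⊗ₜ[B] g j : T ⊗[B] C)) = ⊤

theorem Gens.map (f : T →ₐ[B] T') (h : Gens B C g T) : Gens B C g T' := by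
  rw [Gens, eq_top_iff]
  have key : ∀ x : T ⊗[B] C, mapT C f x ∈
      Submodule.span T' (Set.range fun j => ((1 : T') ⊗ₜ[B] g j : T' ⊗[B] C)) := by
    intro x
    have hx : x ∈ Submodule.span T (Set.range fun j => ((1 : T) ⊗ₜ[B] g j : T ⊗[B] C)) :=
      h ▸ Submodule.mem_top
    induction hx using Submodule.span_induction with
    | mem y hy =>
      obtain ⟨j, rfl⟩ := hy
      rw [mapT_tmul, map_one]
      exact Submodule.subset_span ⟨j, rfl⟩
    | zero => rw [map_zero]; exact Submodule.zero_mem _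
    | add y z _ _ hy hz => rw [map_add]; exact Submodule.add_mem _ hy hz
    | smul t y _ hy => rw [mapT_smul]; exact Submodule.smul_mem _ _ hy
  rintro x -
  induction x with
  | zero => exact Submodule.zero_mem _
  | tmul t c =>
    have h1 := Submodule.smul_mem _ t (key (1 ⊗ₜ c))
    rwa [mapT_tmul, map_one, TensorProduct.smul_tmul', smul_eq_mul, mul_one] at h1
  | add y z hy hz => exact Submodule.add_mem _ hy hz

theorem eq_of_trace (h : Good B C T) (hg : Gens B C g T) {x y : T ⊗[B] C}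
    (he : ∀ j, Algebra.trace T (T ⊗[B] C) (x * (1 ⊗ₜ g j)) = Algebra.trace T (T ⊗[B] C) (y * (1 ⊗ₜ g j))) :
    x = y := by
  obtain ⟨_, _, _⟩ := h
  refine ((Groth.EtaleAlgebra.etale_iff_bijective_traceForm T (T ⊗[B] C)).1 inferInstance).1 ?_
  refine LinearMap.ext_on_range hg fun j => ?_
  simpa [Algebra.traceForm_apply] using he j

theorem exists_trace_eq (h : Good B C T) (hg : Gens B C g T) (v : Fin r → T)
    (hv : ∀ t : Fin r → T, ∑ j, t j • ((1 : T) ⊗ₜ[B] g j) = 0 → ∑ j, t j * v j = 0) :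
    ∃ x : T ⊗[B] C, ∀ j, Algebra.trace T (T ⊗[B] C) (x * (1 ⊗ₜ g j)) = v j := by
  obtain ⟨_, _, _⟩ := h
  let L := Fintype.linearCombination T (fun j => ((1 : T) ⊗ₜ[B] g j : T ⊗[B] C))
  have hs : Function.Surjective L := by
    rw [← LinearMap.range_eq_top, Fintype.range_linearCombination]
    exact hg
  have hker : LinearMap.ker L ≤ LinearMap.ker (Fintype.linearCombination T v) := fun t ht => by
    rw [LinearMap.mem_ker, Fintype.linearCombination_apply] at ht ⊢
    simpa using hv t ht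
  let φ : T ⊗[B] C →ₗ[T] T :=
    (Submodule.liftQ _ _ hker).comp (L.quotKerEquivOfSurjective hs).symm.toLinearMap
  obtain ⟨x, hx⟩ := ((Groth.EtaleAlgebra.etale_iff_bijective_traceForm T (T ⊗[B] C)).1 inferInstance).2 φ
  refine ⟨x, fun j => ?_⟩
  rw [← Algebra.traceForm_apply, hx]
  have hj : L (Pi.single j 1) = (1 : T) ⊗ₜ[B] g j := by
    simp [L, Fintype.linearCombination_apply_single]
  have hq : (L.quotKerEquivOfSurjective hs).symm (1 ⊗ₜ g j) =
      Submodule.Quotient.mk (Pi.single j 1) := by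
    rw [LinearEquiv.symm_apply_eq]
    exact hj.symm
  show Submodule.liftQ _ _ hker ((L.quotKerEquivOfSurjective hs).symm (1 ⊗ₜ g j)) = v j
  rw [hq, Submodule.liftQ_apply, Fintype.linearCombination_apply_single, smul_eq_mul, one_mul]

section family

variable {ι : Type u} (T : ι → Type u) [∀ i, CommRing (T i)] [∀ i, Algebra B (T i)]
  (T₂ : ι → ι → Type u) [∀ i j, CommRing (T₂ i j)] [∀ i j, Algebra B (T₂ i j)]
  (Bh : ι → Type u) [∀ i, CommRing (Bh i)] [∀ i, Algebra B (Bh i)]
  (Bh₂ : ι → ι → Type u) [∀ i j, CommRing (Bh₂ i j)] [∀ i j, Algebra B (Bh₂ i j)]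
  (r₁ : ∀ i j, T i →ₐ[B] T₂ i j) (r₂ : ∀ i j, T j →ₐ[B] T₂ i j)
  (ψ : ∀ i, T i →ₐ[B] Bh i) (ψ₂ : ∀ i j, T₂ i j →ₐ[B] Bh₂ i j)
  (s₁ : ∀ i j, Bh i →ₐ[B] Bh₂ i j) (s₂ : ∀ i j, Bh j →ₐ[B] Bh₂ i j)

/-- Compatible families over the `T i` are detected by the completions. -/
def Detects : Prop :=
  ∀ d : ∀ i, T i, (∀ i j, r₁ i j (d i) = r₂ i j (d j)) → (∀ i, ψ i (d i) = 0) → ∀ i, d i = 0

/-- Compatible families over the completions come from the base. -/
def Algebraizes : Prop :=
  ∀ β : ∀ i, Bh i, (∀ i j, s₁ i j (β i) = s₂ i j (β j)) → ∃ b : B, ∀ i, algebraMap B (Bh i) b = β i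

variable (hT : ∀ i, Good B C (T i)) (hg : ∀ i, Gens B C g (T i))
  (hdet : Detects T T₂ Bh r₁ r₂ ψ)

include hT hg hdet

/-- Compatible families over the `T i` with equal images over the completions are equal. -/
theorem family_ext {x y : ∀ i, T i ⊗[B] C} (hx : ∀ i j, mapT C (r₁ i j) (x i) = mapT C (r₂ i j) (x j))
    (hy : ∀ i j, mapT C (r₁ i j) (y i) = mapT C (r₂ i j) (y j))
    (he : ∀ i, mapT C (ψ i) (x i) = mapT C (ψ i) (y i)) (i : ι) : x i = y i := by
  refine eq_of_trace C g (hT i) (hg i) fun l => ?_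
  let d : ∀ i, T i := fun i => Algebra.trace (T i) (T i ⊗[B] C) ((x i - y i) * (1 ⊗ₜ g l))
  have hd : ∀ i, d i = 0 := hdet d (fun i j => by
      simp only [d]
      rw [← trace_mapT C (r₁ i j) (hT i), ← trace_mapT C (r₂ i j) (hT j)]
      simp only [map_mul, map_sub, mapT_tmul, map_one, hx i j, hy i j])
    (fun i => by
      simp only [d]
      rw [← trace_mapT C (ψ i) (hT i), map_mul, map_sub, he i, sub_self, zero_mul, map_zero])
  rw [← sub_eq_zero, ← map_sub, ← sub_mul]
  exact hd i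

/-- Compatible idempotents over the completions come from compatible idempotents over the `T i`. -/
theorem exists_family (halg : Algebraizes Bh Bh₂ s₁ s₂)
    (hψ₁ : ∀ i j, (ψ₂ i j).comp (r₁ i j) = (s₁ i j).comp (ψ i))
    (hψ₂ : ∀ i j, (ψ₂ i j).comp (r₂ i j) = (s₂ i j).comp (ψ j))
    (hrel : ∀ i (t : Fin r → T i), ∑ l, t l • ((1 : T i) ⊗ₜ[B] g l) = 0 →
      ∃ (c : Fin r → B) (w : T i), IsUnit w ∧ (∀ l, w * t l = algebraMap B (T i) (c l)) ∧ ∑ l, c l • g l = 0)
    (ε : ∀ i, Bh i ⊗[B] C) (hε : ∀ i, IsIdempotentElem (ε i))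
    (hεc : ∀ i j, mapT C (s₁ i j) (ε i) = mapT C (s₂ i j) (ε j)) :
    ∃ x : ∀ i, T i ⊗[B] C, (∀ i, IsIdempotentElem (x i)) ∧ (∀ i, mapT C (ψ i) (x i) = ε i) ∧
      ∀ i j, mapT C (r₁ i j) (x i) = mapT C (r₂ i j) (x j) := by
  have hTh : ∀ i, Good B C (Bh i) := fun i => (hT i).map C (ψ i)
  let β : Fin r → ∀ i, Bh i := fun l i => Algebra.trace (Bh i) (Bh i ⊗[B] C) (ε i * (1 ⊗ₜ g l))
  have hβ : ∀ l, ∃ b : B, ∀ i, algebraMap B (Bh i) b = β l i := fun l => halg (β l) fun i j => by
    simp only [β]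
    rw [← trace_mapT C (s₁ i j) (hTh i), ← trace_mapT C (s₂ i j) (hTh j)]
    simp only [map_mul, mapT_tmul, map_one, hεc i j]
  choose b hb using hβ
  have hv : ∀ i (t : Fin r → T i), ∑ l, t l • ((1 : T i) ⊗ₜ[B] g l) = 0 →
      ∑ l, t l * algebraMap B (T i) (b l) = 0 := by
    intro i t ht
    obtain ⟨c, w, hw, hwt, hc⟩ := hrel i t ht
    let b₀ : B := ∑ l, c l * b l
    have h0 : ∀ k, algebraMap B (T k) b₀ = 0 := hdet (fun k => algebraMap B (T k) b₀)
      (fun k j => by rw [AlgHom.commutes, AlgHom.commutes]) (fun k => by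
        rw [AlgHom.commutes, map_sum]
        have h1 : ∀ l, algebraMap B (Bh k) (c l * b l) =
            Algebra.trace (Bh k) (Bh k ⊗[B] C) (ε k * (1 ⊗ₜ (c l • g l))) := fun l => by
          rw [map_mul, hb l k, TensorProduct.tmul_smul, mul_smul_comm, ← algebraMap_smul (Bh k) (c l),
            map_smul, smul_eq_mul]
        rw [Finset.sum_congr rfl fun l _ => h1 l, ← map_sum, ← Finset.mul_sum, ← TensorProduct.tmul_sum,
          hc, TensorProduct.tmul_zero, mul_zero, map_zero])
    refine hw.mul_right_eq_zero.1 ?_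
    rw [Finset.mul_sum, ← h0 i, map_sum]
    refine Finset.sum_congr rfl fun l _ => ?_
    rw [← mul_assoc, hwt l, ← map_mul]
  choose x hx using fun i => exists_trace_eq C g (hT i) (hg i) _ (hv i)
  have hψx : ∀ i, mapT C (ψ i) (x i) = ε i := fun i =>
    eq_of_trace C g (hTh i) ((hg i).map C g (ψ i)) fun l => by
      have h := trace_mapT C (ψ i) (hT i) (x i * (1 ⊗ₜ g l))
      rw [map_mul, mapT_tmul, map_one, hx i l, AlgHom.commutes, hb l i] at h
      exact h
  have hxc : ∀ i j, mapT C (r₁ i j) (x i) = mapT C (r₂ i j) (x j) := fun i j =>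
    eq_of_trace C g ((hT i).map C (r₁ i j)) ((hg i).map C g (r₁ i j)) fun l => by
      have h₁ := trace_mapT C (r₁ i j) (hT i) (x i * (1 ⊗ₜ g l))
      have h₂ := trace_mapT C (r₂ i j) (hT j) (x j * (1 ⊗ₜ g l))
      rw [map_mul, mapT_tmul, map_one, hx i l, AlgHom.commutes] at h₁
      rw [map_mul, mapT_tmul, map_one, hx j l, AlgHom.commutes] at h₂
      rw [h₁, h₂]
  refine ⟨x, fun i => ?_, hψx, hxc⟩
  exact family_ext C g T T₂ Bh r₁ r₂ ψ hT hg hdet (x := fun i => x i * x i) (y := x)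
    (fun i j => by rw [map_mul, map_mul, hxc i j]) hxc
    (fun i => by rw [map_mul, hψx i, (hε i).eq]) i

end family

end Groth.Pi1Formal
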