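import Groth.Agent.Pi1Formal.Thickened
import Groth.Agent.Ega4Algebra2.SchemeFibre
import Groth.Agent.Calg4.RegularAscent
import Groth.Agent.Agf.RegularPoints
import Groth.Agent.S15848
import Groth.Agent.FibreDim.Semicontinuity
import Groth.Agent.VarietyBC.Dim
import Mathlib

/-!
# Fibrewise codimension two in smooth schemes over Noetherian bases
-/

universe u

set_option autoImplicit false
set_option backward.isDefEq.respectTransparency false
set_option linter.style.haveILetI false

open CategoryTheory CategoryTheory.Limits AlgebraicGeometry IsLocalRing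

namespace Groth.Pi1Formal

/-- The fibre through `x` has local ring of dimension at least two at `x`. -/
def FibCodimTwo {X S : Scheme.{u}} (f : X ⟶ S) (x : X) : Prop :=
  (2 : WithBot ℕ∞) ≤ ringKrullDim ((f.fiber (f x)).presheaf.stalk (f.asFiber x))

/-- A point of fibre codimension two has two proper generisations in its fibre. -/
theorem FibCodimTwo.exists_chain {X S : Scheme.{u}} {f : X ⟶ S} {x : X} (h : FibCodimTwo f x) :
    ∃ y y₀ : X, y₀ ⤳ y ∧ y ⤳ x ∧ y₀ ≠ y ∧ y ≠ x ∧ f y = f x ∧ f y₀ = f x := by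
  let F := f.fiber (f x)
  letI := specializationOrder (X := F)
  rw [FibCodimTwo, ringKrullDim_stalk_eq_coheight] at h
  have h2 : ((2 : ℕ) : ℕ∞) ≤ Order.coheight (f.asFiber x) := WithBot.coe_le_coe.1 h
  obtain ⟨p, hp, hlen⟩ := Order.exists_series_of_le_coheight _ h2
  let i0 : Fin (p.length + 1) := ⟨0, by omega⟩
  let i1 : Fin (p.length + 1) := ⟨1, by omega⟩
  let i2 : Fin (p.length + 1) := ⟨2, by omega⟩
  have h01 : p i0 < p i1 := p.strictMono (Fin.mk_lt_mk.2 Nat.zero_lt_one)
  have h12 : p i1 < p i2 := p.strictMono (Fin.mk_lt_mk.2 Nat.one_lt_two)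
  have hspec : ∀ {a b : F}, a ≤ b → (f.fiberι (f x)).base b ⤳ (f.fiberι (f x)).base a :=
    fun hab => (show _ ⤳ _ from hab).map (f.fiberι (f x)).base.hom.continuous
  have hinj := (f.fiberι (f x)).isEmbedding.injective
  have hp0 : (f.fiberι (f x)).base (p i0) = x := by
    rw [show p i0 = f.asFiber x from hp, f.fiberι_asFiber]
  have hfib : ∀ a : F, f ((f.fiberι (f x)).base a) = f x := fun a => Groth.FibreDim.apply_fiberι f _ a
  refine ⟨(f.fiberι (f x)).base (p i1), (f.fiberι (f x)).base (p i2), hspec h12.le, ?_,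
    fun he => h12.ne (hinj he).symm, fun he => h01.ne (hinj (hp0.trans he.symm)), hfib _, hfib _⟩
  have h3 := hspec h01.le
  rwa [hp0] at h3

/-- Purity at a point of fibre codimension two of a smooth scheme over a Noetherian base. -/
theorem purityHolds_stalk_of_codim {X S : Scheme.{u}} (f : X ⟶ S) [Smooth f] [IsLocallyNoetherian S]
    {x : X} (h : FibCodimTwo f x) : FEt.PurityHolds (X.presheaf.stalk x) := by
  obtain ⟨y, y₀, hy₀, hyx, hy₀ne, hne, hy, hy₀f⟩ := h.exists_chain
  obtain ⟨_, ⟨V, hV, rfl⟩, hxV, -⟩ :=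
    S.isBasis_affineOpens.exists_subset_of_mem_open (Set.mem_univ (f x)) isOpen_univ
  obtain ⟨_, ⟨W, hW, rfl⟩, hxW, hWV⟩ :=
    X.isBasis_affineOpens.exists_subset_of_mem_open (show x ∈ f ⁻¹ᵁ V from hxV) (f ⁻¹ᵁ V).2
  let φ := f.appLE V W hWV
  haveI : IsNoetherianRing Γ(S, V) := IsLocallyNoetherian.component_noetherian ⟨V, hV⟩
  letI : Algebra Γ(S, V) Γ(X, W) := φ.hom.toAlgebra
  haveI : Algebra.Smooth Γ(S, V) Γ(X, W) := RingHom.smooth_algebraMap.1 (f.smooth_appLE hV hW hWV)
  let pr : ∀ z : X, z ∈ W → Ideal Γ(X, W) := fun z hz => (hW.primeIdealOf ⟨z, hz⟩).asIdeal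
  have hmemW : ∀ z, z ⤳ x → z ∈ W := fun z hz => W.2.stableUnderGeneralization hz hxW
  have hfib : ∀ z (hz : z ∈ W) (hfz : f z = f x), (pr z hz).comap (algebraMap Γ(S, V) Γ(X, W)) =
      (hV.primeIdealOf ⟨f x, hWV hxW⟩).asIdeal := fun z hz hfz => by
    refine (congrArg PrimeSpectrum.asIdeal (IsAffineOpen.comap_primeIdealOf_appLE V hV W hW hWV hz)).trans ?_
    congr 2
    exact Subtype.ext hfz
  have hlt : ∀ a b (ha : a ∈ W) (hb : b ∈ W), a ⤳ b → a ≠ b → pr a ha < pr b hb := by
    intro a b ha hb hab hne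
    let wa := hW.primeIdealOf ⟨a, ha⟩
    let wb := hW.primeIdealOf ⟨b, hb⟩
    have ea : hW.fromSpec wa = a := hW.fromSpec_primeIdealOf ⟨a, ha⟩
    have eb : hW.fromSpec wb = b := hW.fromSpec_primeIdealOf ⟨b, hb⟩
    refine lt_of_le_of_ne ?_ fun he => hne ?_
    · rw [← ea, ← eb, hW.fromSpec.isOpenEmbedding.isInducing.specializes_iff] at hab
      exact (PrimeSpectrum.le_iff_specializes wa wb).2 hab
    · rw [← ea, ← eb, show wa = wb from PrimeSpectrum.ext he]
  let P := pr x hxW
  letI : Algebra Γ(X, W) (X.presheaf.stalk x) := X.presheaf.algebra_section_stalk ⟨x, hxW⟩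
  haveI : IsLocalization.AtPrime (X.presheaf.stalk x) P := hW.isLocalization_stalk ⟨x, hxW⟩
  refine purityHolds_of_ringEquiv (IsLocalization.algEquiv P.primeCompl (Localization.AtPrime P)
    (X.presheaf.stalk x)).toRingEquiv ?_
  exact purityHolds_of_chain (R := Γ(S, V)) P (pr y (hmemW y hyx)) (pr y₀ (hmemW y₀ (hy₀.trans hyx)))
    (hlt y x _ hxW hyx hne) (hlt y₀ y _ _ hy₀ hy₀ne)
    ((hfib y _ hy).trans (hfib x hxW rfl).symm) ((hfib y₀ _ hy₀f).trans (hfib x hxW rfl).symm)

/-- Purity and depth at a point of fibre codimension two. -/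
theorem isPureDeep_stalk_of_codim {X S : Scheme.{u}} (f : X ⟶ S) [Smooth f] [IsLocallyNoetherian S]
    {x : X} (h : FibCodimTwo f x) : IsPureDeep (X.presheaf.stalk x) := by
  haveI : IsLocallyNoetherian X := LocallyOfFiniteType.isLocallyNoetherian f
  refine ⟨purityHolds_stalk_of_codim f h, ?_⟩
  rw [Ega4b.depth_stalk_eq_add f x]
  refine le_trans ?_ le_add_self
  haveI : Smooth (f.fiberToSpecResidueField (f x)) := MorphismProperty.pullback_snd _ _ inferInstance
  haveI : IsRegularLocalRing (CInt.fiberStalk f x) :=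
    Groth.Agent.S15848.isRegularLocalRing_of_smooth_field (f.fiberToSpecResidueField (f x)) (f.asFiber x)
  have hCM := Calg4.isCohenMacaulayLocalRing_of_isRegularLocalRing (CInt.fiberStalk f x)
  have h1 : ringKrullDim (CInt.fiberStalk f x) =
      ((LocCoh.depth (CInt.fiberStalk f x) (CInt.fiberStalk f x) : ℕ∞) : WithBot ℕ∞) :=
    (Module.supportDim_self_eq_ringKrullDim _).symm.trans hCM.supportDim_eq_depth
  exact WithBot.coe_le_coe.1 (h.trans_eq h1)

/-- Over a Noetherian base, restriction to an open of fibrewise codimension two is an equivalence. -/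
theorem isEquivalence_of_codim {X S : Scheme.{u}} (f : X ⟶ S) [Smooth f] [IsLocallyNoetherian S]
    (U : X.Opens) (h : ∀ x : X, x ∉ U → FibCodimTwo f x) : (FEt.restrict U.ι).IsEquivalence := by
  haveI : IsLocallyNoetherian X := LocallyOfFiniteType.isLocallyNoetherian f
  exact isEquivalence_of_isPureDeep U fun x hx => isPureDeep_stalk_of_codim f (h x hx)

end Groth.Pi1Formal
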