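import Groth.Agent.Pi1Formal.Clopen
import Groth.Agent.Pi1PBC.Basic
import Mathlib

/-!
# Finite etale covers of a neighbourhood of the punctured zero section in a power series spectrum
-/

universe u

set_option autoImplicit false
set_option backward.isDefEq.respectTransparency false
set_option linter.style.haveILetI false

open CategoryTheory Limits AlgebraicGeometry TensorProduct Topology

namespace Groth.Pi1Formal

/-- Affine basic opens of a quasi-affine scheme are basic opens of the spectrum of global sections. -/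
theorem basicOpen_subset_range {X : Scheme.{u}} [CompactSpace X] [QuasiSeparatedSpace X] (r : Γ(X, ⊤))
    (hr : IsAffineOpen (X.basicOpen r)) :
    ∀ y : PrimeSpectrum Γ(X, ⊤), r ∉ y.asIdeal → y ∈ Set.range X.toSpecΓ := by
  intro y hy
  letI : Algebra Γ(X, ⊤) Γ(X, X.basicOpen r) := (X.presheaf.map (homOfLE le_top).op).hom.toAlgebra
  haveI : IsLocalization.Away r Γ(X, X.basicOpen r) :=
    isLocalization_basicOpen_of_qcqs isCompact_univ isQuasiSeparated_univ r
  have hy' : y ∈ Set.range (PrimeSpectrum.comap (algebraMap Γ(X, ⊤) Γ(X, X.basicOpen r))) := by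
    rw [PrimeSpectrum.localization_away_comap_range Γ(X, X.basicOpen r) r]
    exact hy
  obtain ⟨z, hz⟩ := hy'
  obtain ⟨w, hw⟩ := hr.isoSpec.hom.homeomorph.surjective z
  refine ⟨(X.basicOpen r).ι w, ?_⟩
  rw [← Scheme.Hom.comp_apply, ← Scheme.Opens.toSpecΓ_SpecMap_presheaf_map_top, Scheme.Hom.comp_apply]
  refine Eq.trans ?_ hz
  rw [← hw]
  rfl

variable {R : Type u} [CommRing R] {V : (Spec (CommRingCat.of R)).Opens}

/-- Restrictions of covers to basic opens inside `V` are finite etale algebras. -/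
theorem exists_clopen_data {X : Scheme.{u}} (f : X ⟶ (V : Scheme.{u})) [IsFinite f] [Etale f]
    [CompactSpace ↥(V : Scheme.{u})] :
    ∃ (C : Type u) (_ : CommRing C) (_ : Algebra R C) (j : X ⟶ Spec (CommRingCat.of C)),
      IsOpenImmersion j ∧ j ≫ Spec.map (CommRingCat.ofHom (algebraMap R C)) = f ≫ V.ι ∧
      ∀ a : R, (∀ q : PrimeSpectrum R, a ∉ q.asIdeal → q ∈ V) →
        (∀ y : PrimeSpectrum C, algebraMap R C a ∉ y.asIdeal → y ∈ Set.range j) ∧
        Module.Finite (Localization.Away a) (Localization.Away a ⊗[R] C) ∧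
        Algebra.Etale (Localization.Away a) (Localization.Away a ⊗[R] C) := by
  haveI : Scheme.IsQuasiAffine (V : Scheme.{u}) := Scheme.IsQuasiAffine.of_isImmersion V.ι
  haveI : X.IsQuasiAffine := Scheme.IsQuasiAffine.of_isAffineHom f
  let φ : CommRingCat.of R ⟶ Γ(X, ⊤) :=
    (Scheme.ΓSpecIso (CommRingCat.of R)).inv ≫ (f ≫ V.ι).appTop
  letI : Algebra R Γ(X, ⊤) := φ.hom.toAlgebra
  have hj : X.toSpecΓ ≫ Spec.map φ = f ≫ V.ι := by
    rw [Spec.map_comp, ← Category.assoc, ← Scheme.toSpecΓ_naturality, Category.assoc,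
      toSpecΓ_SpecMap_ΓSpecIso_inv, Category.comp_id]
  refine ⟨Γ(X, ⊤), inferInstance, inferInstance, X.toSpecΓ, inferInstance, hj, fun a ha => ?_⟩
  let D : (Spec (CommRingCat.of R)).Opens := PrimeSpectrum.basicOpen a
  have haff : IsAffineOpen (X.basicOpen (φ a)) := by
    have h1 : IsAffineOpen (f ⁻¹ᵁ (V.ι ⁻¹ᵁ D)) :=
      ((IsAffineOpen.Spec_basicOpen (R := CommRingCat.of R) a).preimage_of_isOpenImmersion V.ι
        (by rw [Scheme.Opens.opensRange_ι]; exact fun q hq => ha q hq)).preimage f
    convert h1 using 1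
    rw [← Scheme.toSpecΓ_preimage_basicOpen (r := φ a)]
    show X.toSpecΓ ⁻¹ᵁ ((Spec.map φ) ⁻¹ᵁ D) = _
    rw [← Scheme.Hom.comp_preimage, hj]
    rfl
  have hrange : ∀ y : PrimeSpectrum Γ(X, ⊤), algebraMap R Γ(X, ⊤) a ∉ y.asIdeal →
      y ∈ Set.range X.toSpecΓ := basicOpen_subset_range (φ a) haff
  refine ⟨hrange, ?_⟩
  -- base change to the basic open
  have hsq := isPullback_SpecMap_of_isPushout _ _ _ _
    (CommRingCat.isPushout_tensorProduct R (Localization.Away a) Γ(X, ⊤))
  set pT := Spec.map (CommRingCat.ofHom (S := Localization.Away a ⊗[R] Γ(X, ⊤))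
    Algebra.TensorProduct.includeLeftRingHom) with hpT
  set pC := Spec.map (CommRingCat.ofHom (S := Localization.Away a ⊗[R] Γ(X, ⊤))
    (Algebra.TensorProduct.includeRight (R := R) (A := Localization.Away a)).toRingHom) with hpC
  set t := Spec.map (CommRingCat.ofHom (algebraMap R (Localization.Away a))) with ht
  haveI : IsOpenImmersion t := IsOpenImmersion.of_isLocalization a
  have htV : Set.range t ⊆ Set.range V.ι := by
    rw [Scheme.Opens.range_ι]
    exact fun x hx => ha x ((PrimeSpectrum.localization_away_comap_range (Localization.Away a) a).le hx)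
  let tV := IsOpenImmersion.lift V.ι t htV
  have htV' : tV ≫ V.ι = t := IsOpenImmersion.lift_fac _ _ _
  have hC : Set.range pC ⊆ Set.range X.toSpecΓ := by
    rintro _ ⟨P, rfl⟩
    refine hrange _ ?_
    have h2 : Spec.map φ (pC P) = t (pT P) := by
      have h3 : pT ≫ t = pC ≫ Spec.map φ := hsq.w
      exact congrArg (fun g => g.base P) h3.symm
    show pC P ∈ Spec.map φ ⁻¹ᵁ D
    show Spec.map φ (pC P) ∈ D
    rw [h2]
    exact (PrimeSpectrum.localization_away_comap_range (Localization.Away a) a).le ⟨pT P, rfl⟩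
  let l := IsOpenImmersion.lift X.toSpecΓ pC hC
  have hl : l ≫ X.toSpecΓ = pC := IsOpenImmersion.lift_fac _ _ _
  have hw : l ≫ f = pT ≫ tV := by
    rw [← cancel_mono V.ι, Category.assoc, Category.assoc, htV', ← hj, ← Category.assoc, hl]
    exact hsq.w.symm
  have hpb : IsPullback l pT f tV := by
    refine ⟨⟨hw⟩, ⟨PullbackCone.IsLimit.mk _ (fun s => hsq.lift s.snd (s.fst ≫ X.toSpecΓ) ?_)
      (fun s => ?_) (fun s => ?_) (fun s m h1 h2 => ?_)⟩⟩
    · show s.snd ≫ t = (s.fst ≫ X.toSpecΓ) ≫ Spec.map φ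
      rw [Category.assoc, hj, ← Category.assoc, s.condition, Category.assoc, htV']
    · rw [← cancel_mono X.toSpecΓ, Category.assoc, hl]
      exact hsq.lift_snd _ _ _
    · exact hsq.lift_fst _ _ _
    · refine hsq.hom_ext ?_ ?_
      · rw [IsPullback.lift_fst]
        exact h2
      · rw [IsPullback.lift_snd, ← h1, Category.assoc, hl]
  have hf : IsFinite pT := MorphismProperty.of_isPullback hpb inferInstance
  have he : Etale pT := MorphismProperty.of_isPullback hpb inferInstance
  exact ⟨RingHom.finite_algebraMap.1 ((IsFinite.SpecMap_iff _).1 hf),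
    RingHom.etale_algebraMap.1 ((HasRingHomProperty.Spec_iff (P := @Etale)).1 he)⟩

section

variable {C : Type u} [CommRing C] [Algebra R C]

theorem exists_free_away {T M : Type u} [CommRing T] [AddCommGroup M] [Module T M] [Module.Flat T M]
    [Module.Finite T M] [Module.FinitePresentation T M] (P : PrimeSpectrum T) :
    ∃ t, t ∉ P.asIdeal ∧ Module.Free (Localization.Away t) (Localization.Away t ⊗[T] M) := by
  have hfree : P ∈ Module.freeLocus T M := by
    rw [Module.freeLocus_eq_univ]
    trivial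
  haveI : Module.Free (Localization.AtPrime P.asIdeal) (LocalizedModule P.asIdeal.primeCompl M) := hfree
  obtain ⟨t, htP, htfree, -⟩ := Module.FinitePresentation.exists_free_localizedModule_powers
    P.asIdeal.primeCompl (LocalizedModule.mkLinearMap P.asIdeal.primeCompl M)
    (Localization.AtPrime P.asIdeal)
  haveI := htfree
  exact ⟨t, htP, Module.Free.of_equiv (LocalizedModule.equivTensorProduct (Submonoid.powers t) M)⟩

theorem good_of_tower {T T' : Type u} [CommRing T] [Algebra R T] [CommRing T'] [Algebra R T'] [Algebra T T']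
    [IsScalarTower R T T'] [Module.Finite T (T ⊗[R] C)] [Algebra.Etale T (T ⊗[R] C)]
    [Module.Free T' (T' ⊗[T] (T ⊗[R] C))] : Good R C T' := by
  let e := Algebra.TensorProduct.cancelBaseChange R T T' T' C
  exact ⟨Module.Free.of_equiv e.toLinearEquiv, Module.Finite.equiv e.toLinearEquiv,
    Algebra.Etale.of_equiv e⟩

/-- Refining a finite etale base change to a free one. -/
theorem exists_good_refinement (a : R) (hf : Module.Finite (Localization.Away a) (Localization.Away a ⊗[R] C))
    (he : Algebra.Etale (Localization.Away a) (Localization.Away a ⊗[R] C)) (p : PrimeSpectrum R)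
    (hp : a ∉ p.asIdeal) : ∃ b : R, b ∉ p.asIdeal ∧ a ∣ b ∧ Good R C (Localization.Away b) := by
  haveI := hf
  haveI := he
  haveI : Module.FinitePresentation (Localization.Away a) (Localization.Away a ⊗[R] C) :=
    Module.FinitePresentation.of_finite_of_finitePresentation _ _
  have hp' : p ∈ Set.range (PrimeSpectrum.comap (algebraMap R (Localization.Away a))) := by
    rw [PrimeSpectrum.localization_away_comap_range (Localization.Away a) a]
    exact hp
  obtain ⟨P, rfl⟩ := hp'
  obtain ⟨t, htP, htfree⟩ := exists_free_away (M := Localization.Away a ⊗[R] C) P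
  -- a fraction representing `t`
  obtain ⟨N, n, hn⟩ := IsLocalization.Away.surj a t
  refine ⟨a * n, fun h => ?_, dvd_mul_right a n, ?_⟩
  · rw [PrimeSpectrum.comap_asIdeal, Ideal.mem_comap, map_mul, ← hn] at h
    have hu : IsUnit (algebraMap R (Localization.Away a) a) := IsLocalization.Away.algebraMap_isUnit a
    rcases P.isPrime.mem_or_mem h with h | h
    · exact P.isPrime.ne_top (Ideal.eq_top_of_isUnit_mem _ h hu)
    · rcases P.isPrime.mem_or_mem h with h | h
      · exact htP h
      · exact P.isPrime.ne_top (Ideal.eq_top_of_isUnit_mem _ h (hu.pow N))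
  let T₁ := Localization.Away t
  have hgood : Good R C T₁ := by
    haveI : Module.Free T₁ (T₁ ⊗[Localization.Away a] (Localization.Away a ⊗[R] C)) := htfree
    exact good_of_tower (T := Localization.Away a)
  let T₂ := Localization.Away (a * n)
  have hua : IsUnit (algebraMap R T₂ a) :=
    isUnit_of_dvd_unit (map_dvd _ (dvd_mul_right a n)) (IsLocalization.Away.algebraMap_isUnit _)
  let g₀ : Localization.Away a →+* T₂ := IsLocalization.Away.lift a hua
  have hg₀ : ∀ x, g₀ (algebraMap R _ x) = algebraMap R T₂ x := IsLocalization.Away.lift_eq a hua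
  have hut : IsUnit (g₀ t) := by
    refine isUnit_of_dvd_unit (Dvd.intro (g₀ (algebraMap R _ a ^ N)) ?_)
      (isUnit_of_dvd_unit (map_dvd _ (dvd_mul_left n a)) (IsLocalization.Away.algebraMap_isUnit (a * n)) :
        IsUnit (algebraMap R T₂ n))
    rw [← map_mul, hn, hg₀]
  exact hgood.map C
    { IsLocalization.Away.lift (g := g₀) t hut with
      commutes' := fun x => by
        show IsLocalization.Away.lift (g := g₀) t hut (algebraMap R T₁ x) = _
        rw [IsScalarTower.algebraMap_apply R (Localization.Away a) T₁, IsLocalization.Away.lift_eq, hg₀] }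

end

variable {A : Type u} [CommRing A] [IsLocalRing A] [IsNoetherianRing A] {σ : Type} [Fintype σ]

/-- Clopens of covers of a neighbourhood of the punctured zero section are determined on the zero section. -/
theorem clopenBij_zeroSection (hA : (2 : ℕ∞) ≤ LocCoh.depth A A)
    (V : (Spec (CommRingCat.of (MvPowerSeries σ A))).Opens)
    (hV : ∀ p : PrimeSpectrum A, p.asIdeal ≠ IsLocalRing.maximalIdeal A →
      PrimeSpectrum.comap (MvPowerSeries.constantCoeff : MvPowerSeries σ A →+* A) p ∈ V)
    (W : FEt.Cat (V : Scheme.{u})) :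
    HensPair.ClopenBij (pullback.fst W.hom (pullback.fst V.ι (Spec.map (CommRingCat.ofHom
      (MvPowerSeries.constantCoeff : MvPowerSeries σ A →+* A))))).base := by
  classical
  set B := MvPowerSeries σ A
  haveI : IsNoetherianRing B := inferInstance
  have hcpt : IsCompact (V.1 : Set (PrimeSpectrum B)) :=
    TopologicalSpace.NoetherianSpace.isCompact _
  haveI : CompactSpace ↥(V : Scheme.{u}) := isCompact_iff_compactSpace.1 hcpt
  haveI : IsFinite W.hom := W.prop.1
  haveI : Etale W.hom := W.prop.2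
  obtain ⟨C, _, _, j, _, hj, hdata⟩ := exists_clopen_data W.hom
  let G : Type u := {b : B // (∀ q : PrimeSpectrum B, b ∉ q.asIdeal → q ∈ V) ∧ Good B C (Localization.Away b)}
  have hcover : (V.1 : Set (PrimeSpectrum B)) ⊆ ⋃ b : G, (PrimeSpectrum.basicOpen b.1 : Set (PrimeSpectrum B)) := by
    intro p hp
    obtain ⟨_, ⟨a, rfl⟩, hpa, haV⟩ :=
      PrimeSpectrum.isTopologicalBasis_basic_opens.exists_subset_of_mem_open hp V.isOpen
    obtain ⟨-, hf, he⟩ := hdata a fun q hq => haV hq
    obtain ⟨b, hpb, hab, hgood⟩ := exists_good_refinement a hf he p hpa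
    refine Set.mem_iUnion.2 ⟨⟨b, ?_, hgood⟩, hpb⟩
    intro q hq
    refine haV (fun h => hq ?_)
    obtain ⟨c, rfl⟩ := hab
    exact Ideal.mul_mem_right _ _ h
  obtain ⟨s, hs⟩ := hcpt.elim_finite_subcover _ (fun b : G => (PrimeSpectrum.basicOpen b.1).isOpen) hcover
  let a : {b : G // b ∈ s} → B := fun b => b.1.1
  have hmemV : ∀ (q : PrimeSpectrum B), q ∈ V ↔ ∃ i, a i ∉ q.asIdeal := by
    intro q
    constructor
    · intro hq
      obtain ⟨b, hb, hqb⟩ := Set.mem_iUnion₂.1 (hs hq)
      exact ⟨⟨b, hb⟩, hqb⟩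
    · rintro ⟨i, hi⟩
      exact i.1.2.1 q hi
  have hcov : ∀ p : Ideal A, p.IsPrime → p ≠ IsLocalRing.maximalIdeal A →
      ∃ i, MvPowerSeries.constantCoeff (a i) ∉ p := fun p hp hpm =>
    (hmemV _).1 (hV ⟨p, hp⟩ hpm)
  have hrj : Set.range j = coverSet a := by
    ext y
    constructor
    · rintro ⟨x, rfl⟩
      have h : Spec.map (CommRingCat.ofHom (algebraMap B C)) (j x) ∈ V := by
        rw [← Scheme.Hom.comp_apply, hj, Scheme.Hom.comp_apply]
        exact (W.hom x).2
      exact (hmemV _).1 h
    · rintro ⟨i, hi⟩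
      exact (hdata _ i.1.2.1).1 y hi
  let e : ↥W.left ≃ₜ ↥(coverSet (C := C) a) :=
    j.isOpenEmbedding.isEmbedding.toHomeomorph.trans (Homeomorph.setCongr hrj)
  have he : ∀ x, (e x).1 = j x := fun x => rfl
  have hbij := clopenBij_coverSet a hA hcov fun i => i.1.2.2
  let g₀ := Spec.map (CommRingCat.ofHom (MvPowerSeries.constantCoeff : B →+* A))
  haveI : IsClosedImmersion g₀ := IsClosedImmersion.spec_of_surjective _ fun x =>
    ⟨MvPowerSeries.C x, MvPowerSeries.constantCoeff_C x⟩
  haveI : IsClosedImmersion (pullback.fst V.ι g₀) := MorphismProperty.pullback_fst _ _ inferInstance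
  haveI : IsClosedImmersion (pullback.fst W.hom (pullback.fst V.ι g₀)) :=
    MorphismProperty.pullback_fst _ _ inferInstance
  refine (HensPair.ClopenBij.comp_homeomorph e).1 (HensPair.ClopenBij.of_range_eq IsEmbedding.subtypeVal
    (e.isEmbedding.comp (pullback.fst W.hom _).isClosedEmbedding.isEmbedding) ?_ hbij)
  rw [Set.range_comp, Scheme.Pullback.range_fst, Scheme.Pullback.range_fst, Subtype.range_coe]
  ext y
  obtain ⟨x, rfl⟩ := e.surjective y
  have hker : Set.range g₀ = PrimeSpectrum.zeroLocus (SGA7.PS.varIdeal σ A : Set B) := by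
    refine (range_comap_of_surjective _ _ fun x => ⟨MvPowerSeries.C x, MvPowerSeries.constantCoeff_C x⟩).trans ?_
    congr 1
    ext f
    exact (SGA7.PS.mem_varIdeal_iff f).symm
  show SGA7.PS.varIdeal σ A ≤ Ideal.comap (algebraMap B C) (e x).1.asIdeal ↔ _
  rw [he, e.injective.mem_set_image, Set.mem_preimage, Set.mem_preimage, hker,
    ← Scheme.Hom.comp_apply, ← hj, Scheme.Hom.comp_apply]
  exact Iff.rfl

theorem restrict_fullyFaithful (hA : (2 : ℕ∞) ≤ LocCoh.depth A A)
    (V : (Spec (CommRingCat.of (MvPowerSeries σ A))).Opens)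
    (hV : ∀ p : PrimeSpectrum A, p.asIdeal ≠ IsLocalRing.maximalIdeal A →
      PrimeSpectrum.comap (MvPowerSeries.constantCoeff : MvPowerSeries σ A →+* A) p ∈ V) :
    (FEt.restrict (pullback.fst V.ι (Spec.map (CommRingCat.ofHom
      (MvPowerSeries.constantCoeff : MvPowerSeries σ A →+* A))))).Full ∧
    (FEt.restrict (pullback.fst V.ι (Spec.map (CommRingCat.ofHom
      (MvPowerSeries.constantCoeff : MvPowerSeries σ A →+* A))))).Faithful :=
  Pi1PBC.fullyFaithful_of_clopenBij _ fun W => clopenBij_zeroSection hA V hV W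

end Groth.Pi1Formal
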