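import Groth.Agent.Pi1Formal.Core
import Groth.Agent.Calg6.PowerSeries
import Groth.Agent.Purity.RegPair
import Groth.Agent.PicAux.Hartogs
import Mathlib

/-!
# Formal completions along the zero section of a punctured power series spectrum
-/

universe u

set_option autoImplicit false
set_option linter.style.haveILetI false

open MvPowerSeries IsLocalRing

namespace Groth.Pi1Formal

variable {A : Type u} [CommRing A] [IsLocalRing A] {ι : Type u} [Finite ι]

/-- An element of depth one is zero if killed by a family generating the maximal ideal up to radical. -/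
theorem eq_zero_of_killed {x : A} (hx : x ∈ maximalIdeal A) (hreg : ∀ b : A, x * b = 0 → b = 0)
    {e : ι → A} (he : ∀ p : Ideal A, p.IsPrime → p ≠ maximalIdeal A → ∃ i, e i ∉ p) {c : A}
    (hc : ∀ i, e i * c = 0) : c = 0 := by
  let J : Ideal A := (Submodule.span A {c}).annihilator
  have hJ : ∀ i, e i ∈ J := fun i => (Submodule.mem_annihilator_span_singleton _ _).2 (hc i)
  have hrad : x ∈ J.radical := by
    rw [Ideal.radical_eq_sInf, Submodule.mem_sInf]
    rintro p ⟨hJp, hp⟩
    by_cases h : p = maximalIdeal A
    · exact h ▸ hx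
    · obtain ⟨i, hi⟩ := he p hp h
      exact absurd (hJp (hJ i)) hi
  obtain ⟨n, hn⟩ := hrad
  have h0 : x ^ n * c = 0 := (Submodule.mem_annihilator_span_singleton _ _).1 hn
  clear hn
  induction n with
  | zero => simpa using h0
  | succ n ih => exact ih (hreg _ (by rw [← mul_assoc, ← pow_succ', h0]))

theorem exists_regPair [IsNoetherianRing A] (hA : (2 : ℕ∞) ≤ LocCoh.depth A A) :
    ∃ g h : A, g ∈ maximalIdeal A ∧ h ∈ maximalIdeal A ∧ Purity.RegPair A g h := by
  obtain ⟨g, h, hg, hh, hw⟩ := PicAux.exists_regular_pair hA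
  rw [RingTheory.Sequence.isWeaklyRegular_cons_iff, RingTheory.Sequence.isWeaklyRegular_cons_iff] at hw
  obtain ⟨h1, h2, -⟩ := hw
  refine ⟨g, h, hg, hh, fun m hm => h1 (by simpa using hm), fun a b hab => ?_⟩
  have ha : (Submodule.Quotient.mk a : QuotSMulTop g A) = 0 := by
    apply h2
    show h • (Submodule.Quotient.mk a : QuotSMulTop g A) = h • 0
    rw [smul_zero, ← Submodule.Quotient.mk_smul, Submodule.Quotient.mk_eq_zero,
      Submodule.mem_smul_pointwise_iff_exists]
    exact ⟨b, trivial, hab.symm⟩
  rw [Submodule.Quotient.mk_eq_zero, Submodule.mem_smul_pointwise_iff_exists] at ha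
  obtain ⟨c, -, hc⟩ := ha
  exact ⟨c, hc.symm⟩

/-- Compatible fractions on a cover of the punctured spectrum come from the ring. -/
theorem exists_of_compat [IsNoetherianRing A] (hA : (2 : ℕ∞) ≤ LocCoh.depth A A) (e n : ι → A)
    (he : ∀ p : Ideal A, p.IsPrime → p ≠ maximalIdeal A → ∃ i, e i ∉ p)
    (hn : ∀ i j, e j * n i = e i * n j) : ∃ a : A, ∀ i, n i = e i * a := by
  classical
  haveI := Fintype.ofFinite ι
  obtain ⟨g, h, hg, hh, H⟩ := exists_regPair hA
  have hmem : ∀ x ∈ maximalIdeal A, ∃ (p : ℕ) (r : ι → A), x ^ p = ∑ i, r i * e i := by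
    intro x hx
    have hrad : x ∈ (Ideal.span (Set.range e)).radical := by
      rw [Ideal.radical_eq_sInf, Submodule.mem_sInf]
      rintro q ⟨hq, hqp⟩
      by_cases hqm : q = maximalIdeal A
      · exact hqm ▸ hx
      · obtain ⟨i, hi⟩ := he q hqp hqm
        exact absurd (hq (Ideal.subset_span ⟨i, rfl⟩)) hi
    obtain ⟨p, hp⟩ := hrad
    obtain ⟨r, hr⟩ := (Submodule.mem_span_range_iff_exists_fun A).1 hp
    exact ⟨p, r, by rw [← hr]; rfl⟩
  obtain ⟨p, r, hr⟩ := hmem g hg
  obtain ⟨q, s, hs⟩ := hmem h hh
  let u := ∑ i, r i * n i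
  let w := ∑ i, s i * n i
  have hu : ∀ j, e j * u = g ^ p * n j := fun j => by
    rw [hr, Finset.mul_sum, Finset.sum_mul]
    exact Finset.sum_congr rfl fun i _ => by linear_combination r i * hn i j
  have hw : ∀ j, e j * w = h ^ q * n j := fun j => by
    rw [hs, Finset.mul_sum, Finset.sum_mul]
    exact Finset.sum_congr rfl fun i _ => by linear_combination s i * hn i j
  have hgreg : ∀ b : A, g * b = 0 → b = 0 := fun b hb => H.reg b hb
  have huw : h ^ q * u = g ^ p * w := sub_eq_zero.1 (eq_zero_of_killed hg hgreg he fun j => by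
    linear_combination h ^ q * hu j - g ^ p * hw j)
  obtain ⟨c, hc⟩ := H.pow p q u w (by simpa [smul_eq_mul] using huw)
  refine ⟨c, fun j => H.cancel (k := p) ?_⟩
  simp only [smul_eq_mul] at hc ⊢
  linear_combination e j * hc - hu j

variable {σ : Type} [Fintype σ]

/-- The localisation of the power series ring. -/
abbrev Tu (u : MvPowerSeries σ A) : Type u := Localization.Away u

/-- The completion of the localisation along the zero section. -/
abbrev Hu (u : MvPowerSeries σ A) : Type u := MvPowerSeries σ (Localization.Away (constantCoeff u))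

theorem algebraMap_hu (u x : MvPowerSeries σ A) :
    algebraMap (MvPowerSeries σ A) (Hu u) x =
      MvPowerSeries.map (algebraMap A (Localization.Away (constantCoeff u))) x := rfl

theorem isUnit_hu {u v : MvPowerSeries σ A} (h : constantCoeff v ∣ constantCoeff u) :
    IsUnit (algebraMap (MvPowerSeries σ A) (Hu u) v) := by
  rw [isUnit_iff_constantCoeff, algebraMap_hu, constantCoeff_map]
  exact isUnit_of_dvd_unit (map_dvd _ h) (IsLocalization.Away.algebraMap_isUnit _)

/-- The map to a completion. -/
noncomputable def psiHom (u : MvPowerSeries σ A) : Tu u →ₐ[MvPowerSeries σ A] Hu u :=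
  { IsLocalization.Away.lift (g := algebraMap (MvPowerSeries σ A) (Hu u)) u (isUnit_hu dvd_rfl) with
    commutes' := fun x => IsLocalization.Away.lift_eq u _ x }

/-- Restriction of localisations. -/
noncomputable def resHom {u v : MvPowerSeries σ A} (h : v ∣ u) : Tu v →ₐ[MvPowerSeries σ A] Tu u :=
  { IsLocalization.Away.lift (g := algebraMap (MvPowerSeries σ A) (Tu u)) v
      (isUnit_of_dvd_unit (map_dvd _ h) (IsLocalization.Away.algebraMap_isUnit u)) with
    commutes' := fun x => IsLocalization.Away.lift_eq v _ x }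

/-- Restriction of completions. -/
noncomputable def resHat {u v : MvPowerSeries σ A} (h : v ∣ u) : Hu v →ₐ[MvPowerSeries σ A] Hu u :=
  { MvPowerSeries.map (IsLocalization.Away.lift (g := algebraMap A (Localization.Away (constantCoeff u)))
      (constantCoeff v) (isUnit_of_dvd_unit (map_dvd _ (map_dvd constantCoeff h))
        (IsLocalization.Away.algebraMap_isUnit _))) with
    commutes' := fun x => by
      ext n
      simp [algebraMap_hu, MvPowerSeries.coeff_map] }

theorem algHom_ext_tu {u : MvPowerSeries σ A} {P : Type u} [CommRing P] [Algebra (MvPowerSeries σ A) P]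
    (f g : Tu u →ₐ[MvPowerSeries σ A] P) : f = g :=
  IsLocalization.algHom_ext (Submonoid.powers u) (Subsingleton.elim _ _)

variable (a : ι → MvPowerSeries σ A)
  (hcov : ∀ p : Ideal A, p.IsPrime → p ≠ maximalIdeal A → ∃ i, constantCoeff (a i) ∉ p)

theorem exists_pow_mul_eq_zero [IsNoetherianRing A] (c : A) {n : MvPowerSeries σ A}
    (h : ∀ k, ∃ m : ℕ, c ^ m * coeff k n = 0) : ∃ K : ℕ, C (c ^ K) * n = 0 := by
  classical
  obtain ⟨s, hs, hspan⟩ :=
    Submodule.fg_span_iff_fg_span_finset_subset _ |>.1 (IsNoetherian.noetherian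
      (Submodule.span A (Set.range fun k => coeff k n)))
  choose m hm using h
  choose k hk using fun x : s => hs x.2
  refine ⟨Finset.univ.sup fun x => m (k x), ?_⟩
  ext l
  rw [coeff_C_mul, map_zero]
  have hl : coeff l n ∈ Submodule.span A (s : Set A) := by
    rw [← hspan]
    exact Submodule.subset_span ⟨l, rfl⟩
  have hle : Submodule.span A (s : Set A) ≤ LinearMap.ker (LinearMap.mulLeft A
      (c ^ Finset.univ.sup fun x => m (k x))) := by
    rw [Submodule.span_le]
    intro x hx
    obtain ⟨t, ht⟩ := Nat.exists_eq_add_of_le (Finset.le_sup (f := fun x => m (k x))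
      (Finset.mem_univ (⟨x, hx⟩ : s)))
    have h2 := hm (k ⟨x, hx⟩)
    rw [show coeff (k ⟨x, hx⟩) n = x from hk ⟨x, hx⟩] at h2
    rw [SetLike.mem_coe, LinearMap.mem_ker, LinearMap.mulLeft_apply, ht, pow_add, mul_right_comm,
      show c ^ m (k ⟨x, hx⟩) * x = 0 from h2, zero_mul]
  exact hle hl

include hcov in
/-- Compatible families on the punctured neighbourhood of the zero section are detected formally. -/
theorem detects [IsNoetherianRing A] (hA : (2 : ℕ∞) ≤ LocCoh.depth A A) :
    Detects (B := MvPowerSeries σ A) (fun i => Tu (a i)) (fun i j => Tu (a i * a j)) (fun i => Hu (a i))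
      (fun i j => resHom (dvd_mul_right (a i) (a j))) (fun i j => resHom (dvd_mul_left (a j) (a i)))
      (fun i => psiHom (a i)) := by
  classical
  haveI := Fintype.ofFinite ι
  intro d hd h0 i
  choose N n hn using fun k => IsLocalization.Away.surj (a k) (d k)
  -- `hn k : d k * algebraMap (a k) ^ N k = algebraMap (n k)`
  have hK : ∀ k, ∃ K : ℕ, C (constantCoeff (a k) ^ K) * n k = 0 := fun k =>
    exists_pow_mul_eq_zero _ fun l => by
      have h1 := congrArg (psiHom (a k)) (hn k)
      rw [map_mul, h0 k, zero_mul, AlgHom.commutes, algebraMap_hu] at h1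
      have h2 := congrArg (coeff l) h1.symm
      rw [coeff_map, map_zero, IsLocalization.map_eq_zero_iff (Submonoid.powers (constantCoeff (a k)))] at h2
      obtain ⟨⟨_, m, rfl⟩, hm⟩ := h2
      exact ⟨m, hm⟩
  choose K hK using hK
  have hM : ∀ j, ∃ M : ℕ, (a i * a j) ^ M * (n i * a j ^ N j - n j * a i ^ N i) = 0 := fun j => by
    have h1 := congrArg (resHom (dvd_mul_right (a i) (a j))) (hn i)
    have h2 := congrArg (resHom (dvd_mul_left (a j) (a i))) (hn j)
    simp only [map_mul, map_pow, AlgHom.commutes] at h1 h2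
    have h3 : algebraMap (MvPowerSeries σ A) (Tu (a i * a j)) (n i * a j ^ N j - n j * a i ^ N i) = 0 := by
      rw [map_sub, map_mul, map_mul, map_pow, map_pow, ← h1, ← h2, hd i j]
      ring
    obtain ⟨⟨_, M, rfl⟩, hM⟩ := (IsLocalization.map_eq_zero_iff (Submonoid.powers (a i * a j)) _ _).1 h3
    exact ⟨M, hM⟩
  choose M hM using hM
  obtain ⟨g, g', hg, -, H⟩ := exists_regPair hA
  let L := Finset.univ.sup M
  let x := a i ^ L * n i
  let e : ι → MvPowerSeries σ A := fun j => a j ^ (M j + N j) * C (constantCoeff (a j) ^ K j)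
  have hex : ∀ j, e j * x = 0 := fun j => by
    obtain ⟨t, ht⟩ := Nat.exists_eq_add_of_le (Finset.le_sup (f := M) (Finset.mem_univ j))
    show a j ^ (M j + N j) * C (constantCoeff (a j) ^ K j) * (a i ^ L * n i) = 0
    rw [show L = M j + t from ht]
    linear_combination (C (constantCoeff (a j) ^ K j) * a i ^ t) * hM j +
      ((a i * a j) ^ M j * a i ^ N i * a i ^ t) * hK j
  have hx : x = 0 := by
    by_contra hne
    have hex' : ∃ l, coeff l x ≠ 0 := by
      by_contra hall
      push Not at hall
      exact hne (MvPowerSeries.ext fun l => by rw [hall l, map_zero])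
    obtain ⟨l, hl, hmin⟩ := (InvImage.wf (fun l : σ →₀ ℕ => l.degree) wellFounded_lt).has_min
      {l | coeff l x ≠ 0} hex'
    refine hl (eq_zero_of_killed hg (fun b hb => H.reg b hb) (e := fun j => constantCoeff (e j)) ?_ fun j => ?_)
    · intro p hp hpm
      obtain ⟨j, hj⟩ := hcov p hp hpm
      refine ⟨j, fun h => ?_⟩
      simp only [e, map_mul, map_pow, constantCoeff_C] at h
      rw [← pow_add] at h
      exact hj (hp.mem_of_pow_mem _ h)
    · have h := congrArg (coeff l) (hex j)
      rw [map_zero, coeff_mul, Finset.sum_eq_single ((0 : σ →₀ ℕ), l)] at h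
      · rwa [coeff_zero_eq_constantCoeff_apply] at h
      · rintro ⟨p, q⟩ hpq hne'
        rw [Finset.HasAntidiagonal.mem_antidiagonal] at hpq
        by_cases hp0 : p = 0
        · subst hp0
          exact absurd (Prod.ext rfl ((zero_add q).symm.trans hpq) : ((0 : σ →₀ ℕ), q) = (0, l)) hne'
        · have hq : ¬ coeff q x ≠ 0 := fun hq => hmin q hq (by
            show q.degree < l.degree
            have hpd : p.degree ≠ 0 := fun h0' => hp0 ((Finsupp.degree_eq_zero_iff p).1 h0')
            rw [← hpq, map_add]
            show q.degree < p.degree + q.degree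
            omega)
          rw [not_not.1 hq, mul_zero]
      · intro hnot
        exact absurd (Finset.HasAntidiagonal.mem_antidiagonal.2 (zero_add l)) hnot
  have hu : IsUnit (algebraMap (MvPowerSeries σ A) (Tu (a i)) (a i)) := IsLocalization.Away.algebraMap_isUnit _
  refine (hu.pow (L + N i)).mul_left_eq_zero.1 ?_
  rw [pow_add, mul_comm _ (algebraMap _ _ (a i) ^ N i), ← mul_assoc, hn i, ← map_pow, ← map_mul,
    mul_comm, show a i ^ L * n i = 0 from hx, map_zero]

include hcov in
/-- Compatible families of completions come from power series over the base. -/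
theorem algebraizes [IsNoetherianRing A] (hA : (2 : ℕ∞) ≤ LocCoh.depth A A) :
    Algebraizes (B := MvPowerSeries σ A) (fun i => Hu (a i)) (fun i j => Hu (a i * a j))
      (fun i j => resHat (dvd_mul_right (a i) (a j))) (fun i j => resHat (dvd_mul_left (a j) (a i))) := by
  classical
  haveI := Fintype.ofFinite ι
  intro β hβ
  have key : ∀ l : σ →₀ ℕ, ∃ x : A, ∀ i,
      algebraMap A (Localization.Away (constantCoeff (a i))) x = coeff l (β i) := by
    intro l
    choose N n hn using fun i => IsLocalization.Away.surj (constantCoeff (a i)) (coeff l (β i))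
    have hM : ∀ q : ι × ι, ∃ M : ℕ, (constantCoeff (a q.1 * a q.2)) ^ M *
        (n q.1 * constantCoeff (a q.2) ^ N q.2 - n q.2 * constantCoeff (a q.1) ^ N q.1) = 0 := by
      rintro ⟨i, j⟩
      have hd : constantCoeff (a i) ∣ constantCoeff (a i * a j) := map_dvd _ (dvd_mul_right _ _)
      have hd' : constantCoeff (a j) ∣ constantCoeff (a i * a j) := map_dvd _ (dvd_mul_left _ _)
      let f₁ := IsLocalization.Away.lift (g := algebraMap A (Localization.Away (constantCoeff (a i * a j))))
        (constantCoeff (a i)) (isUnit_of_dvd_unit (map_dvd _ hd) (IsLocalization.Away.algebraMap_isUnit _))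
        (S := Localization.Away (constantCoeff (a i)))
      let f₂ := IsLocalization.Away.lift (g := algebraMap A (Localization.Away (constantCoeff (a i * a j))))
        (constantCoeff (a j)) (isUnit_of_dvd_unit (map_dvd _ hd') (IsLocalization.Away.algebraMap_isUnit _))
        (S := Localization.Away (constantCoeff (a j)))
      have h1 := congrArg f₁ (hn i)
      have h2 := congrArg f₂ (hn j)
      rw [f₁.map_mul, f₁.map_pow] at h1
      rw [f₂.map_mul, f₂.map_pow] at h2
      simp only [f₁, f₂, IsLocalization.Away.lift_eq] at h1 h2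
      have hc : f₁ (coeff l (β i)) = f₂ (coeff l (β j)) := by
        have h := congrArg (coeff l) (hβ i j)
        exact (coeff_map _ l (β i)).symm.trans (h.trans (coeff_map _ l (β j)))
      have h3 : algebraMap A (Localization.Away (constantCoeff (a i * a j)))
          (n i * constantCoeff (a j) ^ N j - n j * constantCoeff (a i) ^ N i) = 0 := by
        let φ : A →+* Localization.Away (constantCoeff (a i * a j)) := algebraMap A _
        change φ _ = 0
        rw [φ.map_sub, φ.map_mul, φ.map_mul, φ.map_pow, φ.map_pow]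
        simp only [φ]
        rw [← h1, ← h2, hc]
        ring
      obtain ⟨⟨_, M, rfl⟩, hM⟩ :=
        (IsLocalization.map_eq_zero_iff (Submonoid.powers (constantCoeff (a i * a j))) _ _).1 h3
      exact ⟨M, hM⟩
    choose M hM using hM
    let L := Finset.univ.sup M
    obtain ⟨x, hx⟩ := exists_of_compat hA (fun i => constantCoeff (a i) ^ (L + N i))
      (fun i => constantCoeff (a i) ^ L * n i)
      (fun p hp hpm => by
        obtain ⟨i, hi⟩ := hcov p hp hpm
        exact ⟨i, fun h => hi (hp.mem_of_pow_mem _ h)⟩)
      (fun i j => by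
        obtain ⟨t, ht⟩ := Nat.exists_eq_add_of_le (Finset.le_sup (f := M) (Finset.mem_univ (i, j)))
        have h := hM (i, j)
        simp only [map_mul] at h
        simp only [show L = M (i, j) + t from ht]
        linear_combination (constantCoeff (a i) * constantCoeff (a j)) ^ t * h)
    refine ⟨x, fun i => ?_⟩
    have hu : IsUnit (algebraMap A (Localization.Away (constantCoeff (a i))) (constantCoeff (a i))) :=
      IsLocalization.Away.algebraMap_isUnit _
    apply (hu.pow (L + N i)).mul_left_inj.1
    have h := congrArg (algebraMap A (Localization.Away (constantCoeff (a i)))) (hx i)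
    simp only [map_mul, map_pow] at h
    linear_combination -h - algebraMap A _ (constantCoeff (a i)) ^ L * hn i
  choose b hb using key
  refine ⟨(fun l => b l : MvPowerSeries σ A), fun i => MvPowerSeries.ext fun l => ?_⟩
  exact (coeff_map _ l _).trans (hb l i)

end Groth.Pi1Formal
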