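import Groth.Agent.Pi1Formal.FullyFaithful
import Groth.Agent.Pi1Depth.Basic
import Groth.Agent.Pi1Purity.DescendPure
import Groth.Agent.Ega4Algebra1.PowerSeriesFlat
import Mathlib

/-!
# Purity for power series rings over a local ring of depth at least two
-/

universe u

set_option autoImplicit false
set_option backward.isDefEq.respectTransparency false
set_option linter.style.haveILetI false

open CategoryTheory Limits AlgebraicGeometry IsLocalRing

namespace Groth.Pi1Formal

open Pi1FEt

theorem flat_mvPowerSeries_base (σ : Type) [Fintype σ] (A : Type u) [CommRing A] [IsNoetherianRing A] :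
    Module.Flat A (MvPowerSeries σ A) := by
  haveI := AdicCompletion.flat_of_isNoetherian (MvPolynomial.idealOfVars σ A)
  haveI : Module.Flat (MvPolynomial σ A) (MvPowerSeries σ A) :=
    Module.Flat.of_linearEquiv (MvPowerSeries.toAdicCompletionAlgEquiv σ A).toLinearEquiv
  exact Module.Flat.trans A (MvPolynomial σ A) (MvPowerSeries σ A)

variable {A : Type u} [CommRing A] [IsLocalRing A] [IsNoetherianRing A] {σ : Type} [Fintype σ]

/-- The maximal ideal of `A` generates a prime of `A[[x]]` which is not maximal. -/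
theorem exists_generic_prime [Nonempty σ] :
    ∃ Q : PrimeSpectrum (MvPowerSeries σ A),
      Q.asIdeal.comap (algebraMap A (MvPowerSeries σ A)) = maximalIdeal A ∧
      Q ≠ closedPoint (MvPowerSeries σ A) := by
  haveI : IsDomain (MvPowerSeries σ (ResidueField A)) := NoZeroDivisors.to_isDomain _
  let φ : MvPowerSeries σ A →+* MvPowerSeries σ (ResidueField A) := MvPowerSeries.map (residue A)
  refine ⟨⟨RingHom.ker φ, RingHom.ker_isPrime φ⟩, ?_, fun h => ?_⟩
  · ext a
    show φ (MvPowerSeries.C a) = 0 ↔ _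
    rw [MvPowerSeries.map_C, map_eq_zero_iff _ MvPowerSeries.C_injective, IsLocalRing.residue_eq_zero_iff]
  · obtain ⟨s⟩ := ‹Nonempty σ›
    have hX : (MvPowerSeries.X s : MvPowerSeries σ A) ∈ RingHom.ker φ := by
      rw [show RingHom.ker φ = maximalIdeal (MvPowerSeries σ A) from congrArg PrimeSpectrum.asIdeal h]
      intro hu
      rw [MvPowerSeries.isUnit_iff_constantCoeff, MvPowerSeries.constantCoeff_X] at hu
      exact not_isUnit_zero hu
    have h0 : (MvPowerSeries.X s : MvPowerSeries σ (ResidueField A)) = 0 :=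
      (MvPowerSeries.map_X _ s).symm.trans hX
    have h1 := congrArg (MvPowerSeries.coeff (Finsupp.single s 1)) h0
    rw [MvPowerSeries.coeff_index_single_self_X, map_zero] at h1
    exact one_ne_zero h1


theorem exists_pair_localization (hA : (2 : ℕ∞) ≤ LocCoh.depth A A) {B : Type u} [CommRing B] [Algebra A B]
    [Module.Flat A B] (q : Ideal B) [q.IsPrime] (hq : q.comap (algebraMap A B) = maximalIdeal A) :
    ∃ a b : Localization.AtPrime q, a ∈ maximalIdeal (Localization.AtPrime q) ∧
      b ∈ maximalIdeal (Localization.AtPrime q) ∧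
      RingTheory.Sequence.IsWeaklyRegular (Localization.AtPrime q) [a, b] := by
  obtain ⟨a, b, ha, hb, hw⟩ := PicAux.exists_regular_pair hA
  haveI : Module.Flat A (Localization.AtPrime q) := Module.Flat.trans A B _
  have hm : ∀ x ∈ maximalIdeal A, algebraMap A (Localization.AtPrime q) x ∈
      maximalIdeal (Localization.AtPrime q) := fun x hx => by
    rw [IsScalarTower.algebraMap_apply A B, IsLocalization.AtPrime.to_map_mem_maximal_iff _ q]
    exact Ideal.mem_comap.1 (hq.symm ▸ hx)
  refine ⟨algebraMap A _ a, algebraMap A _ b, hm a ha, hm b hb, ?_⟩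
  exact hw.of_flat (S := Localization.AtPrime q)

/-- Sections on `U` extend uniquely across points of the closed fibre. -/
theorem bijective_incl (hA : (2 : ℕ∞) ≤ LocCoh.depth A A) {B : Type u} [CommRing B] [IsNoetherianRing B]
    [Algebra A B] [Module.Flat A B] (V U : (Spec (CommRingCat.of B)).Opens) (hVU : V ≤ U)
    (h : ∀ q : PrimeSpectrum B, q ∉ V → q.asIdeal.comap (algebraMap A B) = maximalIdeal A) :
    ∀ O, Function.Bijective (((Spec (CommRingCat.of B)).homOfLE hVU).app O) := by
  let X := Spec (CommRingCat.of B)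
  let incl := X.homOfLE hVU
  haveI : IsLocallyNoetherian (U : Scheme.{u}) := inferInstance
  let V' := incl.opensRange
  have key : ∀ O, Function.Bijective (V'.ι.app O) := by
    refine Pi1Depth.bijective_app_of_affine V'.ι fun O hO =>
      Misc7.DepthTwo.bijective_app (fun z hz => ?_) hO
    have hz' : U.ι z ∉ V := fun hv => hz ⟨⟨U.ι z, hv⟩, U.ι.isOpenEmbedding.injective (by
      rw [← Scheme.Hom.comp_apply, Scheme.homOfLE_ι]
      rfl)⟩
    exact Pi1Depth.exists_pair_of_ringEquiv (B := (U : Scheme.{u}).presheaf.stalk z)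
      (U.stalkIso z).commRingCatIsoToRingEquiv.symm
      (Pi1Depth.exists_pair_of_ringEquiv (B := X.presheaf.stalk (U.ι z))
        (IsLocalization.algEquiv (U.ι z : PrimeSpectrum B).asIdeal.primeCompl
          (Localization.AtPrime (U.ι z : PrimeSpectrum B).asIdeal)
          ((Spec.structureSheaf B).presheaf.stalk (U.ι z))).toRingEquiv
        (exists_pair_localization hA (U.ι z : PrimeSpectrum B).asIdeal (h _ hz')))
  intro O
  have hfac : incl.isoOpensRange.hom ≫ V'.ι = incl := incl.isoOpensRange_hom_ι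
  show Function.Bijective (incl.app O)
  rw [← hfac, Scheme.Hom.comp_app]
  exact (ConcreteCategory.bijective_of_isIso (incl.isoOpensRange.hom.app _)).comp (key O)

/-- Finite etale covers of an open of `Spec A[[x]]` which contains the preimage of the punctured spectrum
of `A` and a point of the closed fibre other than the closed point extend. -/
theorem restrict_essSurj (hA : (2 : ℕ∞) ≤ LocCoh.depth A A)
    (U : (Spec (CommRingCat.of (MvPowerSeries σ A))).Opens)
    (hU : ∀ q : PrimeSpectrum (MvPowerSeries σ A),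
      q.asIdeal.comap (algebraMap A (MvPowerSeries σ A)) ≠ maximalIdeal A → q ∈ U)
    (Q : PrimeSpectrum (MvPowerSeries σ A))
    (hQ : Q.asIdeal.comap (algebraMap A (MvPowerSeries σ A)) = maximalIdeal A) (hQU : Q ∈ U) :
    (FEt.restrict U.ι).EssSurj := by
  haveI hflatB := flat_mvPowerSeries_base σ A
  refine ⟨fun W => ?_⟩
  let B := MvPowerSeries σ A
  let p : Spec (CommRingCat.of B) ⟶ Spec (CommRingCat.of A) := Spec.map (CommRingCat.ofHom (algebraMap A B))
  let g₀ := Spec.map (CommRingCat.ofHom (MvPowerSeries.constantCoeff : B →+* A))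
  have hcc : (MvPowerSeries.constantCoeff : B →+* A).comp (algebraMap A B) = RingHom.id A :=
    RingHom.ext fun x => by simp [B, MvPowerSeries.algebraMap_apply]
  have hgp : g₀ ≫ p = 𝟙 _ := by
    rw [← Spec.map_comp, ← CommRingCat.ofHom_comp, hcc]
    exact Spec.map_id _
  let U₀ := FEt.puncturedSpec A
  let V := p ⁻¹ᵁ U₀
  have hmemV : ∀ q : PrimeSpectrum B, q ∈ V ↔ q.asIdeal.comap (algebraMap A B) ≠ maximalIdeal A :=
    fun q => not_congr ⟨fun h => congrArg PrimeSpectrum.asIdeal h, fun h => PrimeSpectrum.ext h⟩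
  have hVU : V ≤ U := fun q hq => hU q ((hmemV q).1 hq)
  -- the retraction and the section
  let prV : (V : Scheme.{u}) ⟶ (U₀ : Scheme.{u}) := p ∣_ U₀
  have hprV : prV ≫ U₀.ι = V.ι ≫ p := morphismRestrict_ι _ _
  have hsV : ∀ x : (U₀ : Scheme.{u}), (U₀.ι ≫ g₀) x ∈ V := fun x => by
    show p (g₀ (U₀.ι x)) ∈ U₀
    rw [← Scheme.Hom.comp_apply g₀ p, hgp]
    exact x.2
  let sV : (U₀ : Scheme.{u}) ⟶ (V : Scheme.{u}) :=
    IsOpenImmersion.lift V.ι (U₀.ι ≫ g₀) (by
      rw [Scheme.Opens.range_ι]
      rintro _ ⟨x, rfl⟩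
      exact hsV x)
  have hsVι : sV ≫ V.ι = U₀.ι ≫ g₀ := IsOpenImmersion.lift_fac _ _ _
  let incl := (Spec (CommRingCat.of B)).homOfLE hVU
  have hincl : incl ≫ U.ι = V.ι := Scheme.homOfLE_ι _ _
  let WV := (FEt.restrict incl).obj W
  let W₀ := (FEt.restrict sV).obj WV
  -- the zero section of `V`
  let q₀ := pullback.fst V.ι g₀
  have hπ : pullback.snd V.ι g₀ = (q₀ ≫ prV) ≫ U₀.ι := by
    rw [Category.assoc, hprV, ← Category.assoc, pullback.condition, Category.assoc, hgp, Category.comp_id]
  have hq₀ : (q₀ ≫ prV) ≫ sV = q₀ := by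
    rw [← cancel_mono V.ι, Category.assoc, hsVι, ← Category.assoc, ← hπ, pullback.condition]
  obtain ⟨hfull, hfaith⟩ := restrict_fullyFaithful hA V fun q hq => (hmemV _).2 (by
    show Ideal.comap (algebraMap A B) (Ideal.comap (MvPowerSeries.constantCoeff : B →+* A) q.asIdeal) ≠ _
    rw [Ideal.comap_comap, hcc, Ideal.comap_id]
    exact hq)
  haveI := hfull
  haveI := hfaith
  let eV : WV ≅ (FEt.restrict prV).obj W₀ := (FEt.restrict q₀).preimageIso
    ((restrictCongr hq₀.symm).app WV ≪≫ (restrictCompIso (q₀ ≫ prV) sV).app WV ≪≫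
      (restrictCompIso q₀ prV).app W₀)
  -- extension over the base
  haveI : IsFinite W₀.hom := W₀.prop.1
  haveI : Etale W₀.hom := W₀.prop.2
  haveI : IsIso U₀.ι.appTop := (ConcreteCategory.isIso_iff_bijective _).2
    (Pi1Depth.bijective_app_puncturedSpec A hA ⊤)
  haveI : CompactSpace ↥(U₀ : Scheme.{u}) :=
    isCompact_iff_compactSpace.1 (TopologicalSpace.NoetherianSpace.isCompact (U₀ : Set (Spec (CommRingCat.of A))))
  let BQ := Localization.AtPrime Q.asIdeal
  haveI : Module.Flat A BQ := Module.Flat.trans A B BQ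
  haveI : IsLocalHom (algebraMap A BQ) := ⟨fun x hx => by
    by_contra h
    have h1 : algebraMap A B x ∈ Q.asIdeal := Ideal.mem_comap.1 (hQ.symm ▸ h)
    rw [IsScalarTower.algebraMap_apply A B BQ, IsLocalization.AtPrime.isUnit_to_map_iff BQ Q.asIdeal] at hx
    exact hx h1⟩
  let h := Spec.map (CommRingCat.ofHom (algebraMap A BQ))
  let t := Spec.map (CommRingCat.ofHom (algebraMap B BQ))
  have htp : t ≫ p = h := by
    rw [← Spec.map_comp]
    rfl
  have htU : ∀ x, t x ∈ U := fun x => by
    have hle : (t x : PrimeSpectrum B).asIdeal ≤ Q.asIdeal :=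
      fun b hb => by_contra fun hb' => x.isPrime.ne_top (Ideal.eq_top_of_isUnit_mem _ hb
        ((IsLocalization.AtPrime.isUnit_to_map_iff BQ Q.asIdeal b).2 hb'))
    exact U.isOpen.stableUnderGeneralization ((PrimeSpectrum.le_iff_specializes _ _).1 hle) hQU
  let tU : Spec (CommRingCat.of BQ) ⟶ (U : Scheme.{u}) := IsOpenImmersion.lift U.ι t (by
    rw [Scheme.Opens.range_ι]
    rintro _ ⟨x, rfl⟩
    exact htU x)
  have htUι : tU ≫ U.ι = t := IsOpenImmersion.lift_fac _ _ _
  haveI : Flat h := (HasRingHomProperty.Spec_iff (P := @Flat)).2 (RingHom.flat_algebraMap_iff.2 inferInstance)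
  haveI : Module.FaithfullyFlat A BQ := Module.FaithfullyFlat.of_flat_of_isLocalHom
  haveI : Surjective h := ⟨PrimeSpectrum.comap_surjective_of_faithfullyFlat⟩
  let a : pullback U₀.ι h ⟶ (V : Scheme.{u}) := IsOpenImmersion.lift V.ι (pullback.snd U₀.ι h ≫ t) (by
    rw [Scheme.Opens.range_ι]
    rintro _ ⟨x, rfl⟩
    show p ((pullback.snd U₀.ι h ≫ t) x) ∈ U₀
    rw [← Scheme.Hom.comp_apply, Category.assoc, htp, ← pullback.condition, Scheme.Hom.comp_apply]
    exact (pullback.fst U₀.ι h x).2)
  have haι : a ≫ V.ι = pullback.snd U₀.ι h ≫ t := IsOpenImmersion.lift_fac _ _ _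
  have ha₁ : a ≫ incl = pullback.snd U₀.ι h ≫ tU := by
    rw [← cancel_mono U.ι, Category.assoc, hincl, haι, Category.assoc, htUι]
  have ha₂ : a ≫ prV = pullback.fst U₀.ι h := by
    rw [← cancel_mono U₀.ι, Category.assoc, hprV, ← Category.assoc, haι, Category.assoc, htp, pullback.condition]
  let VT := (FEt.restrict tU).obj W
  let φ : (FEt.restrict (pullback.fst U₀.ι h)).obj W₀ ≅ (FEt.restrict (pullback.snd U₀.ι h)).obj VT :=
    (restrictCongr ha₂.symm).app W₀ ≪≫ (restrictCompIso a prV).app W₀ ≪≫ (FEt.restrict a).mapIso eV.symm ≪≫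
      ((restrictCompIso a incl).app W).symm ≪≫ (restrictCongr ha₁).app W ≪≫
      (restrictCompIso (pullback.snd U₀.ι h) tU).app W
  let e := (MorphismProperty.Over.forget _ _ _ ⋙ Over.forget _).mapIso φ
  have hZ : IsPullback (pullback.snd W₀.hom (pullback.fst U₀.ι h))
      (e.hom ≫ pullback.fst VT.hom (pullback.snd U₀.ι h)) (pullback.snd U₀.ι h) VT.hom := by
    refine (IsPullback.of_hasPullback VT.hom (pullback.snd U₀.ι h)).flip.of_iso e.symm (Iso.refl _) (Iso.refl _)
      (Iso.refl _) ?_ ?_ (by simp) (by simp)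
    · rw [Iso.symm_hom, Iso.refl_hom, Category.comp_id]
      exact (MorphismProperty.Over.w φ.inv).symm
    · simp
  haveI : QuasiCompact h := inferInstance
  have hq : EtaleBase.Fpqc h := ⟨⟨inferInstance, inferInstance⟩, inferInstance⟩
  have hprop := Pi1Purity.prop_pullback_hull U₀.ι W₀.hom h VT hZ (IsPullback.of_hasPullback W₀.hom _)
  have hhull : FEt.prop (Pi1Purity.hull U₀.ι W₀.hom) :=
    ⟨MorphismProperty.of_pullback_snd_of_descendsAlong (Q := EtaleBase.Fpqc) hq hprop.1,
      MorphismProperty.of_pullback_snd_of_descendsAlong (Q := EtaleBase.Fpqc) hq hprop.2⟩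
  let YA : FEt.Cat (Spec (CommRingCat.of A)) := MorphismProperty.Over.mk ⊤ _ hhull
  have H := (Pi1Purity.isPullback_hull U₀.ι W₀.hom).flip
  let eA : (FEt.restrict U₀.ι).obj YA ≅ W₀ :=
    MorphismProperty.Over.isoMk H.isoPullback.symm (by
      rw [Iso.symm_hom, Iso.inv_comp_eq]; exact H.isoPullback_hom_snd.symm)
  -- comparison on `U`
  obtain ⟨hfull', hfaith'⟩ := restrict_full_faithful_of_bijective_app incl
    (bijective_incl hA V U hVU fun q hq' => not_not.1 fun h => hq' ((hmemV q).2 h))
  haveI := hfull'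
  haveI := hfaith'
  have hfac : incl ≫ U.ι ≫ p = prV ≫ U₀.ι := by rw [← Category.assoc, hincl, hprV]
  let eU : (FEt.restrict (U.ι ≫ p)).obj YA ≅ W := (FEt.restrict incl).preimageIso
    (((restrictCompIso incl (U.ι ≫ p)).app YA).symm ≪≫ (restrictCongr hfac).app YA ≪≫
      (restrictCompIso prV U₀.ι).app YA ≪≫ (FEt.restrict prV).mapIso eA ≪≫ eV.symm)
  exact ⟨(FEt.restrict p).obj YA, ⟨((restrictCompIso U.ι p).app YA).symm ≪≫ eU⟩⟩

end Groth.Pi1Formal
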