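import Groth.Agent.Pi1Formal.Relative
import Groth.Agent.Calg4.SmoothRegularField
import Groth.Agent.Calg4.RegularHom
import Groth.Agent.Ega4Algebra1.RegularLocal
import Groth.Agent.SpectralTopology.AlgSystem
import Groth.Agent.Limits.DescentSetup
import Groth.Agent.S0595
import Groth.Agent.S12073
import Groth.Agent.S2039
import Groth.Agent.S9317
import Groth.Agent.S2038
import Groth.Agent.Ega4Algebra2.RegularComplete
import Mathlib

/-!
# Purity along regular homomorphisms

A cover of a punctured spectrum descends to a finitely generated algebra, which factors through a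
smooth algebra, where purity is known.
-/

universe u

set_option autoImplicit false
set_option backward.isDefEq.respectTransparency false
set_option linter.style.haveILetI false

open CategoryTheory CategoryTheory.Limits AlgebraicGeometry IsLocalRing
open scoped TensorProduct

namespace Groth.Pi1Formal

open Pi1FEt

variable {A : Type u} [CommRing A] [IsLocalRing A] [IsNoetherianRing A]

/-- The primes over the closed point below a given prime of a smooth algebra contain a common one. -/
theorem exists_fibre_generic {C : Type u} [CommRing C] [Algebra A C] [Algebra.Smooth A C] (P : Ideal C)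
    [P.IsPrime] (hP : (maximalIdeal A).map (algebraMap A C) ≤ P) :
    ∃ q : Ideal C, q.IsPrime ∧ q.comap (algebraMap A C) = maximalIdeal A ∧
      (∀ r : Ideal C, r.IsPrime → (maximalIdeal A).map (algebraMap A C) ≤ r → r ≤ P → q ≤ r) ∧
      ∀ x ∈ q, ∃ s ∉ P, s * x ∈ (maximalIdeal A).map (algebraMap A C) := by
  let I := (maximalIdeal A).map (algebraMap A C)
  let k := A ⧸ maximalIdeal A
  letI : Field k := Ideal.Quotient.field _
  let S := k ⊗[A] C
  haveI : Algebra.Smooth k S := inferInstance
  let π : C →ₐ[A] S := Algebra.TensorProduct.includeRight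
  have hsurj : Function.Surjective π.toRingHom :=
    fun x => Algebra.TensorProduct.includeRight_surjective C (Ideal.Quotient.mk_surjective (I := maximalIdeal A)) x
  have hker : RingHom.ker π.toRingHom = I := by
    let e := Algebra.TensorProduct.quotIdealMapEquivTensorQuot (A := A) C (maximalIdeal A)
    ext x
    rw [RingHom.mem_ker, ← Ideal.Quotient.eq_zero_iff_mem]
    have h1 : e (Ideal.Quotient.mk _ x) = Algebra.TensorProduct.comm A k C (π x) := by
      rw [show (Algebra.TensorProduct.comm A k C) (π x) = x ⊗ₜ[A] (1 : k) from rfl]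
      exact Algebra.TensorProduct.quotIdealMapEquivTensorQuot_mk C (maximalIdeal A) x
    constructor
    · intro h
      refine e.injective ?_
      rw [h1, show π x = 0 from h, map_zero, map_zero]
    · intro h
      refine (Algebra.TensorProduct.comm A k C).injective ?_
      rw [map_zero]
      exact h1.symm.trans (by rw [h, map_zero])
  let P' : Ideal S := P.map π.toRingHom
  haveI hP' : P'.IsPrime := Ideal.map_isPrime_of_surjective hsurj (hker.le.trans hP)
  haveI : Algebra.IsSmoothAt k P' := Algebra.FormallySmooth.comp k S _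
  haveI : IsRegularLocalRing (Localization.AtPrime P') :=
    Calg4.isRegularLocalRing_of_isSmoothAt (k := k) P'
  haveI : IsDomain (Localization.AtPrime P') := Ega4Algebra1.isDomain_of_isRegularLocalRing (Localization.AtPrime P')
  have hcomap : ∀ r : Ideal C, I ≤ r → (r.map π.toRingHom).comap π.toRingHom = r := fun r hr => by
    rw [Ideal.comap_map_of_surjective _ hsurj, ← RingHom.ker_eq_comap_bot, hker, sup_eq_left.2 hr]
  let φ : C →+* Localization.AtPrime P' := (algebraMap S _).comp π.toRingHom
  have hIq : I ≤ RingHom.ker φ := fun x hx => by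
    show algebraMap S _ (π.toRingHom x) = 0
    rw [RingHom.mem_ker.1 (hker.ge hx), map_zero]
  refine ⟨RingHom.ker φ, RingHom.ker_isPrime φ, ?_, ?_, ?_⟩
  · refine ((maximalIdeal.isMaximal A).eq_of_le ?_ fun a ha => hIq (Ideal.mem_map_of_mem _ ha)).symm
    haveI := RingHom.ker_isPrime φ
    exact (Ideal.IsPrime.comap (algebraMap A C)).ne_top
  · intro r hr hIr hrP x hx
    obtain ⟨⟨s, hs⟩, h⟩ := (IsLocalization.map_eq_zero_iff P'.primeCompl (Localization.AtPrime P') _).1
      (RingHom.mem_ker.1 hx)
    obtain ⟨s, rfl⟩ := hsurj s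
    have h1 : s * x ∈ RingHom.ker π.toRingHom := by rw [RingHom.mem_ker, map_mul]; exact h
    exact (hr.mem_or_mem (hIr (hker.le h1))).resolve_left fun hsr => hs (Ideal.mem_map_of_mem _ (hrP hsr))
  · intro x hx
    obtain ⟨⟨s, hs⟩, h⟩ := (IsLocalization.map_eq_zero_iff P'.primeCompl (Localization.AtPrime P') _).1
      (RingHom.mem_ker.1 hx)
    obtain ⟨s, rfl⟩ := hsurj s
    refine ⟨s, fun hsP => hs (Ideal.mem_map_of_mem _ hsP), hker.le ?_⟩
    rw [RingHom.mem_ker, map_mul]
    exact h

/-- Purity along a regular homomorphism of local rings with positive dimensional closed fibre. -/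
theorem purityHolds_of_regularHom (hA : (2 : ℕ∞) ≤ LocCoh.depth A A) (B : Type u) [CommRing B]
    [IsLocalRing B] [IsNoetherianRing B] [Algebra A B] [IsLocalHom (algebraMap A B)]
    (hreg : CAlg.IsRegularHom A B)
    (hdim : maximalIdeal B ≠ (maximalIdeal A).map (algebraMap A B)) :
    FEt.PurityHolds B := by
  refine ⟨fun W => ?_⟩
  obtain ⟨m, b, hb⟩ := Submodule.fg_iff_exists_fin_generating_family.1
    (IsNoetherian.noetherian (maximalIdeal B))
  have hbmem : ∀ i, b i ∈ maximalIdeal B := fun i => hb ▸ Submodule.subset_span ⟨i, rfl⟩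
  let A₀ := MvPolynomial (Fin m) A
  letI : Algebra A₀ B := (MvPolynomial.aeval b).toRingHom.toAlgebra
  haveI : IsScalarTower A A₀ B :=
    IsScalarTower.of_algebraMap_eq fun a => ((MvPolynomial.aeval b).commutes a).symm
  -- the open to descend to
  let gens : Set A₀ := Set.range MvPolynomial.X ∪ MvPolynomial.C '' (maximalIdeal A : Set A)
  let U₀ : (Spec (CommRingCat.of A₀)).Opens :=
    ⟨(PrimeSpectrum.zeroLocus gens)ᶜ, (PrimeSpectrum.isClosed_zeroLocus gens).isOpen_compl⟩
  let R := CommRingCat.of A₀
  let K := CommRingCat.of B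
  let τ : Spec K ⟶ Spec R := Spec.map (CommRingCat.ofHom (algebraMap A₀ B))
  let U := FEt.puncturedSpec B
  have hτU : ∀ x : Spec K, τ x ∈ U₀ ↔ x ∈ U := fun x => by
    refine not_congr ⟨fun h => ?_, fun h => ?_⟩
    · refine PrimeSpectrum.ext (le_antisymm (le_maximalIdeal x.isPrime.ne_top) ?_)
      show maximalIdeal B ≤ (x : PrimeSpectrum B).asIdeal
      rw [← hb, Submodule.span_le]
      rintro _ ⟨i, rfl⟩
      have h1 : algebraMap A₀ B (MvPolynomial.X i) ∈ (x : PrimeSpectrum B).asIdeal :=
        h (Or.inl ⟨i, rfl⟩)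
      rwa [show algebraMap A₀ B (MvPolynomial.X i) = b i from MvPolynomial.aeval_X b i] at h1
    · rintro _ (⟨i, rfl⟩ | ⟨a, ha, rfl⟩)
      · show algebraMap A₀ B (MvPolynomial.X i) ∈ (x : PrimeSpectrum B).asIdeal
        rw [show algebraMap A₀ B (MvPolynomial.X i) = b i from MvPolynomial.aeval_X b i, h]
        exact hbmem i
      · show algebraMap A₀ B (MvPolynomial.C a) ∈ (x : PrimeSpectrum B).asIdeal
        rw [show algebraMap A₀ B (MvPolynomial.C a) = algebraMap A B a from MvPolynomial.aeval_C b a, h]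
        exact map_nonunit (algebraMap A B) a ha
  -- descend to a finitely generated algebra
  let t : SpectralTopology.algSchemes R K ⟶ (Functor.const _).obj (Spec R) :=
    { app := fun s => SpectralTopology.algToBase R K s
      naturality := fun _ _ f =>
        (SpectralTopology.algSchemes_map_toBase R K f).trans (Category.comp_id _).symm }
  let D := Groth.Limits.bcDiagram t U₀.ι
  let c : Cone D := Groth.Limits.bcCone t U₀.ι (SpectralTopology.algCone R K) τ
    (SpectralTopology.algCone_π_toBase R K)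
  haveI : IsDirected (SpectralTopology.AlgSub R K) (· ≤ ·) :=
    ⟨fun s t => ⟨⟨s.1 ⊔ t.1, s.2.sup t.2⟩, le_sup_left (a := s.1), le_sup_right (a := s.1)⟩⟩
  haveI : Nonempty (SpectralTopology.AlgSub R K) := ⟨⟨⊥, Subalgebra.fg_bot⟩⟩
  haveI : IsFiltered (SpectralTopology.AlgSub R K) := isFiltered_of_directed_le_nonempty _
  haveI : IsCofiltered (SpectralTopology.AlgSub R K)ᵒᵖ := inferInstance
  have hc : IsLimit c := Groth.Limits.isLimitBcCone t U₀.ι _ _
    (SpectralTopology.algCone_π_toBase R K) (SpectralTopology.isLimitAlgCone R K)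
  haveI : IsNoetherianRing R := inferInstanceAs (IsNoetherianRing A₀)
  haveI hN : ∀ s, AlgebraicGeometry.IsNoetherian ((SpectralTopology.algSchemes R K).obj s) := fun s =>
    SpectralTopology.isNoetherian_algSchemes R K s
  haveI : ∀ (i j : (SpectralTopology.AlgSub R K)ᵒᵖ) (f : i ⟶ j),
      IsAffineHom ((SpectralTopology.algSchemes R K).map f) :=
    fun i j f => SpectralTopology.isAffineHom_algSchemes R K i j f
  haveI : ∀ (i j : (SpectralTopology.AlgSub R K)ᵒᵖ) (f : i ⟶ j), IsAffineHom (D.map f) :=
    fun i j f => Groth.Limits.isAffineHom_bcDiagram_map t U₀.ι i j f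
  haveI : ∀ s, IsLocallyNoetherian (D.obj s) := fun s =>
    isLocallyNoetherian_of_isOpenImmersion (pullback.snd U₀.ι (t.app s))
  haveI : ∀ s, CompactSpace (D.obj s) := fun s => by
    haveI : TopologicalSpace.NoetherianSpace ((SpectralTopology.algSchemes R K).obj s) :=
      @AlgebraicGeometry.IsNoetherian.noetherianSpace _ (hN s)
    haveI := (pullback.snd U₀.ι (t.app s)).isOpenEmbedding.isInducing.noetherianSpace
    exact @TopologicalSpace.NoetherianSpace.compactSpace _ _ this
  have hrange : Set.range (pullback.snd U₀.ι τ) = Set.range U.ι := by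
    rw [IsOpenImmersion.range_pullbackSnd, Scheme.Opens.opensRange_ι, Scheme.Opens.range_ι]
    exact Set.ext hτU
  let φ : pullback U₀.ι τ ≅ (U : Scheme.{u}) :=
    IsOpenImmersion.isoOfRangeEq (pullback.snd U₀.ι τ) U.ι hrange
  have hφ : φ.inv ≫ pullback.snd U₀.ι τ = U.ι := IsOpenImmersion.isoOfRangeEq_inv_fac _ _ hrange
  obtain ⟨s, Vi, ⟨e⟩⟩ := (Groth.Agent.S12073.result D c hc).1 ((FEt.restrict φ.hom).obj W)
  -- factor through a smooth algebra
  let S := s.unop.1
  haveI : Algebra.FiniteType A₀ S := S.fg_iff_finiteType.1 s.unop.2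
  haveI : Algebra.FiniteType A S := Algebra.FiniteType.trans inferInstance ‹_›
  haveI : Algebra.FinitePresentation A S := Algebra.FinitePresentation.of_finiteType.1 ‹_›
  obtain ⟨C, _, _, hC, g, h, hhg⟩ := Groth.Agent.S0595.result A B hreg S (S.val.restrictScalars A)
  haveI := hC
  let P : Ideal C := (maximalIdeal B).comap h.toRingHom
  haveI : P.IsPrime := inferInstance
  let L := Localization.AtPrime P
  haveI : IsNoetherianRing C := Algebra.FiniteType.isNoetherianRing A C
  let gL : S →+* L := (algebraMap C L).comp g.toRingHom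
  let h' : L →+* B := IsLocalization.lift (M := P.primeCompl) (g := h.toRingHom)
    (fun z => not_not.1 z.2)
  have hh' : ∀ x : S, h' (gL x) = (x : B) := fun x => by
    show h' (algebraMap C L (g x)) = _
    rw [IsLocalization.lift_eq]
    exact DFunLike.congr_fun hhg x
  let β : Spec (CommRingCat.of L) ⟶ (SpectralTopology.algSchemes R K).obj s :=
    Spec.map (CommRingCat.ofHom gL)
  let β₀ : Spec (CommRingCat.of L) ⟶ Spec R := β ≫ t.app s
  let UL := β₀ ⁻¹ᵁ U₀
  let ψ : (UL : Scheme.{u}) ⟶ D.obj s := pullback.lift (β₀ ∣_ U₀) (UL.ι ≫ β)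
    (by rw [morphismRestrict_ι, Category.assoc])
  haveI : IsNoetherianRing (CommRingCat.of L) := inferInstanceAs (IsNoetherianRing L)
  -- purity outside of the open
  have hequiv : (FEt.restrict UL.ι).IsEquivalence := by
    refine isEquivalence_of_isPureDeep UL fun x hx => ?_
    refine IsPureDeep.of_ringEquiv
      (IsLocalization.algEquiv (x : PrimeSpectrum L).asIdeal.primeCompl
        (Localization.AtPrime (x : PrimeSpectrum L).asIdeal)
        ((Spec.structureSheaf L).presheaf.stalk x)).toRingEquiv ?_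
    let r : Ideal C := (x : PrimeSpectrum L).asIdeal.comap (algebraMap C L)
    refine IsPureDeep.of_ringEquiv (IsLocalization.localizationLocalizationAtPrimeIsoLocalization
      P.primeCompl (x : PrimeSpectrum L).asIdeal).toRingEquiv ?_
    have hxg : gens ⊆ ((β₀ x : Spec R) : PrimeSpectrum A₀).asIdeal := not_not.1 hx
    have hrP : r ≤ P := ((IsLocalization.AtPrime.orderIsoOfPrime L P) ⟨_, x.isPrime⟩).2.2
    have hgA : ∀ a : A, g (algebraMap A₀ S (MvPolynomial.C a)) = algebraMap A C a := fun a => by
      rw [show algebraMap A₀ S (MvPolynomial.C a) = algebraMap A S a from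
        (IsScalarTower.algebraMap_apply A A₀ S a).symm, g.commutes]
    have hIr : (maximalIdeal A).map (algebraMap A C) ≤ r := Ideal.map_le_iff_le_comap.2 fun a ha => by
      rw [Ideal.mem_comap, ← hgA a]
      exact hxg (Or.inr ⟨a, ha, rfl⟩)
    have hrA : r.comap (algebraMap A C) = maximalIdeal A :=
      ((maximalIdeal.isMaximal A).eq_of_le (Ideal.IsPrime.comap (algebraMap A C)).ne_top
        (Ideal.map_le_iff_le_comap.1 hIr)).symm
    obtain ⟨q, hq, hqA, hqle, hqloc⟩ := exists_fibre_generic P (hIr.trans hrP)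
    haveI := hq
    refine purityHolds_of_smooth r q (lt_of_le_of_ne (hqle r inferInstance hIr hrP) fun he => ?_)
      (hqA.trans hrA.symm) (Or.inl (depth_congr hrA.symm ?_))
    · apply hdim
      refine le_antisymm ?_ (((IsLocalRing.local_hom_TFAE (algebraMap A B)).out 0 2).mp ‹_›)
      rw [← hb, Submodule.span_le]
      rintro _ ⟨i, rfl⟩
      obtain ⟨z, hz, hzi⟩ := hqloc (g (algebraMap A₀ S (MvPolynomial.X i)))
        (he.ge (hxg (Or.inl ⟨i, rfl⟩)))
      have h1 := Ideal.mem_map_of_mem h.toRingHom hzi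
      rw [map_mul, Ideal.map_map, show h.toRingHom.comp (algebraMap A C) = algebraMap A B from RingHom.ext h.commutes] at h1
      have h2 : h.toRingHom (g (algebraMap A₀ S (MvPolynomial.X i))) = b i :=
        (DFunLike.congr_fun hhg (algebraMap A₀ S (MvPolynomial.X i))).trans (MvPolynomial.aeval_X b i)
      rw [h2] at h1
      obtain ⟨w, hw⟩ := (not_not.1 hz : IsUnit (h.toRingHom z))
      rw [← hw, Ideal.unit_mul_mem_iff_mem _ w.isUnit] at h1
      exact h1
    · rw [← Ega4b.depth_eq_of_ringEquiv (IsLocalization.atUnits A (maximalIdeal A).primeCompl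
        (S := Localization.AtPrime (maximalIdeal A)) fun a ha => notMem_maximalIdeal.mp ha).toRingEquiv]
      exact hA
  haveI := hequiv
  let WL := (FEt.restrict ψ).obj Vi
  let Y := (FEt.restrict UL.ι).objPreimage WL
  let eY := (FEt.restrict UL.ι).objObjPreimageIso WL
  -- pull back
  let σ : Spec K ⟶ Spec (CommRingCat.of L) := Spec.map (CommRingCat.ofHom h')
  have hσ : σ ≫ β = (SpectralTopology.algCone R K).π.app s := by
    show Spec.map _ ≫ Spec.map _ = Spec.map _
    rw [← Spec.map_comp, ← CommRingCat.ofHom_comp]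
    exact congrArg (fun f => Spec.map (CommRingCat.ofHom f)) (RingHom.ext hh')
  have hσ₀ : σ ≫ β₀ = τ := by
    show σ ≫ β ≫ t.app s = τ
    rw [reassoc_of% hσ]
    exact SpectralTopology.algCone_π_toBase R K s
  let κ : (U : Scheme.{u}) ⟶ (UL : Scheme.{u}) := IsOpenImmersion.lift UL.ι (U.ι ≫ σ) (by
    rw [Scheme.Opens.range_ι]
    rintro _ ⟨x, rfl⟩
    show β₀ (σ (U.ι x)) ∈ U₀
    rw [← Scheme.Hom.comp_apply σ β₀, hσ₀, hτU]
    exact x.2)
  have hκ : κ ≫ UL.ι = U.ι ≫ σ := IsOpenImmersion.lift_fac _ _ _
  let πs : pullback U₀.ι τ ⟶ D.obj s := c.π.app s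
  have hπs : πs ≫ pullback.snd U₀.ι (t.app s) = pullback.snd U₀.ι τ ≫ (SpectralTopology.algCone R K).π.app s :=
    pullback.lift_snd _ _ _
  have hψs : ψ ≫ pullback.snd U₀.ι (t.app s) = UL.ι ≫ β := pullback.lift_snd _ _ _
  have hsq : φ.inv ≫ πs = κ ≫ ψ := by
    have hsnd : φ.inv ≫ πs ≫ pullback.snd U₀.ι (t.app s) = κ ≫ ψ ≫ pullback.snd U₀.ι (t.app s) := by
      rw [hπs, hψs, reassoc_of% hφ, reassoc_of% hκ, hσ]
    apply pullback.hom_ext
    · rw [← cancel_mono U₀.ι, Category.assoc, Category.assoc, Category.assoc, Category.assoc,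
        pullback.condition, reassoc_of% hsnd]
    · rw [Category.assoc, Category.assoc]
      exact hsnd
  exact ⟨(FEt.restrict σ).obj Y, ⟨((restrictCompIso U.ι σ).app Y).symm ≪≫ (restrictCongr hκ.symm).app Y ≪≫
    (restrictCompIso κ UL.ι).app Y ≪≫ (FEt.restrict κ).mapIso eY ≪≫ ((restrictCompIso κ ψ).app Vi).symm ≪≫
    (restrictCongr hsq.symm).app Vi ≪≫ (restrictCompIso φ.inv πs).app Vi ≪≫
    (FEt.restrict φ.inv).mapIso e ≪≫ ((restrictCompIso φ.inv φ.hom).app W).symm ≪≫
    (restrictCongr φ.inv_hom_id).app W ≪≫ (restrictIdIso _).app W⟩⟩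

/-- The closed fibre stays geometrically regular on localising. -/
theorem isGeometricallyRegular_fibre_localization {B : Type u} [CommRing B] [Algebra A B] (q : Ideal B)
    [q.IsPrime] (h : CAlg.IsGeometricallyRegular (maximalIdeal A).ResidueField ((maximalIdeal A).Fiber B)) :
    CAlg.IsGeometricallyRegular (maximalIdeal A).ResidueField
      ((maximalIdeal A).Fiber (Localization.AtPrime q)) := by
  intro L _ _ hL
  let κ := (maximalIdeal A).ResidueField
  letI : Algebra A L := ((algebraMap κ L).comp (algebraMap A κ)).toAlgebra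
  haveI : IsScalarTower A κ L := IsScalarTower.of_algebraMap_eq fun _ => rfl
  haveI := h L hL
  haveI : IsRegularRing (L ⊗[A] B) :=
    IsRegularRing.of_ringEquiv (Algebra.TensorProduct.cancelBaseChange A κ κ L B).toRingEquiv
  haveI : IsRegularRing (B ⊗[A] L) :=
    IsRegularRing.of_ringEquiv (Algebra.TensorProduct.comm A L B).toRingEquiv
  haveI : IsRegularRing ((B ⊗[A] L) ⊗[B] Localization.AtPrime q) :=
    Calg4.isRegularRing_of_isLocalization _ (Algebra.algebraMapSubmonoid (B ⊗[A] L) q.primeCompl)
  haveI : IsRegularRing (L ⊗[A] Localization.AtPrime q) :=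
    IsRegularRing.of_ringEquiv (Calg4.fibreTower A B (Localization.AtPrime q) L)
  exact IsRegularRing.of_ringEquiv
    (Algebra.TensorProduct.cancelBaseChange A κ κ L (Localization.AtPrime q)).toRingEquiv.symm

/-- For a formally smooth local algebra the maximal ideal of the base generates a prime ideal. -/
theorem mem_map_maximalIdeal_of_mul {B : Type u} [CommRing B] [IsLocalRing B] [IsNoetherianRing B]
    [Algebra A B] [IsLocalHom (algebraMap A B)] (hfs : CAlgX.IsAdicFormallySmooth A B (maximalIdeal B))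
    (q : Ideal B) [q.IsPrime] (hq : q.comap (algebraMap A B) = maximalIdeal A) {z b : B} (hz : z ∉ q)
    (h : z * b ∈ (maximalIdeal A).map (algebraMap A B)) : b ∈ (maximalIdeal A).map (algebraMap A B) := by
  let I := (maximalIdeal A).map (algebraMap A B)
  letI : Field (A ⧸ maximalIdeal A) := Ideal.Quotient.field _
  haveI := (Ega41Flat.isGeometricallyRegular_fibre_iff (A := A) (B := B)).1
    (Groth.Agent.S2038.result.mpr hfs).2 (A ⧸ maximalIdeal A) inferInstance
  haveI : IsRegularRing (B ⧸ I) := IsRegularRing.of_ringEquiv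
    (Algebra.TensorProduct.lid (A ⧸ maximalIdeal A) (B ⧸ I)).toRingEquiv
  haveI : IsLocalRing (B ⧸ I) :=
    haveI : Nontrivial (B ⧸ I) := Ideal.Quotient.nontrivial_iff.2
      (ne_top_of_le_ne_top (maximalIdeal.isMaximal B).ne_top
        (((local_hom_TFAE (algebraMap A B)).out 0 2).mp ‹_›))
    IsLocalRing.of_surjective' (Ideal.Quotient.mk I) Ideal.Quotient.mk_surjective
  haveI : IsRegularLocalRing (B ⧸ I) := IsRegularLocalRing.of_isRegularRing_of_isLocalRing (B ⧸ I)
  haveI := Ega4Algebra1.isDomain_of_isRegularLocalRing (B ⧸ I)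
  haveI : I.IsPrime := (Ideal.Quotient.isDomain_iff_prime I).1 inferInstance
  exact (‹I.IsPrime›.mem_or_mem h).resolve_left fun hzI => hz (Ideal.map_le_iff_le_comap.2 hq.ge hzI)

/-- Purity for formally smooth algebras over a local ring of depth two, with positive dimensional
closed fibre and arbitrary residue extension. -/
theorem purityHolds_of_adicFormallySmooth (hA : (2 : ℕ∞) ≤ LocCoh.depth A A) (B : Type u) [CommRing B]
    [IsLocalRing B] [IsNoetherianRing B] [Algebra A B] [IsLocalHom (algebraMap A B)]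
    (hfs : CAlgX.IsAdicFormallySmooth A B (maximalIdeal B))
    (hdim : maximalIdeal B ≠ (maximalIdeal A).map (algebraMap A B)) :
    FEt.PurityHolds B := by
  haveI : Module.Flat A B :=
    Ega41Flat.flat_of_formallySmooth (Ega41Flat.isAdicFormallySmooth_iff_local.mp hfs)
  let Ah := EGA4.Cpl A
  let Bh := EGA4.Cpl B
  letI : Algebra Ah Bh := (Ega4b.cplHom A B).toAlgebra
  haveI : IsScalarTower A Ah Bh :=
    IsScalarTower.of_algebraMap_eq fun a => (Ega4b.cplHom_algebraMap A B a).symm
  haveI := Ega4b.isNoetherianRing_cpl A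
  haveI := Ega4b.isNoetherianRing_cpl B
  haveI : IsAdicComplete (maximalIdeal Ah) Ah := by
    rw [AdicCompletion.maximalIdeal_eq_map]
    exact AdicCompletion.isAdicComplete_self _ (IsNoetherian.noetherian _)
  haveI : IsAdicComplete (maximalIdeal Bh) Bh := by
    rw [AdicCompletion.maximalIdeal_eq_map]
    exact AdicCompletion.isAdicComplete_self _ (IsNoetherian.noetherian _)
  haveI := Ega4b.isLocalHom_cpl A B
  haveI : IsLocalHom (algebraMap Ah Bh) := by
    refine ((local_hom_TFAE _).out 0 2).mpr ?_
    rw [AdicCompletion.maximalIdeal_eq_map, Ideal.map_map, ← IsScalarTower.algebraMap_eq A Ah Bh]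
    exact ((local_hom_TFAE (algebraMap A Bh)).out 0 2).mp (Ega4b.isLocalHom_cpl A B)
  have hfs' : CAlgX.IsAdicFormallySmooth Ah Bh (maximalIdeal Bh) := by
    rw [AdicCompletion.maximalIdeal_eq_map]
    exact (Groth.Agent.S9317.result (maximalIdeal A) (maximalIdeal B) (IsNoetherian.noetherian _)
      (IsNoetherian.noetherian _) ⟨1, by rw [pow_one]; exact ((local_hom_TFAE (algebraMap A B)).out 0 2).mp ‹_›⟩
      (Ega4b.cplHom A B) (RingHom.ext fun a => Ega4b.cplHom_algebraMap A B a)).1 hfs
  haveI := AdicCompletion.flat_of_isNoetherian (maximalIdeal A)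
  haveI : IsLocalHom (algebraMap A Ah) :=
    ((local_hom_TFAE _).out 0 2).mpr (le_of_eq (AdicCompletion.maximalIdeal_eq_map).symm)
  refine purityHolds_of_completion (two_le_depth_of_flat hA) (purityHolds_of_regularHom (A := Ah)
    (two_le_depth_of_flat hA) Bh (Ega4b.isRegularHom_of_fs_complete Ah Bh
      (Ega41Flat.isAdicFormallySmooth_iff_local.mp hfs')) fun hmax => hdim ?_)
  haveI := Ega4b.faithfullyFlat_cpl B
  rw [AdicCompletion.maximalIdeal_eq_map, AdicCompletion.maximalIdeal_eq_map, Ideal.map_map,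
    ← IsScalarTower.algebraMap_eq A Ah Bh, IsScalarTower.algebraMap_eq A B Bh, ← Ideal.map_map] at hmax
  rw [← Ideal.comap_map_eq_self_of_faithfullyFlat (B := Bh) (maximalIdeal B), hmax,
    Ideal.comap_map_eq_self_of_faithfullyFlat]

end Groth.Pi1Formal
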