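import Mathlib

/-!
# Choice of a variable for a non-generic prime of a polynomial ring
-/

universe u v

set_option autoImplicit false
set_option linter.style.haveILetI false

namespace Groth.Pi1Formal

open MvPolynomial

variable {R : Type u} [CommRing R] {σ : Type v}

/-- The polynomial ring as polynomials in one chosen variable. -/
noncomputable def splitVar [DecidableEq σ] (i : σ) :
    MvPolynomial σ R ≃ₐ[R] Polynomial (MvPolynomial {x // x ≠ i} R) :=
  (renameEquiv R (Equiv.optionSubtypeNe i).symm).trans (optionEquivLeft R _)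

/-- A prime of a polynomial ring which is not extended from the base contains a polynomial having,
with respect to a suitable variable, a coefficient outside the prime. -/
theorem exists_variable [DecidableEq σ] (Q : Ideal (MvPolynomial σ R)) [Q.IsPrime]
    (hQ : ¬ Q ≤ (Q.comap C).map C) :
    ∃ (i : σ) (f : MvPolynomial σ R) (j : ℕ), f ∈ Q ∧
      (splitVar i).symm (Polynomial.C ((splitVar i f).coeff j)) ∉ Q := by
  classical
  have hex : ∃ N f, f ∈ Q ∧ f ∉ (Q.comap C).map C ∧ f.totalDegree = N := by
    obtain ⟨f, hf, hf'⟩ := SetLike.not_le_iff_exists.1 hQ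
    exact ⟨_, f, hf, hf', rfl⟩
  obtain ⟨f, hf, hf', hdeg⟩ := Nat.find_spec hex
  by_contra hcon
  push Not at hcon
  have hd : ∃ d : σ →₀ ℕ, coeff d f ∉ Q.comap C ∧ d ≠ 0 := by
    by_contra h
    push Not at h
    have h1 : f - C (coeff 0 f) ∈ (Q.comap C).map C := by
      refine mem_map_C_iff.2 fun d => ?_
      rw [coeff_sub, coeff_C]
      by_cases hd : (0 : σ →₀ ℕ) = d
      · rw [if_pos hd, ← hd, sub_self]
        exact zero_mem _
      · rw [if_neg hd, sub_zero]
        exact not_not.1 fun h' => hd (h d h').symm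
    have h2 : C (coeff 0 f) ∈ Q := by
      have h3 := sub_mem hf ((Ideal.map_le_iff_le_comap.2 le_rfl : (Q.comap C).map C ≤ Q) h1)
      rwa [sub_sub_cancel] at h3
    refine hf' ?_
    have h4 := add_mem h1 (Ideal.mem_map_of_mem C (Ideal.mem_comap.2 h2 : coeff 0 f ∈ Q.comap C))
    rwa [sub_add_cancel] at h4
  obtain ⟨d, hd, hd0⟩ := hd
  obtain ⟨i, hi⟩ := Finsupp.ne_iff.1 hd0
  rw [Finsupp.coe_zero, Pi.zero_apply] at hi
  let e := (Equiv.optionSubtypeNe i).symm
  let h' : MvPolynomial (Option {x // x ≠ i}) R := rename e f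
  let c := (optionEquivLeft R _ h').coeff (d i)
  let g : MvPolynomial σ R := (splitVar i).symm (Polynomial.C c)
  have hg : g ∈ Q := hcon i f (d i) hf
  -- the coefficient has smaller degree
  have hgc : g = rename (Subtype.val : {x // x ≠ i} → σ) c := by
    show (splitVar i).symm (Polynomial.C c) = _
    rw [AlgEquiv.symm_apply_eq]
    show Polynomial.C c = optionEquivLeft R _ (rename e (rename Subtype.val c))
    rw [rename_rename]
    have : (e ∘ Subtype.val : {x // x ≠ i} → Option {x // x ≠ i}) = some := by
      funext x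
      exact Equiv.optionSubtypeNe_symm_of_ne x.2
    rw [this]
    induction c using MvPolynomial.induction_on with
    | C a => rw [rename_C, optionEquivLeft_C]
    | add p q hp hq => rw [map_add, map_add, map_add, hp, hq]
    | mul_X p x hp => rw [map_mul, map_mul, map_mul, rename_X, optionEquivLeft_X_some, hp]
  let n := Finsupp.mapDomain e d
  have hn0 : n none = d i := by
    rw [show (none : Option {x // x ≠ i}) = e i from (Equiv.optionSubtypeNe_symm_self i).symm]
    exact Finsupp.mapDomain_apply e.injective d i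
  have hncoeff : coeff n.some c = coeff d f := by
    show coeff n.some ((optionEquivLeft R _ h').coeff (d i)) = _
    rw [← hn0, optionEquivLeft_coeff_some_coeff_none]
    exact coeff_rename_mapDomain e e.injective f d
  have hg' : g ∉ (Q.comap C).map C := by
    intro h
    have h1 := mem_map_C_iff.1 h (Finsupp.mapDomain Subtype.val n.some)
    rw [hgc, coeff_rename_mapDomain _ Subtype.val_injective, hncoeff] at h1
    exact hd h1
  have hlt : g.totalDegree < f.totalDegree := by
    have hc0 : c ≠ 0 := fun h => hd (by rw [← hncoeff, h, coeff_zero]; exact zero_mem _)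
    obtain ⟨m, hm, hmd⟩ := Finset.exists_mem_eq_sup c.support (support_nonempty.2 hc0) fun m => m.sum fun _ e => e
    have h1 : m.optionElim (d i) ∈ h'.support := (mem_support_coeff_optionEquivLeft R).1 hm
    have h2 := le_totalDegree h1
    have h3 : (m.optionElim (d i)).sum (fun _ e => e) = d i + m.sum fun _ e => e := by
      rw [Finsupp.sum_option_index _ _ (fun _ => rfl) (fun _ _ _ => rfl), Finsupp.optionElim_apply_none,
        Finsupp.some_optionElim]
    calc g.totalDegree ≤ c.totalDegree := hgc ▸ totalDegree_rename_le _ _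
      _ = m.sum fun _ e => e := hmd
      _ < d i + m.sum fun _ e => e := by omega
      _ ≤ h'.totalDegree := h3 ▸ h2
      _ ≤ f.totalDegree := totalDegree_rename_le _ _
  exact Nat.find_min hex (hdeg ▸ hlt) ⟨g, hg, hg', rfl⟩

/-- A polynomial with a coefficient outside the maximal ideal is regular modulo any ideal. -/
theorem mem_map_C_of_mul [IsNoetherianRing R] [IsLocalRing R] {J : Ideal R} {h g : MvPolynomial σ R}
    (hh : h ∉ (IsLocalRing.maximalIdeal R).map C) (hhg : h * g ∈ J.map C) : g ∈ J.map C := by
  classical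
  letI : LinearOrder σ := linearOrderOfSTO WellOrderingRel
  let m := IsLocalRing.maximalIdeal R
  have key : ∀ n : ℕ, ∀ d, coeff d g ∈ J ⊔ m ^ n := by
    intro n
    induction n with
    | zero => intro d; simp
    | succ n ih =>
      by_contra hcon
      push Not at hcon
      obtain ⟨d, hd⟩ := hcon
      let Sh := h.support.filter fun d => coeff d h ∉ m
      let Sg := g.support.filter fun d => coeff d g ∉ J ⊔ m ^ (n + 1)
      have hSh : Sh.Nonempty := by
        by_contra hc
        refine hh (mem_map_C_iff.2 fun d => ?_)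
        by_contra hd'
        exact hc ⟨d, Finset.mem_filter.2 ⟨mem_support_iff.2 fun h0 => hd' (by rw [h0]; exact zero_mem _), hd'⟩⟩
      have hSg : Sg.Nonempty :=
        ⟨d, Finset.mem_filter.2 ⟨mem_support_iff.2 fun h0 => hd (by rw [h0]; exact zero_mem _), hd⟩⟩
      obtain ⟨d₁, hd₁, hmax₁⟩ := Finset.exists_max_image Sh toLex hSh
      obtain ⟨d₂, hd₂, hmax₂⟩ := Finset.exists_max_image Sg toLex hSg
      rw [Finset.mem_filter] at hd₁ hd₂
      have hsum := mem_map_C_iff.1 hhg (d₁ + d₂)
      rw [coeff_mul, ← Finset.add_sum_erase _ _ (show (d₁, d₂) ∈ Finset.HasAntidiagonal.antidiagonal (d₁ + d₂) from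
        Finset.HasAntidiagonal.mem_antidiagonal.2 rfl)] at hsum
      have hrest : ∑ x ∈ (Finset.HasAntidiagonal.antidiagonal (d₁ + d₂)).erase (d₁, d₂), coeff x.1 h * coeff x.2 g ∈
          J ⊔ m ^ (n + 1) := by
        refine Ideal.sum_mem _ fun x hx => ?_
        obtain ⟨hne, hx⟩ := Finset.mem_erase.1 hx
        rw [Finset.HasAntidiagonal.mem_antidiagonal] at hx
        rcases lt_trichotomy (toLex x.1) (toLex d₁) with hlt | heq | hgt
        · have h2 : toLex d₂ < toLex x.2 := by
            by_contra hle
            exact absurd (congrArg toLex hx) (ne_of_lt (by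
              rw [toLex_add, toLex_add]
              exact add_lt_add_of_lt_of_le hlt (not_lt.1 hle)))
          refine Ideal.mul_mem_left _ _ (not_not.1 fun hc => absurd (hmax₂ x.2 ?_) (not_le.2 h2))
          exact Finset.mem_filter.2 ⟨mem_support_iff.2 fun h0 => hc (by rw [h0]; exact zero_mem _), hc⟩
        · refine absurd (Prod.ext (toLex.injective heq) ?_) hne
          rw [toLex.injective heq] at hx
          exact add_left_cancel hx
        · have h1 : coeff x.1 h ∈ m := not_not.1 fun hc => absurd (hmax₁ x.1 (Finset.mem_filter.2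
            ⟨mem_support_iff.2 fun h0 => hc (by rw [h0]; exact zero_mem _), hc⟩)) (not_le.2 hgt)
          obtain ⟨u, hu, v, hv, huv⟩ := Submodule.mem_sup.1 (ih x.2)
          rw [← huv, mul_add]
          refine add_mem (Ideal.mem_sup_left (Ideal.mul_mem_left _ _ hu)) (Ideal.mem_sup_right ?_)
          rw [pow_succ']
          exact Ideal.mul_mem_mul h1 hv
      have hmain : coeff d₁ h * coeff d₂ g ∈ J ⊔ m ^ (n + 1) := by
        have := sub_mem (Ideal.mem_sup_left hsum : _ ∈ J ⊔ m ^ (n + 1)) hrest
        rwa [add_sub_cancel_right] at this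
      exact hd₂.2 (((Ideal.unit_mul_mem_iff_mem _ (IsLocalRing.notMem_maximalIdeal.1 hd₁.2)).1 hmain))
  refine mem_map_C_iff.2 fun d => ?_
  have h2 : Ideal.Quotient.mk J (coeff d g) ∈ ⨅ n : ℕ, (m.map (Ideal.Quotient.mk J)) ^ n := by
    refine Ideal.mem_iInf.2 fun n => ?_
    rw [← Ideal.map_pow]
    have h := Ideal.mem_map_of_mem (Ideal.Quotient.mk J) (key n d)
    rwa [Ideal.map_sup, Ideal.map_quotient_self, bot_sup_eq] at h
  rcases eq_or_ne J ⊤ with rfl | hJ
  · trivial
  haveI : Nontrivial (R ⧸ J) := Ideal.Quotient.nontrivial_iff.2 hJ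
  haveI := IsLocalRing.of_surjective' (Ideal.Quotient.mk J) Ideal.Quotient.mk_surjective
  have hne : m.map (Ideal.Quotient.mk J) ≠ ⊤ := by
    intro ht
    have := congrArg (Ideal.comap (Ideal.Quotient.mk J)) ht
    rw [Ideal.comap_map_of_surjective _ Ideal.Quotient.mk_surjective, Ideal.comap_top,
      ← RingHom.ker_eq_comap_bot, Ideal.mk_ker,
      sup_of_le_left (IsLocalRing.le_maximalIdeal hJ)] at this
    exact (IsLocalRing.maximalIdeal.isMaximal R).ne_top this
  rwa [Ideal.iInf_pow_eq_bot_of_isLocalRing _ hne, Ideal.mem_bot, Ideal.Quotient.eq_zero_iff_mem] at h2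

end Groth.Pi1Formal
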