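import Groth.Agent.Pi1Formal.Coordinates
import Groth.Agent.Pi1Formal.Variable
import Groth.Agent.SmoothSlice.Coords
import Mathlib

/-!
# Purity at non-generic points of smooth algebras
-/

universe u

set_option autoImplicit false
set_option backward.isDefEq.respectTransparency false
set_option linter.style.haveILetI false

open IsLocalRing
open scoped Pointwise

namespace Groth.Pi1Formal

open Polynomial in
/-- Over a field, nonzero primes of a line do not contain one another. -/
theorem line_incomparable {S : Type u} [CommRing S] {Q₁ Q₂ : Ideal S[X]} [Q₁.IsPrime] (hle : Q₁ ≤ Q₂)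
    (h : Q₁.comap (C : S →+* S[X]) = Q₂.comap C) {f : S[X]} (hf : f ∈ Q₁) {j : ℕ} (hj : C (f.coeff j) ∉ Q₁) :
    Q₂ ≤ Q₁ := by
  intro r hr
  by_contra hr1
  let p := Q₁.comap (C : S →+* S[X])
  let φ := Ideal.ResidueField.map p Q₁ C rfl
  have hfin : φ.Finite := finite_residueField_map_C Q₁ p rfl hf hj
  obtain ⟨g, hg, hgr⟩ := hfin.to_isIntegral (algebraMap S[X] Q₁.ResidueField r)
  let g₀ := IsLocalization.integerNormalization (nonZeroDivisors (S ⧸ p)) g
  obtain ⟨g₁, hg₁⟩ := Polynomial.map_surjective (Ideal.Quotient.mk p) Ideal.Quotient.mk_surjective g₀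
  obtain ⟨b, hb⟩ := IsLocalization.integerNormalization_map_to_map (nonZeroDivisors (S ⧸ p)) g
  have hne : g₁.map (Ideal.Quotient.mk p) ≠ 0 := by
    rw [hg₁]
    exact fun h0 => hg.ne_zero (IsFractionRing.integerNormalization_eq_zero_iff.1 h0)
  have heval : g₁.eval₂ (C : S →+* S[X]) r ∈ Q₁ := by
    rw [← Ideal.algebraMap_residueField_eq_zero (I := Q₁), Polynomial.hom_eval₂]
    have hC : (algebraMap S[X] Q₁.ResidueField).comp C =
        φ.comp ((algebraMap (S ⧸ p) p.ResidueField).comp (Ideal.Quotient.mk p)) := by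
      ext s
      exact (Ideal.ResidueField.map_algebraMap p Q₁ C rfl s).symm
    rw [hC, ← Polynomial.eval₂_map, ← Polynomial.map_map, hg₁, hb]
    rw [← IsScalarTower.algebraMap_smul p.ResidueField (b : S ⧸ p), Polynomial.smul_eq_C_mul, Polynomial.eval₂_mul,
      hgr, mul_zero]
  obtain ⟨i, hi, hi'⟩ := Ideal.exists_coeff_mem_comap_sdiff_comap_of_root_mem_sdiff hle ⟨hr, hr1⟩ hne heval
  exact hi' (h ▸ hi)

/-- Primes of an etale algebra over one prime do not contain one another. -/
theorem etale_incomparable {T C : Type u} [CommRing T] [CommRing C] [Algebra T C] [Algebra.Etale T C]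
    {q P : Ideal C} [q.IsPrime] [P.IsPrime] (hle : q ≤ P) (h : q.comap (algebraMap T C) = P.comap (algebraMap T C)) :
    q = P := by
  let Q := P.comap (algebraMap T C)
  haveI : P.LiesOver Q := ⟨rfl⟩
  letI : Algebra (Localization.AtPrime Q) (Localization.AtPrime P) := Localization.AtPrime.algebraOfLiesOver Q P
  haveI : Algebra.EssFiniteType T C := inferInstance
  haveI : Algebra.IsUnramifiedAt T P := Algebra.FormallyUnramified.comp T C _
  have h2 := ((Algebra.isUnramifiedAt_iff_map_eq T Q P).1 inferInstance).2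
  refine le_antisymm hle fun x hx => ?_
  have h3 : algebraMap C (Localization.AtPrime P) x ∈ q.map (algebraMap C (Localization.AtPrime P)) := by
    have h4 : algebraMap C (Localization.AtPrime P) x ∈ maximalIdeal (Localization.AtPrime P) :=
      (IsLocalization.AtPrime.to_map_mem_maximal_iff _ P _).2 hx
    rw [← h2, IsScalarTower.algebraMap_eq T C (Localization.AtPrime P), ← Ideal.map_map] at h4
    exact Ideal.map_mono (Ideal.map_le_iff_le_comap.2 (show Q ≤ q.comap (algebraMap T C) from h.ge)) h4
  rw [IsLocalization.algebraMap_mem_map_algebraMap_iff P.primeCompl] at h3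
  obtain ⟨u, hu, hux⟩ := h3
  exact (‹q.IsPrime›.mem_or_mem hux).resolve_left fun hq => hu (hle hq)

theorem depth_congr {R : Type u} [CommRing R] {p p' : Ideal R} [p.IsPrime] [p'.IsPrime] (h : p = p')
    (hd : (2 : ℕ∞) ≤ LocCoh.depth (Localization.AtPrime p) (Localization.AtPrime p)) :
    (2 : ℕ∞) ≤ LocCoh.depth (Localization.AtPrime p') (Localization.AtPrime p') := by
  subst h; exact hd

theorem regular_congr {R : Type u} [CommRing R] {p p' : Ideal R} [p.IsPrime] [p'.IsPrime] (h : p = p') (a : R)
    (hd : IsSMulRegular (Localization.AtPrime p) (algebraMap R (Localization.AtPrime p) a)) :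
    IsSMulRegular (Localization.AtPrime p') (algebraMap R (Localization.AtPrime p') a) := by
  subst h; exact hd

variable {R : Type u} [CommRing R] [IsNoetherianRing R]

/-- A polynomial with a coefficient off `p` is regular modulo a constant in every localisation inside
the locus over `p`. -/
theorem mem_of_mul_mem {σ : Type u} [Finite σ] (P : Ideal (MvPolynomial σ R)) [P.IsPrime]
    (p : Ideal R) [p.IsPrime] (hp : P.comap MvPolynomial.C = p) (a : R)
    {h : MvPolynomial σ R} (hh' : h ∉ p.map MvPolynomial.C) {u : MvPolynomial σ R}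
    (hwu : h * u ∈ Ideal.span {(MvPolynomial.C a : MvPolynomial σ R)}) :
    ∃ v ∉ P, v * u ∈ Ideal.span {(MvPolynomial.C a : MvPolynomial σ R)} := by
  classical
  let Rp := Localization.AtPrime p
  let ψ : MvPolynomial σ R →+* MvPolynomial σ Rp := MvPolynomial.map (algebraMap R Rp)
  have hψh : ψ h ∉ (maximalIdeal Rp).map MvPolynomial.C := by
    intro hm
    refine hh' (MvPolynomial.mem_map_C_iff.2 fun d => ?_)
    have h1 := MvPolynomial.mem_map_C_iff.1 hm d
    rw [MvPolynomial.coeff_map] at h1
    exact (IsLocalization.AtPrime.to_map_mem_maximal_iff Rp p _).1 h1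
  have hψ : ψ u ∈ (Ideal.span {algebraMap R Rp a}).map MvPolynomial.C := by
    refine mem_map_C_of_mul hψh ?_
    rw [← map_mul, Ideal.map_span, Set.image_singleton, ← MvPolynomial.map_C (algebraMap R Rp)]
    obtain ⟨c, hc⟩ := Ideal.mem_span_singleton'.1 hwu
    rw [← hc, map_mul]
    exact Ideal.mul_mem_left _ _ (Ideal.mem_span_singleton_self _)
  have hcoef : ∀ d, ∃ s ∉ p, s * MvPolynomial.coeff d u ∈ Ideal.span {a} := fun d => by
    have h1 := MvPolynomial.mem_map_C_iff.1 hψ d
    rw [MvPolynomial.coeff_map, ← Set.image_singleton, ← Ideal.map_span,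
      IsLocalization.algebraMap_mem_map_algebraMap_iff p.primeCompl] at h1
    exact h1
  choose sd hsd hsd' using hcoef
  let s₀ := ∏ d ∈ u.support, sd d
  have hs₀ : s₀ ∉ p := fun hm => by
    obtain ⟨d, -, hd⟩ := Ideal.IsPrime.prod_mem_iff.1 hm
    exact hsd d hd
  refine ⟨MvPolynomial.C s₀, fun hm => hs₀ (hp.le hm), ?_⟩
  rw [← Set.image_singleton, ← Ideal.map_span, MvPolynomial.mem_map_C_iff]
  intro d
  rw [MvPolynomial.coeff_C_mul]
  by_cases hd : d ∈ u.support
  · obtain ⟨t, ht⟩ := Finset.dvd_prod_of_mem sd hd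
    rw [show s₀ = sd d * t from ht, mul_right_comm]
    exact Ideal.mul_mem_right _ _ (hsd' d)
  · rw [MvPolynomial.notMem_support_iff.1 hd, mul_zero]
    exact zero_mem _

theorem isWeaklyRegular_pair {L : Type u} [CommRing L] (a b : L) (ha : IsSMulRegular L a)
    (hb : ∀ x, b * x ∈ Ideal.span {a} → x ∈ Ideal.span {a}) : RingTheory.Sequence.IsWeaklyRegular L [a, b] := by
  have hK : ∀ z : L, z ∈ Ideal.span {a} ↔ z ∈ a • (⊤ : Submodule L L) := fun z => by
    simp only [Ideal.mem_span_singleton', Submodule.mem_smul_pointwise_iff_exists, Submodule.mem_top, true_and]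
    exact exists_congr fun c => by rw [smul_eq_mul, mul_comm]
  rw [RingTheory.Sequence.isWeaklyRegular_cons_iff, RingTheory.Sequence.isWeaklyRegular_singleton_iff,
    isSMulRegular_iff_right_eq_zero_of_smul (r := b)]
  refine ⟨ha, fun y hy => ?_⟩
  obtain ⟨x, rfl⟩ := Submodule.Quotient.mk_surjective _ y
  rw [← Submodule.Quotient.mk_smul, Submodule.Quotient.mk_eq_zero, ← hK, smul_eq_mul] at hy
  rw [Submodule.Quotient.mk_eq_zero, ← hK]
  exact hb x hy

theorem regular_modulo_localization {T L : Type u} [CommRing T] [CommRing L] [Algebra T L] (P : Ideal T) [P.IsPrime]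
    [IsLocalization.AtPrime L P] (c h : T)
    (hreg : ∀ u, h * u ∈ Ideal.span {c} → ∃ v ∉ P, v * u ∈ Ideal.span {c}) :
    ∀ x, algebraMap T L h * x ∈ Ideal.span {algebraMap T L c} → x ∈ Ideal.span {algebraMap T L c} := by
  intro x hx
  rw [← Set.image_singleton, ← Ideal.map_span] at hx ⊢
  obtain ⟨u, s, rfl⟩ := IsLocalization.exists_mk'_eq P.primeCompl x
  have hu : algebraMap T L (h * u) ∈ (Ideal.span {c}).map (algebraMap T L) := by
    have h1 := Ideal.mul_mem_right (algebraMap T L (s : T)) _ hx
    rwa [mul_assoc, IsLocalization.mk'_spec, ← map_mul] at h1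
  rw [IsLocalization.algebraMap_mem_map_algebraMap_iff P.primeCompl] at hu
  obtain ⟨w, hw, hwu⟩ := hu
  rw [mul_left_comm] at hwu
  obtain ⟨v, hv, hvu⟩ := hreg _ hwu
  rw [IsLocalization.mk'_mem_map_algebraMap_iff P.primeCompl]
  refine ⟨v * w, fun hm => (‹P.IsPrime›.mem_or_mem hm).elim hv hw, ?_⟩
  rwa [mul_assoc]

theorem regular_localization_of_flat {R T : Type u} [CommRing R] [CommRing T] [Algebra R T] [Module.Flat R T]
    (p : Ideal R) [p.IsPrime] (P : Ideal T) [P.IsPrime] [P.LiesOver p] (a : R)
    (hreg : IsSMulRegular (Localization.AtPrime p) (algebraMap R (Localization.AtPrime p) a)) :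
    IsSMulRegular (Localization.AtPrime P) (algebraMap T (Localization.AtPrime P) (algebraMap R T a)) := by
  letI : Algebra (Localization.AtPrime p) (Localization.AtPrime P) := Localization.AtPrime.algebraOfLiesOver p P
  have h1 := IsSMulRegular.of_flat (S := Localization.AtPrime P) hreg
  rwa [show algebraMap (Localization.AtPrime p) (Localization.AtPrime P) (algebraMap R (Localization.AtPrime p) a) =
    algebraMap T (Localization.AtPrime P) (algebraMap R T a) from Localization.localRingHom_to_map p P _ _ a] at h1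

/-- Depth two of a localisation of a polynomial ring at a prime off the zero section of the fibre. -/
theorem two_le_depth_mvPolynomial {σ : Type u} [Finite σ] (P : Ideal (MvPolynomial σ R)) [P.IsPrime]
    {a : R} (ha : MvPolynomial.C a ∈ P)
    (hreg : IsSMulRegular (Localization.AtPrime (P.comap MvPolynomial.C))
      (algebraMap R (Localization.AtPrime (P.comap MvPolynomial.C)) a))
    {h : MvPolynomial σ R} (hh : h ∈ P) (hh' : h ∉ (P.comap MvPolynomial.C).map MvPolynomial.C) :
    (2 : ℕ∞) ≤ LocCoh.depth (Localization.AtPrime P) (Localization.AtPrime P) := by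
  haveI : P.LiesOver (P.comap MvPolynomial.C) := ⟨rfl⟩
  haveI : Module.Flat R (MvPolynomial σ R) := Module.Flat.of_free
  exact two_le_depth_of_pair ((IsLocalization.AtPrime.to_map_mem_maximal_iff _ P _).2 ha)
    ((IsLocalization.AtPrime.to_map_mem_maximal_iff _ P _).2 hh)
    (isWeaklyRegular_pair _ _ (regular_localization_of_flat (P.comap MvPolynomial.C) P a hreg)
      (regular_modulo_localization P _ h fun u hu => mem_of_mul_mem P _ rfl a hh' hu))

variable {S : Type u} [CommRing S] [Algebra R S]

/-- The common part of the two purity statements at non-generic points of smooth algebras. -/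
theorem exists_coordinates [Algebra.Smooth R S] (P : Ideal S) [P.IsPrime] :
    ∃ (κ : Type u) (_ : Finite κ) (b : S) (_ : Algebra (MvPolynomial κ R) (Localization.Away b)),
      b ∉ P ∧ IsScalarTower R (MvPolynomial κ R) (Localization.Away b) ∧
        Algebra.Etale (MvPolynomial κ R) (Localization.Away b) := by
  obtain ⟨κ, hκ, c, b, -, hb, he⟩ := SmoothSlice.exists_etale_coords (A := R) P Set.univ
    fun D hD => Derivation.ext fun x => hD x trivial
  letI alg : Algebra (MvPolynomial κ R) (Localization.Away b) :=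
    ((algebraMap S (Localization.Away b)).comp (MvPolynomial.aeval (R := R) c).toRingHom).toAlgebra
  refine ⟨κ, hκ, b, alg, hb, IsScalarTower.of_algebraMap_eq fun x => ?_, RingHom.etale_algebraMap.1 he⟩
  show algebraMap R (Localization.Away b) x =
    algebraMap S (Localization.Away b) (MvPolynomial.aeval c (algebraMap R (MvPolynomial κ R) x))
  rw [AlgHom.commutes, ← IsScalarTower.algebraMap_apply]

/-- Purity at non-generic points of etale algebras over affine space. -/
theorem purityHolds_of_etale_mvPolynomial {κ : Type u} [Finite κ] {C' : Type u} [CommRing C'] [Algebra R C']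
    [Algebra (MvPolynomial κ R) C'] [IsScalarTower R (MvPolynomial κ R) C'] [Algebra.Etale (MvPolynomial κ R) C']
    (P q : Ideal C') [P.IsPrime] [q.IsPrime] (hqP : q < P)
    (hq : q.comap (algebraMap R C') = P.comap (algebraMap R C'))
    (H : (2 : ℕ∞) ≤ LocCoh.depth (Localization.AtPrime (P.comap (algebraMap R C')))
        (Localization.AtPrime (P.comap (algebraMap R C'))) ∨
      (∃ a ∈ P.comap (algebraMap R C'), IsSMulRegular (Localization.AtPrime (P.comap (algebraMap R C')))
        (algebraMap R (Localization.AtPrime (P.comap (algebraMap R C'))) a)) ∧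
      ∃ q₀ : Ideal C', q₀.IsPrime ∧ q₀ < q ∧ q₀.comap (algebraMap R C') = P.comap (algebraMap R C')) :
    IsPureDeep (Localization.AtPrime P) := by
  classical
  let T := MvPolynomial κ R
  let Q := P.comap (algebraMap T C')
  let p := P.comap (algebraMap R C')
  have hpQ : ∀ (q' : Ideal C'), (q'.comap (algebraMap T C')).comap (MvPolynomial.C : R →+* T) =
      q'.comap (algebraMap R C') := fun q' => by
    rw [Ideal.comap_comap]
    exact congrArg (fun φ => Ideal.comap φ q') (IsScalarTower.algebraMap_eq R T C').symm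
  have hQ : ¬ Q ≤ (Q.comap MvPolynomial.C).map MvPolynomial.C := by
    intro hle
    refine hqP.ne (etale_incomparable (T := T) hqP.le (le_antisymm (Ideal.comap_mono hqP.le) ?_))
    refine hle.trans ?_
    rw [hpQ, ← hq, ← hpQ, Ideal.map_le_iff_le_comap]
  obtain ⟨i, f, j, hfQ, hj⟩ := exists_variable Q hQ
  let T' := MvPolynomial {x // x ≠ i} R
  let e : MvPolynomial κ R ≃ₐ[R] Polynomial T' := splitVar i
  letI : Algebra (Polynomial T') C' := ((algebraMap T C').comp e.symm.toRingEquiv.toRingHom).toAlgebra
  letI : Algebra T' C' := ((algebraMap (Polynomial T') C').comp Polynomial.C).toAlgebra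
  haveI : IsScalarTower T' (Polynomial T') C' := IsScalarTower.of_algebraMap_eq fun _ => rfl
  haveI : Algebra.Etale (Polynomial T') C' := RingHom.etale_algebraMap.1
    (RingHom.Etale.stableUnderComposition _ _
      (RingHom.Etale.of_bijective (f := e.symm.toRingEquiv.toRingHom) e.symm.bijective)
      (RingHom.etale_algebraMap.2 inferInstance))
  have hfe : algebraMap (Polynomial T') C' (e f) ∈ P := by
    show algebraMap T C' (e.symm (e f)) ∈ P
    rw [e.symm_apply_apply]
    exact hfQ
  have hje : algebraMap T' C' ((e f).coeff j) ∉ P := hj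
  refine purityHolds_of_etale_polynomial P ?_ hfe hje
  let p' := P.comap (algebraMap T' C')
  have hp' : p'.comap (MvPolynomial.C : R →+* T') = p := by
    rw [Ideal.comap_comap]
    refine congrArg (fun φ => Ideal.comap φ P) (RingHom.ext fun x => ?_)
    show algebraMap T C' (e.symm (Polynomial.C (MvPolynomial.C x))) = _
    rw [show (Polynomial.C (MvPolynomial.C x) : Polynomial T') = algebraMap R (Polynomial T') x from rfl,
      AlgEquiv.commutes, ← IsScalarTower.algebraMap_apply]
  rcases H with hd | ⟨⟨a, ha, hreg⟩, q₀, hq₀p, hq₀q, hq₀⟩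
  · haveI : p'.LiesOver p := ⟨hp'.symm⟩
    letI : Algebra (Localization.AtPrime p) (Localization.AtPrime p') := Localization.AtPrime.algebraOfLiesOver p p'
    haveI : IsLocalHom (algebraMap (Localization.AtPrime p) (Localization.AtPrime p')) :=
      Localization.isLocalHom_localRingHom p p' _ Ideal.LiesOver.over
    haveI : IsNoetherianRing (Localization.AtPrime p) := IsLocalization.isNoetherianRing p.primeCompl _ inferInstance
    exact two_le_depth_of_flat hd
  have hlt : ¬ p' ≤ (p'.comap MvPolynomial.C).map MvPolynomial.C := by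
    intro hle
    haveI := hq₀p
    let Qf := fun q' : Ideal C' => q'.comap (algebraMap (Polynomial T') C')
    have hQf : ∀ q' : Ideal C', (Qf q').comap Polynomial.C = q'.comap (algebraMap T' C') :=
      fun q' => by rw [Ideal.comap_comap]; rfl
    have hp'' : ∀ q' : Ideal C', q' ≤ P → q'.comap (algebraMap R C') = p →
        (Qf q').comap Polynomial.C = p' := by
      intro q' hq' hqp
      rw [hQf]
      refine le_antisymm (Ideal.comap_mono hq') (hle.trans ?_)
      rw [hp', ← hqp, Ideal.map_le_iff_le_comap, Ideal.comap_comap]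
      refine le_of_eq (congrArg (fun φ => Ideal.comap φ q') (RingHom.ext fun x => ?_))
      show _ = algebraMap T C' (e.symm (Polynomial.C (MvPolynomial.C x)))
      rw [show (Polynomial.C (MvPolynomial.C x) : Polynomial T') = algebraMap R (Polynomial T') x from rfl,
        AlgEquiv.commutes, ← IsScalarTower.algebraMap_apply]
    have hlt0 : ¬ Qf q ≤ Qf q₀ := fun h =>
      hq₀q.ne (etale_incomparable (T := Polynomial T') hq₀q.le (le_antisymm (Ideal.comap_mono hq₀q.le) h))
    obtain ⟨f₁, hf₁, hf₁'⟩ := SetLike.not_le_iff_exists.1 hlt0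
    obtain ⟨k, hk⟩ : ∃ k, f₁.coeff k ∉ p' := by
      by_contra hc
      push Not at hc
      refine hf₁' ?_
      have hle' : p'.map Polynomial.C ≤ Qf q₀ := by
        rw [Ideal.map_le_iff_le_comap, hp'' q₀ (hq₀q.le.trans hqP.le) hq₀]
      exact hle' (Ideal.mem_map_C_iff.2 hc)
    have hk' : Polynomial.C (f₁.coeff k) ∉ Qf q := fun h => hk ((hp'' q hqP.le hq).le h)
    exact hqP.ne (etale_incomparable (T := Polynomial T') hqP.le (le_antisymm (Ideal.comap_mono hqP.le)
      (line_incomparable (Q₁ := Qf q) (Q₂ := Qf P) (Ideal.comap_mono hqP.le)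
        ((hp'' q hqP.le hq).trans (hp'' P le_rfl rfl).symm) hf₁ hk')))
  obtain ⟨h, hh, hh'⟩ := SetLike.not_le_iff_exists.1 hlt
  have hpe : p'.comap (MvPolynomial.C : R →+* T') = p := hp'
  have haP : MvPolynomial.C a ∈ p' := hpe.ge ha
  exact two_le_depth_mvPolynomial p' haP (regular_congr hp'.symm a hreg) hh hh'

/-- Purity at non-generic points of smooth algebras. -/
theorem purityHolds_of_smooth [Algebra.Smooth R S] (P q : Ideal S) [P.IsPrime] [q.IsPrime] (hqP : q < P)
    (hq : q.comap (algebraMap R S) = P.comap (algebraMap R S))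
    (H : (2 : ℕ∞) ≤ LocCoh.depth (Localization.AtPrime (P.comap (algebraMap R S)))
        (Localization.AtPrime (P.comap (algebraMap R S))) ∨
      (∃ a ∈ P.comap (algebraMap R S), IsSMulRegular (Localization.AtPrime (P.comap (algebraMap R S)))
        (algebraMap R (Localization.AtPrime (P.comap (algebraMap R S))) a)) ∧
      ∃ q₀ : Ideal S, q₀.IsPrime ∧ q₀ < q ∧ q₀.comap (algebraMap R S) = P.comap (algebraMap R S)) :
    IsPureDeep (Localization.AtPrime P) := by
  obtain ⟨κ, _, b, _, hb, _, _⟩ := exists_coordinates (R := R) P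
  let L := Localization.Away b
  let ext : Ideal S → Ideal L := fun I => I.map (algebraMap S L)
  have hdisj : ∀ I : Ideal S, I ≤ P → Disjoint (Submonoid.powers b : Set S) I := fun I hI =>
    Set.disjoint_left.2 fun x hx hxI => by
      obtain ⟨n, rfl⟩ := hx
      exact hb (‹P.IsPrime›.mem_of_pow_mem n (hI hxI))
  have hpr : ∀ (I : Ideal S) [I.IsPrime], I ≤ P → (ext I).IsPrime := fun I _ hI =>
    IsLocalization.isPrime_of_isPrime_disjoint (Submonoid.powers b) L I inferInstance (hdisj I hI)
  have hcm : ∀ (I : Ideal S) [I.IsPrime], I ≤ P → (ext I).comap (algebraMap S L) = I := fun I _ hI =>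
    IsLocalization.comap_map_of_isPrime_disjoint (Submonoid.powers b) L inferInstance (hdisj I hI)
  have hcR : ∀ (I : Ideal S) [I.IsPrime], I ≤ P → (ext I).comap (algebraMap R L) = I.comap (algebraMap R S) :=
    fun I _ hI => by rw [IsScalarTower.algebraMap_eq R S L, ← Ideal.comap_comap, hcm I hI]
  have hlt : ∀ (I J : Ideal S) [I.IsPrime] [J.IsPrime], J ≤ P → I < J → ext I < ext J := fun I J _ _ hJ hIJ =>
    lt_of_le_of_ne (Ideal.map_mono hIJ.le) fun h => hIJ.ne (by rw [← hcm I (hIJ.le.trans hJ), h, hcm J hJ])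
  haveI := hpr P le_rfl
  haveI := hpr q hqP.le
  haveI : IsLocalization.AtPrime (Localization.AtPrime (ext P)) P := by
    have h := IsLocalization.isLocalization_isLocalization_atPrime_isLocalization (Submonoid.powers b)
      (S := L) (Localization.AtPrime (ext P)) (ext P)
    simpa only [hcm P le_rfl] using h
  refine IsPureDeep.of_ringEquiv (IsLocalization.algEquiv P.primeCompl
    (Localization.AtPrime (ext P)) (Localization.AtPrime P)).toRingEquiv ?_
  refine purityHolds_of_etale_mvPolynomial (κ := κ) (ext P) (ext q) (hlt q P le_rfl hqP)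
    (by rw [hcR q hqP.le, hcR P le_rfl, hq]) ?_
  rcases H with hd | ⟨⟨a, ha, hreg⟩, q₀, hq₀p, hq₀q, hq₀⟩
  · left
    exact depth_congr (hcR P le_rfl).symm hd
  · haveI := hq₀p
    right
    refine ⟨⟨a, (hcR P le_rfl).ge ha, ?_⟩, ext q₀, hpr q₀ (hq₀q.le.trans hqP.le), hlt q₀ q hqP.le hq₀q, ?_⟩
    · exact regular_congr (hcR P le_rfl).symm a hreg
    · rw [hcR q₀ (hq₀q.le.trans hqP.le), hcR P le_rfl, hq₀]

end Groth.Pi1Formal
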