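import Groth.Agent.Pi1Formal.Transport
import Groth.Agent.Calg2.Inflate
import Groth.Agent.Calg4.CompletionPowerSeries
import Mathlib

/-!
# Purity for formally smooth algebras with finite residue extension over a base of depth two
-/

universe u

set_option autoImplicit false
set_option backward.isDefEq.respectTransparency false
set_option linter.style.haveILetI false

open IsLocalRing TensorProduct Polynomial

namespace Groth.Pi1Formal

variable {A : Type u} [CommRing A]

/-- Adic formal smoothness passes to localised base changes. -/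
theorem isAdicFormallySmooth_baseChange {A' B : Type u} [CommRing A'] [Algebra A A'] [CommRing B] [Algebra A B]
    [IsLocalRing B] (hfs : CAlgX.IsAdicFormallySmooth A B (maximalIdeal B))
    (q : Ideal (A' ⊗[A] B)) [q.IsPrime]
    (hq : q.comap (Algebra.TensorProduct.includeRight (R := A) (A := A') (B := B)).toRingHom = maximalIdeal B) :
    CAlgX.IsAdicFormallySmooth A' (Localization.AtPrime q) (maximalIdeal (Localization.AtPrime q)) := by
  intro C _ _ J hJ ψ hψ
  obtain ⟨k, hk⟩ := hψ
  letI : Algebra A C := ((algebraMap A' C).comp (algebraMap A A')).toAlgebra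
  haveI : IsScalarTower A A' C := IsScalarTower.of_algebraMap_eq fun _ => rfl
  let L := Localization.AtPrime q
  let ι : (A' ⊗[A] B) →ₐ[A'] L := IsScalarTower.toAlgHom A' (A' ⊗[A] B) L
  let inB : B →ₐ[A] A' ⊗[A] B := Algebra.TensorProduct.includeRight
  let ψ₀ : B →ₐ[A] C ⧸ J := ((ψ.comp ι).restrictScalars A).comp inB
  have hψ₀ : ∀ x ∈ maximalIdeal B ^ k, ψ₀ x = 0 := fun x hx => by
    refine hk _ ?_
    have h1 : (maximalIdeal B).map (ι.toRingHom.comp inB.toRingHom) ≤ maximalIdeal L := by
      rw [← Ideal.map_map, Ideal.map_le_iff_le_comap, Ideal.map_le_iff_le_comap, ← hq]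
      intro y hy
      exact (IsLocalization.AtPrime.to_map_mem_maximal_iff L q _).2 hy
    refine Ideal.pow_right_mono h1 k ?_
    rw [← Ideal.map_pow]
    exact Ideal.mem_map_of_mem _ hx
  obtain ⟨χ, hχ⟩ := hfs C J hJ ψ₀ ⟨k, hψ₀⟩
  let f : A' ⊗[A] B →ₐ[A'] C := Algebra.TensorProduct.lift (Algebra.ofId A' C) χ fun _ _ => Commute.all _ _
  have hf : (Ideal.Quotient.mkₐ A' J).comp f = ψ.comp ι := by
    refine Algebra.TensorProduct.ext (Subsingleton.elim _ _) ?_
    refine AlgHom.ext fun b => ?_
    show Ideal.Quotient.mk J (f (1 ⊗ₜ b)) = ψ (ι (1 ⊗ₜ b))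
    rw [Algebra.TensorProduct.lift_tmul, map_one, one_mul]
    exact AlgHom.congr_fun hχ b
  have hu : ∀ y : q.primeCompl, IsUnit (f y) := fun y => by
    refine (IsNilpotent.isUnit_quotient_mk_iff ⟨2, hJ⟩).1 ?_
    rw [show Ideal.Quotient.mk J (f y) = ψ (ι y) from AlgHom.congr_fun hf y]
    exact (IsLocalization.map_units L y).map ψ
  refine ⟨IsLocalization.liftAlgHom (M := q.primeCompl) (S := L) hu, ?_⟩
  refine AlgHom.coe_ringHom_injective (IsLocalization.ringHom_ext q.primeCompl (RingHom.ext fun y => ?_))
  show Ideal.Quotient.mk J (IsLocalization.liftAlgHom (M := q.primeCompl) (S := L) hu (algebraMap _ L y)) = _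
  rw [IsLocalization.liftAlgHom_apply, IsLocalization.lift_eq]
  exact AlgHom.congr_fun hf y

variable [IsLocalRing A] [IsNoetherianRing A]

/-- Purity for formally smooth algebras with trivial residue extension. -/
theorem purityHolds_of_trivialResidue (hA : (2 : ℕ∞) ≤ LocCoh.depth A A) (B : Type u) [CommRing B]
    [IsLocalRing B] [IsNoetherianRing B] [Algebra A B] [IsLocalHom (algebraMap A B)] [Module.Flat A B]
    (hfs : CAlgX.IsAdicFormallySmooth A B (maximalIdeal B))
    (hres : ∀ b : B, ∃ a : A, b - algebraMap A B a ∈ maximalIdeal B)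
    (hdim : maximalIdeal B ≠ (maximalIdeal A).map (algebraMap A B)) :
    FEt.PurityHolds B := by
  obtain ⟨n, e, he⟩ := (Calg4.CompletionPS.isAdicFormallySmooth_iff_powerSeries A B hres).1 hfs
  let Ah := AdicCompletion (maximalIdeal A) A
  let Bh := AdicCompletion (maximalIdeal B) B
  haveI : IsNoetherianRing Ah := Groth.Calg1.isNoetherianRing_adicCompletion _ (IsNoetherian.noetherian _)
  haveI : IsNoetherianRing Bh := Groth.Calg1.isNoetherianRing_adicCompletion _ (IsNoetherian.noetherian _)
  haveI := AdicCompletion.flat_of_isNoetherian (maximalIdeal A)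
  haveI : IsLocalHom (algebraMap A Ah) :=
    ((IsLocalRing.local_hom_TFAE _).out 0 2).mpr (le_of_eq (AdicCompletion.maximalIdeal_eq_map).symm)
  have hAh : (2 : ℕ∞) ≤ LocCoh.depth Ah Ah := two_le_depth_of_flat hA
  have hn : 1 ≤ n := by
    by_contra hn
    obtain rfl : n = 0 := by omega
    apply hdim
    haveI := AdicCompletion.flat_of_isNoetherian (maximalIdeal B)
    haveI : IsLocalHom (algebraMap B Bh) :=
      ((IsLocalRing.local_hom_TFAE _).out 0 2).mpr (le_of_eq (AdicCompletion.maximalIdeal_eq_map).symm)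
    haveI : Module.FaithfullyFlat B Bh := Module.FaithfullyFlat.of_flat_of_isLocalHom
    have h1 : maximalIdeal Bh ≤ ((maximalIdeal A).map (algebraMap A B)).map (algebraMap B Bh) := by
      intro x hx
      let y := MvPowerSeries.constantCoeff (e x)
      have hy : y ∈ maximalIdeal Ah := fun hu =>
        hx ((isUnit_map_iff e x).1 (MvPowerSeries.isUnit_iff_constantCoeff.2 hu))
      have hC : e x = MvPowerSeries.C y := by
        ext l
        rw [Subsingleton.elim l 0, MvPowerSeries.coeff_zero_eq_constantCoeff_apply,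
          MvPowerSeries.coeff_zero_eq_constantCoeff_apply, MvPowerSeries.constantCoeff_C]
      rw [show x = (e.symm.toRingHom.comp MvPowerSeries.C) y by
        show x = e.symm (MvPowerSeries.C y)
        rw [← hC, e.symm_apply_apply]]
      have h2 : (maximalIdeal Ah).map (e.symm.toRingHom.comp MvPowerSeries.C) ≤
          ((maximalIdeal A).map (algebraMap A B)).map (algebraMap B Bh) := by
        rw [AdicCompletion.maximalIdeal_eq_map, Ideal.map_map, Ideal.map_le_iff_le_comap]
        intro a ha
        show e.symm (MvPowerSeries.C (algebraMap A Ah a)) ∈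
          ((maximalIdeal A).map (algebraMap A B)).map (algebraMap B Bh)
        rw [← he, e.symm_apply_apply]
        exact Ideal.mem_map_of_mem _ (Ideal.mem_map_of_mem _ ha)
      exact h2 (Ideal.mem_map_of_mem _ hy)
    refine le_antisymm ?_ ?_
    · intro b hb
      have h3 : algebraMap B Bh b ∈ ((maximalIdeal A).map (algebraMap A B)).map (algebraMap B Bh) :=
        h1 (map_nonunit (algebraMap B Bh) b hb)
      rw [← Ideal.comap_map_eq_self_of_faithfullyFlat (B := Bh) ((maximalIdeal A).map (algebraMap A B))]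
      exact h3
    · exact ((IsLocalRing.local_hom_TFAE (algebraMap A B)).out 0 2).mp ‹_›
  refine purityHolds_of_completion (two_le_depth_of_flat hA) (purityHolds_of_ringEquiv e.symm ?_)
  haveI : Nonempty (Fin n) := ⟨⟨0, hn⟩⟩
  obtain ⟨Q, hQ, hQc⟩ := exists_generic_prime (A := Ah) (σ := Fin n)
  refine restrict_essSurj hAh _ (fun q hq (h : q = closedPoint _) => hq ?_) Q hQ hQc
  subst h
  ext x
  show algebraMap Ah (MvPowerSeries (Fin n) Ah) x ∈ maximalIdeal _ ↔ _
  rw [IsLocalRing.mem_maximalIdeal, IsLocalRing.mem_maximalIdeal, mem_nonunits_iff, mem_nonunits_iff,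
    MvPowerSeries.isUnit_iff_constantCoeff, MvPowerSeries.algebraMap_apply, MvPowerSeries.constantCoeff_C]
  simp

/-- Purity for formally smooth algebras with finite residue extension. -/
theorem purityHolds_of_finiteResidue (hA : (2 : ℕ∞) ≤ LocCoh.depth A A) (B : Type u) [CommRing B]
    [IsLocalRing B] [IsNoetherianRing B] [Algebra A B] [IsLocalHom (algebraMap A B)] [Module.Flat A B]
    (hfs : CAlgX.IsAdicFormallySmooth A B (maximalIdeal B))
    (hfin : (ResidueField.map (algebraMap A B)).Finite)
    (hdim : maximalIdeal B ≠ (maximalIdeal A).map (algebraMap A B)) :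
    FEt.PurityHolds B := by
  let k := ResidueField A
  let l := ResidueField B
  haveI : Module.Finite k l := RingHom.finite_algebraMap.1 hfin
  haveI : IsAlgClosure k (AlgebraicClosure l) := ⟨inferInstance, Algebra.IsAlgebraic.trans k l _⟩
  haveI : Normal k (AlgebraicClosure l) := IsAlgClosure.normal k _
  let K := IntermediateField.normalClosure k l (AlgebraicClosure l)
  haveI : Normal k K := normalClosure.normal k l (AlgebraicClosure l)
  obtain ⟨A', _, _, hA'n, hA'l, hA'loc, hA'flat, hA'fin, e, he⟩ := Calg2.exists_inflation_algebraic A K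
  haveI := hA'n
  haveI := hA'l
  haveI := hA'loc
  haveI := hA'flat
  haveI : Module.Finite A A' := hA'fin inferInstance
  haveI : ((maximalIdeal A).map (algebraMap A A')).IsMaximal :=
    Ideal.Quotient.maximal_of_isField _ (MulEquiv.isField (Field.toIsField K) e.toMulEquiv)
  have hmA' : (maximalIdeal A).map (algebraMap A A') = maximalIdeal A' := eq_maximalIdeal inferInstance
  letI : Algebra B (A' ⊗[A] B) := Algebra.TensorProduct.rightAlgebra
  let eR : B ⊗[A] A' ≃ₐ[B] A' ⊗[A] B := Algebra.TensorProduct.commRight A B A'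
  haveI : Module.Flat B (A' ⊗[A] B) := Module.Flat.of_linearEquiv eR.symm.toLinearEquiv
  haveI : Module.Finite B (A' ⊗[A] B) := Module.Finite.equiv eR.toLinearEquiv
  haveI : IsNoetherianRing (A' ⊗[A] B) := IsNoetherianRing.of_finite B _
  haveI : Module.FaithfullyFlat A A' := Module.FaithfullyFlat.of_flat_of_isLocalHom
  haveI : Module.FaithfullyFlat B (B ⊗[A] A') := inferInstance
  haveI : Module.FaithfullyFlat B (A' ⊗[A] B) := Module.FaithfullyFlat.of_linearEquiv B (B ⊗[A] A') eR.symm.toLinearEquiv
  have hdepth : (2 : ℕ∞) ≤ LocCoh.depth A' A' := two_le_depth_of_flat hA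
  refine purityHolds_of_flat (B' := A' ⊗[A] B) (two_le_depth_of_flat hA) fun q hqp hq => ?_
  have hAB : algebraMap A (A' ⊗[A] B) = (algebraMap B (A' ⊗[A] B)).comp (algebraMap A B) :=
    RingHom.ext fun a => ((Algebra.TensorProduct.includeRight : B →ₐ[A] A' ⊗[A] B).commutes a).symm
  -- the prime over `A'`
  have hqA' : maximalIdeal A' ≤ q.comap (algebraMap A' (A' ⊗[A] B)) := by
    rw [← hmA', Ideal.map_le_iff_le_comap, Ideal.comap_comap, ← IsScalarTower.algebraMap_eq, hAB,
      ← Ideal.comap_comap, hq]
    exact (((IsLocalRing.local_hom_TFAE (algebraMap A B)).out 0 2).mp ‹_› |> Ideal.map_le_iff_le_comap.1)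
  let L := Localization.AtPrime q
  haveI : IsLocalHom (algebraMap A' L) := ((IsLocalRing.local_hom_TFAE _).out 0 2).mpr (by
    rw [Ideal.map_le_iff_le_comap]
    intro x hx
    rw [Ideal.mem_comap, IsScalarTower.algebraMap_apply A' (A' ⊗[A] B) L,
      IsLocalization.AtPrime.to_map_mem_maximal_iff L q]
    exact hqA' hx)
  haveI : Module.Flat A' L := Module.Flat.trans A' (A' ⊗[A] B) L
  refine purityHolds_of_trivialResidue hdepth L (isAdicFormallySmooth_baseChange hfs q hq) ?_ ?_
  · -- trivial residue extension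
    let F := FractionRing ((A' ⊗[A] B) ⧸ q)
    let π : A' ⊗[A] B →+* F := (algebraMap ((A' ⊗[A] B) ⧸ q) F).comp (Ideal.Quotient.mk q)
    have hπ : ∀ x, π x = 0 ↔ x ∈ q := fun x => by
      show algebraMap _ F (Ideal.Quotient.mk q x) = 0 ↔ _
      rw [map_eq_zero_iff _ (IsFractionRing.injective _ F), Ideal.Quotient.eq_zero_iff_mem]
    let θ : l →+* F := Ideal.Quotient.lift (maximalIdeal B) (π.comp (algebraMap B (A' ⊗[A] B)))
      fun b hb => (hπ _).2 (hq.ge hb)
    let ρ₀ : A' ⧸ (maximalIdeal A).map (algebraMap A A') →+* F :=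
      Ideal.Quotient.lift ((maximalIdeal A).map (algebraMap A A'))
      (π.comp (algebraMap A' (A' ⊗[A] B))) fun a ha => (hπ _).2 (hqA' (hmA' ▸ ha))
    let ρ : K →+* F := ρ₀.comp e.symm.toRingHom
    have hθρ : θ.comp (algebraMap k l) = ρ.comp (algebraMap k K) := by
      refine Ideal.Quotient.ringHom_ext (RingHom.ext fun a => ?_)
      show θ (IsLocalRing.residue B (algebraMap A B a)) = ρ (algebraMap k K (IsLocalRing.residue A a))
      rw [← he a]
      show π (algebraMap B _ (algebraMap A B a)) =
        ρ₀ (e.symm (e (Ideal.Quotient.mk _ (algebraMap A A' a))))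
      rw [e.symm_apply_apply]
      show π _ = π (algebraMap A' _ (algebraMap A A' a))
      rw [← IsScalarTower.algebraMap_apply A A' (A' ⊗[A] B), hAB]
      rfl
    have hl : ∀ x : l, ∃ a : A', π (algebraMap A' _ a) = θ x := by
      intro x
      let p := minpoly k x
      have hp : (p.map (algebraMap k K)).Splits := by
        have h := Normal.splits ‹Normal k K› (IsScalarTower.toAlgHom k l K x)
        rwa [minpoly.algHom_eq _ (algebraMap l K).injective] at h
      have hroot : ((p.map (algebraMap k K)).map ρ).IsRoot (θ x) := by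
        rw [Polynomial.map_map, ← hθρ, ← Polynomial.map_map, IsRoot.def, eval_map, Polynomial.eval₂_at_apply,
          eval_map, show Polynomial.eval₂ (algebraMap k l) x p = 0 from minpoly.aeval k x, map_zero]
      obtain ⟨y, hy⟩ := hp.mem_range_of_isRoot
        (Polynomial.map_ne_zero (minpoly.ne_zero (IsIntegral.of_finite k x))) hroot
      obtain ⟨a, ha⟩ := Ideal.Quotient.mk_surjective (e.symm y)
      refine ⟨a, ?_⟩
      rw [← hy]
      show π _ = ρ₀ (e.symm y)
      rw [← ha, Ideal.Quotient.lift_mk]
      rfl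
    have key : ∀ y : A' ⊗[A] B, ∃ a : A', π (algebraMap A' _ a) = π y := by
      intro y
      induction y with
      | zero => exact ⟨0, by simp⟩
      | add y z hy hz =>
        obtain ⟨a, ha⟩ := hy
        obtain ⟨a', ha'⟩ := hz
        exact ⟨a + a', by rw [map_add, map_add, map_add, ha, ha']⟩
      | tmul c b =>
        obtain ⟨a, ha⟩ := hl (IsLocalRing.residue B b)
        refine ⟨c * a, ?_⟩
        rw [map_mul, map_mul, ha]
        show π (algebraMap A' _ c) * π (algebraMap B _ b) = _
        rw [← map_mul]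
        congr 1
        show (c ⊗ₜ[A] (1 : B)) * ((1 : A') ⊗ₜ[A] b) = _
        rw [Algebra.TensorProduct.tmul_mul_tmul, mul_one, one_mul]
    intro z
    obtain ⟨y, s, rfl⟩ := IsLocalization.exists_mk'_eq q.primeCompl z
    obtain ⟨a, ha⟩ := key y
    obtain ⟨c, hc⟩ := key s
    have hcu : IsUnit c := by
      by_contra h
      exact s.2 ((hπ _).1 (hc.symm.trans ((hπ _).2 (hqA' h))))
    obtain ⟨w, hw⟩ := hcu
    refine ⟨a * ↑w⁻¹, ?_⟩
    have h1 : π (y - algebraMap A' _ (a * ↑w⁻¹) * s) = 0 := by
      rw [map_sub, map_mul, ← hc, ← map_mul, ← map_mul, ← hw, mul_assoc, Units.inv_mul, mul_one, ha, sub_self]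
    have h2 : IsLocalization.mk' L y s - algebraMap A' L (a * ↑w⁻¹) =
        IsLocalization.mk' L (y - algebraMap A' _ (a * ↑w⁻¹) * s) s := by
      rw [IsLocalization.eq_mk'_iff_mul_eq, sub_mul, IsLocalization.mk'_spec]
      simp only [map_sub, map_mul, IsScalarTower.algebraMap_apply A' (A' ⊗[A] B) L]
    rw [h2, IsLocalization.AtPrime.mk'_mem_maximal_iff L q]
    exact (hπ _).1 h1
  · -- positive relative dimension
    intro hmax
    apply hdim
    refine le_antisymm ?_ (((IsLocalRing.local_hom_TFAE (algebraMap A B)).out 0 2).mp ‹_›)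
    haveI : Module.Flat B L := Module.Flat.trans B (A' ⊗[A] B) L
    haveI : IsLocalHom (algebraMap B L) := ((IsLocalRing.local_hom_TFAE _).out 0 2).mpr (by
      rw [Ideal.map_le_iff_le_comap]
      intro x hx
      rw [Ideal.mem_comap, IsScalarTower.algebraMap_apply B (A' ⊗[A] B) L,
        IsLocalization.AtPrime.to_map_mem_maximal_iff L q]
      exact hq.ge hx)
    haveI : Module.FaithfullyFlat B L := Module.FaithfullyFlat.of_flat_of_isLocalHom
    have hBL : maximalIdeal L ≤ ((maximalIdeal A).map (algebraMap A B)).map (algebraMap B L) := by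
      rw [hmax, ← hmA', Ideal.map_map, Ideal.map_map]
      refine le_of_eq (congrArg (fun f => Ideal.map f _) (RingHom.ext fun a => ?_))
      show algebraMap A' L (algebraMap A A' a) = algebraMap B L (algebraMap A B a)
      rw [IsScalarTower.algebraMap_apply A' (A' ⊗[A] B) L, ← IsScalarTower.algebraMap_apply A A', hAB]
      rfl
    intro b hb
    rw [← Ideal.comap_map_eq_self_of_faithfullyFlat (B := L) ((maximalIdeal A).map (algebraMap A B))]
    exact hBL (map_nonunit (algebraMap B L) b hb)

end Groth.Pi1Formal
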