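import Groth.Agent.Pi1Formal.FibreCodim
import Groth.Agent.Limits.DescentStage
import Groth.Agent.S12073
import Mathlib

/-!
# Passing fibrewise codimension two purity to a limit of Noetherian bases
-/

universe u

set_option autoImplicit false
set_option backward.isDefEq.respectTransparency false
set_option backward.defeqAttrib.useBackward true
set_option linter.style.haveILetI false

open CategoryTheory CategoryTheory.Limits AlgebraicGeometry TopologicalSpace

namespace Groth.Pi1Formal

/-- Transport of the three conclusions along an open immersion onto the open. -/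
theorem bijective_appTop_and_essSurj_of_range {P X : Scheme.{u}} (u : P ⟶ X) [IsOpenImmersion u] (U : X.Opens)
    (hU : Set.range u = (U : Set X)) (h1 : Function.Bijective u.appTop) (h2 : (FEt.restrict u).EssSurj) :
    Function.Bijective U.ι.appTop ∧ (FEt.restrict U.ι).EssSurj := by
  let e := IsOpenImmersion.isoOfRangeEq u U.ι (by rw [hU, Scheme.Opens.range_ι])
  have he : e.inv ≫ u = U.ι := IsOpenImmersion.isoOfRangeEq_inv_fac _ _ _
  refine ⟨?_, ?_⟩
  · rw [← he, Scheme.Hom.comp_appTop]
    exact (ConcreteCategory.bijective_of_isIso e.inv.appTop).comp h1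
  · exact essSurj_of_square (𝟙 X) e.inv u U.ι (by rw [he, Category.comp_id]) h2

/-- Purity for the preimage of an open in a limit, given fibrewise codimension two at all stages. -/
theorem bijective_appTop_and_essSurj_of_stages {I : Type u} [SmallCategory I] [IsCofiltered I]
    {D : I ⥤ Scheme.{u}} {c : Cone D} (hc : IsLimit c) [∀ (i j : I) (m : i ⟶ j), IsAffineHom (D.map m)]
    [∀ i, AlgebraicGeometry.IsNoetherian (D.obj i)] {i₀ : I} {X₁ : Scheme.{u}} (f₁ : X₁ ⟶ D.obj i₀)
    [Smooth f₁] [QuasiCompact f₁] (U₁ : X₁.Opens)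
    (hcod : ∀ k : Over i₀, ∀ z : (pullback (D.map k.hom) f₁ : Scheme.{u}),
      pullback.snd (D.map k.hom) f₁ z ∉ U₁ → FibCodimTwo (pullback.fst (D.map k.hom) f₁) z) :
    Function.Bijective (pullback.snd (c.π.app i₀) f₁ ⁻¹ᵁ U₁).ι.appTop ∧
      (FEt.restrict (pullback.snd (c.π.app i₀) f₁ ⁻¹ᵁ U₁).ι).EssSurj := by
  let E := Groth.Limits.pullbackDiagram D i₀ f₁
  let cE := Groth.Limits.pullbackCone D i₀ f₁ c
  have hcE : IsLimit cE := Groth.Limits.isLimitPullbackCone D i₀ f₁ hc
  let t : E ⟶ (Functor.const (Over i₀)).obj X₁ := Groth.Limits.pullbackTrans D f₁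
  let τ : cE.pt ⟶ X₁ := pullback.snd (c.π.app i₀) f₁
  have hτ : ∀ k, cE.π.app k ≫ t.app k = τ := fun k => pullback.lift_snd _ _ _
  let V := Groth.Limits.bcDiagram t U₁.ι
  let cV := Groth.Limits.bcCone t U₁.ι cE τ hτ
  have hcV : IsLimit cV := Groth.Limits.isLimitBcCone t U₁.ι cE τ hτ hcE
  let tr := Groth.Limits.bcTrans t U₁.ι
  have hSm : ∀ k : Over i₀, Smooth (pullback.fst (D.map k.hom) f₁) :=
    fun k => MorphismProperty.pullback_fst _ _ inferInstance
  have hqc : ∀ k : Over i₀, QuasiCompact (pullback.fst (D.map k.hom) f₁) :=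
    fun k => MorphismProperty.pullback_fst _ _ inferInstance
  haveI : ∀ k : Over i₀, AlgebraicGeometry.IsNoetherian (E.obj k) := fun k => by
    haveI := hSm k
    haveI := hqc k
    haveI : IsLocallyNoetherian (pullback (D.map k.hom) f₁) :=
      LocallyOfFiniteType.isLocallyNoetherian (pullback.fst (D.map k.hom) f₁)
    haveI : CompactSpace (pullback (D.map k.hom) f₁ : Scheme.{u}) :=
      QuasiCompact.compactSpace_of_compactSpace (pullback.fst (D.map k.hom) f₁)
    show AlgebraicGeometry.IsNoetherian (pullback (D.map k.hom) f₁)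
    exact {}
  haveI : ∀ (i j : Over i₀) (m : i ⟶ j), IsAffineHom (E.map m) := fun i j m => inferInstance
  haveI : ∀ k, IsOpenImmersion (tr.app k) := fun k => by
    rw [Groth.Limits.bcTrans_app]
    infer_instance
  haveI : ∀ k, IsLocallyNoetherian (V.obj k) := fun k => isLocallyNoetherian_of_isOpenImmersion (tr.app k)
  haveI : ∀ k, CompactSpace (V.obj k) := fun k => by
    haveI := (tr.app k).isOpenEmbedding.isInducing.noetherianSpace
    exact TopologicalSpace.NoetherianSpace.compactSpace _
  haveI : ∀ (i j : Over i₀) (m : i ⟶ j), IsAffineHom (V.map m) := fun i j m =>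
    Groth.Limits.isAffineHom_bcDiagram_map t U₁.ι i j m
  -- the stages
  have hstage : ∀ k, Function.Bijective (tr.app k).appTop ∧ (FEt.restrict (tr.app k)).EssSurj := by
    intro k
    let O := (tr.app k).opensRange
    have hcodO : ∀ z, z ∉ O → FibCodimTwo (pullback.fst (D.map k.hom) f₁) z := fun z hz => hcod k z fun hzU => hz (by
      show z ∈ Set.range (pullback.snd U₁.ι (t.app k))
      refine (Set.ext_iff.1 (IsOpenImmersion.range_pullbackSnd U₁.ι (t.app k)) z).2 ?_
      show (t.app k) z ∈ Set.range U₁.ι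
      rw [Scheme.Opens.range_ι]
      exact hzU)
    haveI := hSm k
    have hbij := Pi1Depth.bijective_app_of_two_le_depth O fun z hz =>
      (isPureDeep_stalk_of_codim (pullback.fst (D.map k.hom) f₁) (hcodO z hz)).2
    have hess : (FEt.restrict O.ι).EssSurj := by
      haveI := isEquivalence_of_codim (pullback.fst (D.map k.hom) f₁) O hcodO
      infer_instance
    have hfac : (tr.app k).isoOpensRange.hom ≫ O.ι = tr.app k := (tr.app k).isoOpensRange_hom_ι
    refine ⟨?_, essSurj_of_square (𝟙 (E.obj k)) (tr.app k).isoOpensRange.hom O.ι (tr.app k)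
      (by rw [hfac, Category.comp_id]) hess⟩
    rw [← hfac, Scheme.Hom.comp_appTop]
    exact (ConcreteCategory.bijective_of_isIso (tr.app k).isoOpensRange.hom.appTop).comp (hbij ⊤)
  let u : cV.pt ⟶ cE.pt := pullback.snd U₁.ι τ
  haveI : IsOpenImmersion u := inferInstanceAs (IsOpenImmersion (pullback.snd U₁.ι τ))
  have hw : ∀ k, cV.π.app k ≫ tr.app k = u ≫ cE.π.app k :=
    fun k => (Groth.Limits.bcCone_w t U₁.ι cE τ hτ k).symm
  refine bijective_appTop_and_essSurj_of_range u _ ?_ ?_ ?_
  · show Set.range (pullback.snd U₁.ι τ) = _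
    rw [IsOpenImmersion.range_pullbackSnd]
    simp [τ]
    rfl
  · obtain ⟨hE⟩ := nonempty_isColimit_Γ_mapCocone E cE hcE
    obtain ⟨hV⟩ := nonempty_isColimit_Γ_mapCocone V cV hcV
    let α : E.op ⋙ Scheme.Γ ⟶ V.op ⋙ Scheme.Γ := Functor.whiskerRight (NatTrans.op tr) Scheme.Γ
    haveI : IsIso α := by
      haveI : ∀ k, IsIso (α.app k) := fun k =>
        (ConcreteCategory.isIso_iff_bijective _).2 (hstage k.unop).1
      exact NatIso.isIso_of_isIso_app α
    have e : u.appTop = (IsColimit.coconePointsIsoOfNatIso hE hV (asIso α)).hom := by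
      refine hE.hom_ext fun k => ?_
      rw [IsColimit.comp_coconePointsIsoOfNatIso_hom]
      show (cE.π.app k.unop).appTop ≫ u.appTop = (tr.app k.unop).appTop ≫ (cV.π.app k.unop).appTop
      rw [← Scheme.Hom.comp_appTop, ← Scheme.Hom.comp_appTop, hw]
    rw [e]
    exact ConcreteCategory.bijective_of_isIso _
  · refine ⟨fun W => ?_⟩
    obtain ⟨k, Wk, ⟨e⟩⟩ := (Groth.Agent.S12073.result V cV hcV).1 W
    haveI := (hstage k).2
    let Y := (FEt.restrict (tr.app k)).objPreimage Wk
    exact ⟨(FEt.restrict (cE.π.app k)).obj Y, ⟨((Pi1FEt.restrictCompIso u (cE.π.app k)).app Y).symm ≪≫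
      (Pi1FEt.restrictCongr (hw k).symm).app Y ≪≫ (Pi1FEt.restrictCompIso (cV.π.app k) (tr.app k)).app Y ≪≫
      (FEt.restrict (cV.π.app k)).mapIso ((FEt.restrict (tr.app k)).objObjPreimageIso Wk) ≪≫ e⟩⟩

end Groth.Pi1Formal
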