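import Groth.Agent.Pi1Formal.Regular
import Groth.Agent.Pi1Inv.Thickening
import Groth.Agent.Pi1Purity.PurityLocal
import Groth.Agent.RefRank.BigOpen
import Groth.Agent.S14107
import Mathlib

/-!
# Purity in fibrewise codimension two over an arbitrary Noetherian base
-/

universe u

set_option autoImplicit false
set_option backward.isDefEq.respectTransparency false
set_option linter.style.haveILetI false

open CategoryTheory CategoryTheory.Limits AlgebraicGeometry IsLocalRing
open scoped TensorProduct

namespace Groth.Pi1Formal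

open Pi1FEt

/-- Purity may be checked modulo a nil ideal. -/
theorem purityHolds_of_nilQuotient {B : Type u} [CommRing B] [IsLocalRing B] (N : Ideal B)
    [IsLocalRing (B ⧸ N)] (hN : N ≤ nilradical B) (h : FEt.PurityHolds (B ⧸ N)) : FEt.PurityHolds B := by
  let i := Spec.map (CommRingCat.ofHom (Ideal.Quotient.mk N))
  haveI : IsClosedImmersion i := IsClosedImmersion.spec_of_surjective _ Ideal.Quotient.mk_surjective
  haveI : Surjective i := ⟨fun p => by
    have hp : RingHom.ker (Ideal.Quotient.mk N) ≤ (p : PrimeSpectrum B).asIdeal := by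
      rw [Ideal.mk_ker]
      exact hN.trans (nilradical_le_prime _)
    refine ⟨⟨(p : PrimeSpectrum B).asIdeal.map (Ideal.Quotient.mk N),
      Ideal.map_isPrime_of_surjective Ideal.Quotient.mk_surjective hp⟩, PrimeSpectrum.ext ?_⟩
    show Ideal.comap (Ideal.Quotient.mk N) (Ideal.map _ _) = _
    rw [Ideal.comap_map_of_surjective _ Ideal.Quotient.mk_surjective, ← RingHom.ker_eq_comap_bot,
      sup_eq_left.2 hp]⟩
  let U := FEt.puncturedSpec B
  let U' := FEt.puncturedSpec (B ⧸ N)
  have hU : i ⁻¹ᵁ U = U' := by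
    ext p
    refine not_congr ⟨fun hp => ?_, fun hp => ?_⟩
    · refine PrimeSpectrum.ext (le_antisymm (le_maximalIdeal p.isPrime.ne_top) fun x hx => ?_)
      obtain ⟨y, rfl⟩ := Ideal.Quotient.mk_surjective x
      have h1 : y ∈ maximalIdeal B := fun hu => hx (hu.map _)
      rw [show maximalIdeal B = (i p : PrimeSpectrum B).asIdeal from
        (congrArg PrimeSpectrum.asIdeal hp).symm] at h1
      exact h1
    · have h1 : (p : PrimeSpectrum (B ⧸ N)).asIdeal = maximalIdeal (B ⧸ N) := congrArg PrimeSpectrum.asIdeal hp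
      refine PrimeSpectrum.ext ?_
      show Ideal.comap (Ideal.Quotient.mk N) (p : PrimeSpectrum (B ⧸ N)).asIdeal = maximalIdeal B
      rw [h1]
      exact IsLocalRing.eq_maximalIdeal
        (Ideal.comap_isMaximal_of_surjective _ Ideal.Quotient.mk_surjective)
  let eU : (U' : Scheme.{u}) ≅ (i ⁻¹ᵁ U) := (Spec (CommRingCat.of (B ⧸ N))).isoOfEq hU.symm
  let iU := eU.hom ≫ i ∣_ U
  have hiU : iU ≫ U.ι = U'.ι ≫ i := by
    rw [Category.assoc, morphismRestrict_ι, ← Category.assoc]
    congr 1
    exact Scheme.isoOfEq_hom_ι _ _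
  haveI : IsClosedImmersion (i ∣_ U) :=
    MorphismProperty.of_isPullback (isPullback_morphismRestrict i U).flip ‹IsClosedImmersion i›
  haveI : Surjective (i ∣_ U) :=
    MorphismProperty.of_isPullback (isPullback_morphismRestrict i U).flip ‹Surjective i›
  haveI := Pi1Inv.isEquivalence_of_thickening i
  haveI := Pi1Inv.isEquivalence_of_thickening iU
  haveI : (FEt.restrict U'.ι).EssSurj := h
  refine ⟨fun W => ?_⟩
  let W' := (FEt.restrict iU).obj W
  let Y' := (FEt.restrict U'.ι).objPreimage W'
  let Y := (FEt.restrict i).objPreimage Y'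
  exact ⟨Y, ⟨(FEt.restrict iU).preimageIso (((restrictCompIso iU U.ι).app Y).symm ≪≫
    (restrictCongr hiU).app Y ≪≫ (restrictCompIso U'.ι i).app Y ≪≫
    (FEt.restrict U'.ι).mapIso ((FEt.restrict i).objObjPreimageIso Y') ≪≫
    (FEt.restrict U'.ι).objObjPreimageIso W')⟩⟩

theorem purity_congr {S : Type u} [CommRing S] {P P' : Ideal S} [P.IsPrime] [P'.IsPrime] (h : P = P')
    (hd : FEt.PurityHolds (Localization.AtPrime P)) : FEt.PurityHolds (Localization.AtPrime P') := by
  subst h; exact hd

/-- A reduced local ring which is not a field has a regular element in its maximal ideal. -/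
theorem exists_regular_of_not_isField {R : Type u} [CommRing R] [IsLocalRing R] [IsNoetherianRing R]
    [IsReduced R] (h : ¬ IsField R) : ∃ a ∈ maximalIdeal R, IsSMulRegular R a := by
  classical
  have hfin := minimalPrimes.finite_of_isNoetherianRing R
  have hne : ¬ ((maximalIdeal R : Set R) ⊆ ⋃ p ∈ minimalPrimes R, (p : Set R)) := by
    intro hsub
    obtain ⟨p, hp, hle⟩ := (Ideal.subset_union_prime (s := hfin.toFinset) (f := id) ⊤ ⊤
      fun p hp _ _ => Ideal.minimalPrimes_isPrime (hfin.mem_toFinset.1 hp)).1 (by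
        refine hsub.trans fun x hx => ?_
        obtain ⟨p, hp, hx⟩ := Set.mem_iUnion₂.1 hx
        exact Set.mem_iUnion₂.2 ⟨p, hfin.mem_toFinset.2 hp, hx⟩)
    have hp' := hfin.mem_toFinset.1 hp
    haveI := Ideal.minimalPrimes_isPrime hp'
    have heq : maximalIdeal R = p := (maximalIdeal.isMaximal R).eq_of_le Ideal.IsPrime.ne_top' hle
    apply h
    rw [isField_iff_maximalIdeal_eq]
    refine le_antisymm ?_ bot_le
    rw [show (⊥ : Ideal R) = nilradical R from (nilradical_eq_zero R).symm, nilradical_eq_sInf]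
    refine le_sInf fun q hq => ?_
    haveI : q.IsPrime := hq
    have h1 : q ≤ maximalIdeal R := le_maximalIdeal hq.ne_top
    rw [heq] at h1
    exact heq.le.trans (hp'.2 ⟨hq, bot_le⟩ h1)
  obtain ⟨a, ha, hna⟩ := Set.not_subset.1 hne
  refine ⟨a, ha, isSMulRegular_iff_right_eq_zero_of_smul.2 fun b hb => ?_⟩
  have hmem : ∀ p ∈ minimalPrimes R, b ∈ p := fun p hp =>
    ((Ideal.minimalPrimes_isPrime hp).mem_or_mem (show a * b ∈ p by rw [← smul_eq_mul, hb]; exact p.zero_mem)).resolve_left
      fun hap => hna (Set.mem_iUnion₂.2 ⟨p, hp, hap⟩)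
  have h0 : b ∈ sInf (minimalPrimes R) := Submodule.mem_sInf.2 hmem
  rw [minimalPrimes, Ideal.sInf_minimalPrimes] at h0
  simpa [Ideal.radical_bot_of_isReduced, nilradical_eq_zero] using h0

variable {R S : Type u} [CommRing R] [IsNoetherianRing R] [CommRing S] [Algebra R S] [Algebra.Smooth R S]

/-- Purity two steps above a point in a fibre of a smooth algebra. -/
theorem purityHolds_of_chain (P q q₀ : Ideal S) [P.IsPrime] [hq' : q.IsPrime] [hq₀' : q₀.IsPrime]
    (hqP : q < P) (hq₀q : q₀ < q) (hq : q.comap (algebraMap R S) = P.comap (algebraMap R S))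
    (hq₀ : q₀.comap (algebraMap R S) = P.comap (algebraMap R S)) :
    FEt.PurityHolds (Localization.AtPrime P) := by
  let n := nilradical R
  let R' := R ⧸ n
  haveI : IsReduced R' := (Ideal.isRadical_iff_quotient_reduced n).1 (Ideal.radical_isRadical _)
  let J : Ideal S := n.map (algebraMap R S)
  have hJnil : J ≤ nilradical S := Ideal.map_le_iff_le_comap.2 fun x hx =>
    (mem_nilradical.1 hx).map (algebraMap R S)
  let S' := S ⧸ J
  let e : R' ⊗[R] S ≃ₐ[R'] S' := AlgEquiv.ofRingEquiv
    (f := (Algebra.TensorProduct.comm R R' S).toRingEquiv.trans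
      (Algebra.TensorProduct.quotIdealMapEquivTensorQuot (A := R) S n).symm.toRingEquiv) fun x => by
        obtain ⟨r, rfl⟩ := Ideal.Quotient.mk_surjective x
        show (Algebra.TensorProduct.quotIdealMapEquivTensorQuot (A := R) S n).symm
          ((1 : S) ⊗ₜ[R] Ideal.Quotient.mk n r) = _
        rw [Algebra.TensorProduct.quotIdealMapEquivTensorQuot_symm_tmul, Algebra.smul_def, mul_one]
        rfl
  haveI : Algebra.Smooth R' S' := Algebra.Smooth.of_equiv e
  let π : S →+* S' := Ideal.Quotient.mk J
  have hsurj : Function.Surjective π := Ideal.Quotient.mk_surjective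
  have hker : ∀ Q : Ideal S, Q.IsPrime → RingHom.ker π ≤ Q := fun Q hQ => by
    rw [Ideal.mk_ker]
    exact hJnil.trans (nilradical_le_prime Q)
  haveI := Ideal.map_isPrime_of_surjective hsurj (hker P inferInstance)
  haveI := Ideal.map_isPrime_of_surjective hsurj (hker q inferInstance)
  haveI := Ideal.map_isPrime_of_surjective hsurj (hker q₀ inferInstance)
  have hcomap : ∀ Q : Ideal S, Q.IsPrime → (Q.map π).comap π = Q := fun Q hQ => by
    rw [Ideal.comap_map_of_surjective _ hsurj, ← RingHom.ker_eq_comap_bot, sup_eq_left.2 (hker Q hQ)]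
  have hlt : ∀ Q₁ Q₂ : Ideal S, Q₁.IsPrime → Q₂.IsPrime → Q₁ < Q₂ → Q₁.map π < Q₂.map π :=
    fun Q₁ Q₂ h1 h2 hlt => lt_of_le_of_ne (Ideal.map_mono hlt.le) fun he => hlt.ne
      (by rw [← hcomap Q₁ h1, he, hcomap Q₂ h2])
  have hfib : ∀ Q : Ideal S, Q.IsPrime → ((Q.map π).comap (algebraMap R' S')).comap (Ideal.Quotient.mk n) =
      Q.comap (algebraMap R S) := fun Q hQ => by
    rw [Ideal.comap_comap]
    show Ideal.comap (π.comp (algebraMap R S)) _ = _
    rw [← Ideal.comap_comap, hcomap Q hQ]
  have hfib' : ∀ Q : Ideal S, Q.IsPrime → Q.comap (algebraMap R S) = P.comap (algebraMap R S) →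
      (Q.map π).comap (algebraMap R' S') = (P.map π).comap (algebraMap R' S') := fun Q hQ he =>
    Ideal.comap_injective_of_surjective _ Ideal.Quotient.mk_surjective
      ((hfib Q hQ).trans (he.trans (hfib P inferInstance).symm))
  let p' := (P.map π).comap (algebraMap R' S')
  haveI : IsReduced (Localization.AtPrime p') := inferInstance
  suffices hred : FEt.PurityHolds (Localization.AtPrime (P.map π)) by
    let L := Localization.AtPrime P
    let N : Ideal L := J.map (algebraMap S L)
    have hNnil : N ≤ nilradical L := Ideal.map_le_iff_le_comap.2 fun x hx =>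
      (mem_nilradical.1 (hJnil hx)).map (algebraMap S L)
    haveI : Nontrivial (L ⧸ N) := Ideal.Quotient.nontrivial_iff.2
      (ne_top_of_le_ne_top (maximalIdeal.isMaximal L).ne_top (hNnil.trans (nilradical_le_prime _)))
    haveI : IsLocalRing (L ⧸ N) :=
      IsLocalRing.of_surjective' (Ideal.Quotient.mk N) Ideal.Quotient.mk_surjective
    refine purityHolds_of_nilQuotient N hNnil ?_
    haveI : IsLocalization (P.primeCompl.map π) (L ⧸ N) := inferInstanceAs
      (IsLocalization (Algebra.algebraMapSubmonoid (S ⧸ J) P.primeCompl) (L ⧸ J.map (algebraMap S L)))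
    have hM : P.primeCompl.map π = (P.map π).primeCompl := by
      ext y
      constructor
      · rintro ⟨x, hx, rfl⟩ hy
        exact hx ((hcomap P inferInstance).le hy)
      · intro hy
        obtain ⟨x, rfl⟩ := hsurj y
        exact ⟨x, fun hx => hy (Ideal.mem_map_of_mem π hx), rfl⟩
    haveI : IsLocalization.AtPrime (L ⧸ N) (P.map π) := by
      show IsLocalization (P.map π).primeCompl (L ⧸ N)
      rw [← hM]
      infer_instance
    exact purityHolds_of_ringEquiv
      (IsLocalization.algEquiv (P.map π).primeCompl (Localization.AtPrime (P.map π)) (L ⧸ N)).toRingEquiv hred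
  by_cases hF : IsField (Localization.AtPrime p')
  · -- regular case
    let k := Localization.AtPrime p'
    letI : Field k := hF.toField
    have hle : ∀ Q : Ideal S', Q.IsPrime → Q.comap (algebraMap R' S') = p' →
        Disjoint (Algebra.algebraMapSubmonoid S' p'.primeCompl : Set S') Q := fun Q hQ he => by
      rw [Set.disjoint_left]
      rintro _ ⟨r, hr, rfl⟩ hmem
      exact hr (he.le hmem)
    let M := Algebra.algebraMapSubmonoid S' p'.primeCompl
    let o := IsLocalization.orderIsoOfPrime M (Localization M)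
    letI : Algebra k (Localization M) := (IsLocalization.map (T := M) (Localization M) (algebraMap R' S')
      (fun r hr => ⟨r, hr, rfl⟩)).toAlgebra
    haveI : IsScalarTower R' k (Localization M) := IsScalarTower.of_algebraMap_eq fun r => by
      rw [RingHom.algebraMap_toAlgebra, IsLocalization.map_eq]
      exact IsScalarTower.algebraMap_apply R' S' (Localization M) r
    haveI : Algebra.IsPushout R' k S' (Localization M) :=
      (Algebra.isPushout_of_isLocalization p'.primeCompl k S' (Localization M)).symm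
    haveI : Algebra.Smooth k (Localization M) :=
      Algebra.Smooth.of_equiv (Algebra.IsPushout.equiv R' k S' (Localization M))
    let Q₂ := o.symm ⟨P.map π, inferInstance, hle _ inferInstance rfl⟩
    let Q₁ := o.symm ⟨q.map π, inferInstance, hle _ inferInstance (hfib' q hq' hq)⟩
    let Q₀ := o.symm ⟨q₀.map π, inferInstance, hle _ inferInstance (hfib' q₀ hq₀' hq₀)⟩
    haveI := Q₂.2
    haveI : Algebra.IsSmoothAt k Q₂.1 := Algebra.FormallySmooth.comp k (Localization M) _
    haveI : IsRegularLocalRing (Localization.AtPrime Q₂.1) :=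
      Calg4.isRegularLocalRing_of_isSmoothAt (k := k) Q₂.1
    have hQ : Q₀.1 < Q₁.1 ∧ Q₁.1 < Q₂.1 :=
      ⟨o.symm.strictMono (hlt q₀ q hq₀' hq' hq₀q), o.symm.strictMono (hlt q P hq' inferInstance hqP)⟩
    have hdim : (2 : WithBot ℕ∞) ≤ ringKrullDim (Localization.AtPrime Q₂.1) := by
      rw [IsLocalization.AtPrime.ringKrullDim_eq_height Q₂.1 (Localization.AtPrime Q₂.1)]
      haveI := Q₁.2
      haveI := Q₀.2
      have h1 := Ideal.height_add_one_le_of_lt_of_isPrime hQ.1
      have h2 := Ideal.height_add_one_le_of_lt_of_isPrime hQ.2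
      have h3 : (2 : ℕ∞) ≤ Q₂.1.height :=
        calc (2 : ℕ∞) = 0 + 1 + 1 := rfl
          _ ≤ Q₀.1.height + 1 + 1 := by gcongr; exact zero_le
          _ ≤ Q₁.1.height + 1 := by gcongr
          _ ≤ _ := h2
      exact WithBot.coe_le_coe.2 h3
    have h2 : (o Q₂).1 = P.map π := by rw [OrderIso.apply_symm_apply]
    haveI := (o Q₂).2.1
    have h3 : FEt.PurityHolds (Localization.AtPrime ((o Q₂).1)) := by
      exact purityHolds_of_ringEquiv
        (IsLocalization.localizationLocalizationAtPrimeIsoLocalization M Q₂.1).symm.toRingEquiv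
        (Pi1Purity.purityHolds_of_isRegularLocalRing (Localization.AtPrime Q₂.1) hdim)
    exact purity_congr h2 h3
  · obtain ⟨a, ha, hreg⟩ := exists_regular_of_not_isField hF
    obtain ⟨b, s, rfl⟩ := IsLocalization.exists_mk'_eq p'.primeCompl a
    refine (purityHolds_of_smooth (R := R') (P.map π) (q.map π) (hlt q P hq' inferInstance hqP)
      (hfib' q hq' hq) (Or.inr ⟨⟨b, (IsLocalization.AtPrime.mk'_mem_maximal_iff _ p' b s).1 ha, ?_⟩,
        q₀.map π, inferInstance, hlt q₀ q hq₀' hq' hq₀q, hfib' q₀ hq₀' hq₀⟩)).1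
    intro x y hxy
    refine hreg ?_
    simp only [smul_eq_mul] at hxy ⊢
    rw [IsLocalization.mk'_eq_mul_mk'_one, mul_right_comm, hxy, mul_right_comm]

end Groth.Pi1Formal
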